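import Cfsg.Agent.Lib.L4Q.T2
import Cfsg.Agent.Lib.Stein.SLPres

/-! L4Q package MH: the model and the homomorphism. -/

set_option autoImplicit false
set_option linter.unusedSectionVars false

open Matrix H24
open H52.FW (M2 wS dS Act)
open scoped MatrixGroups

namespace H20.L4

variable {G F : Type*} [Group G] [Finite G] [Field F] [Fintype F]

namespace MH

theorem blk_mul (a b a' b' : M2 F) : blk a b * blk a' b' = blk (a * a') (b * b') := by
  ext i j
  fin_cases i <;> fin_cases j <;> simp [blk, Matrix.mul_apply, Fin.sum_univ_four, Fin.sum_univ_two]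

theorem det_blk (a b : M2 F) : (blk a b).det = a.det * b.det := by
  simp [blk, det_succ_row_zero, Fin.sum_univ_succ, Fin.succAbove]
  ring

theorem sw_sw : swM F * swM F = 1 := by
  ext i j
  fin_cases i <;> fin_cases j <;> simp [swM, Matrix.mul_apply, Fin.sum_univ_four]

theorem det_sw : (swM F).det = 1 := by
  simp [swM, det_succ_row_zero, Fin.sum_univ_succ, Fin.succAbove]

theorem sw_blk (a b : M2 F) : swM F * blk a b = blk b a * swM F := by
  ext i j
  fin_cases i <;> fin_cases j <;> simp [swM, blk, Matrix.mul_apply, Fin.sum_univ_four]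

theorem blk_d : blk (-1 : M2 F) 1 = diagonal ![-1, -1, 1, 1] := by
  ext i j
  fin_cases i <;> fin_cases j <;> simp [blk]

theorem blk_eq_smul {a b : M2 F} {l : F} : blk a b = l • 1 ↔ a = l • 1 ∧ b = l • 1 := by
  constructor
  · intro h
    have e := fun i j => congrFun (congrFun h i) j
    constructor <;> ext i j <;> fin_cases i <;> fin_cases j
    · simpa [blk] using e 0 0
    · simpa [blk] using e 0 1
    · simpa [blk] using e 1 0
    · simpa [blk] using e 1 1
    · simpa [blk] using e 2 2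
    · simpa [blk] using e 2 3
    · simpa [blk] using e 3 2
    · simpa [blk] using e 3 3
  · rintro ⟨rfl, rfl⟩
    ext i j
    fin_cases i <;> fin_cases j <;> simp [blk]

/-- Block diagonal elements of `SL₄`. -/
def bS (a b : M2 F) (h : a.det * b.det = 1) : SL(4, F) := ⟨blk a b, by rw [det_blk, h]⟩

variable (F) in
/-- The element exchanging the blocks. -/
def sS : SL(4, F) := ⟨swM F, det_sw⟩

theorem mem_center {g : SL(4, F)} : g ∈ Subgroup.center SL(4, F) ↔ ∃ l : F, g.1 = l • 1 := by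
  rw [Matrix.SpecialLinearGroup.mem_center_iff]
  constructor
  · rintro ⟨r, -, h⟩
    exact ⟨r, by rw [← h, scalar_apply, smul_one_eq_diagonal]⟩
  · rintro ⟨l, h⟩
    refine ⟨l, ?_, by rw [h, scalar_apply, smul_one_eq_diagonal]⟩
    have := g.2
    rwa [h, det_smul, det_one, mul_one] at this

theorem mk_eq {g h : SL(4, F)}
    (e : (QuotientGroup.mk g : ProjectiveSpecialLinearGroup (Fin 4) F) = QuotientGroup.mk h) :
    ∃ l : F, h.1 = l • g.1 := by
  obtain ⟨l, hl⟩ := mem_center.1 (QuotientGroup.eq.1 e)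
  refine ⟨l, ?_⟩
  have : h = g * (g⁻¹ * h) := by group
  rw [this, Matrix.SpecialLinearGroup.coe_mul, hl, mul_smul_comm, mul_one]

theorem two_ne (hF : Odd (Fintype.card F)) : (2 : F) ≠ 0 :=
  Ring.two_ne_zero fun h => by
    have := FiniteField.even_card_of_char_two h
    rw [Nat.odd_iff] at hF
    omega

theorem cen_cases (hF : Odd (Fintype.card F)) {d : SL(4, F)} (hd : d.1 = diagonal ![-1, -1, 1, 1])
    {g : SL(4, F)} (e : (QuotientGroup.mk d * QuotientGroup.mk g :
      ProjectiveSpecialLinearGroup (Fin 4) F) = QuotientGroup.mk g * QuotientGroup.mk d) :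
    ∃ (a b : M2 F) (h : a.det * b.det = 1), g = bS a b h ∨ g = bS a b h * sS F := by
  obtain ⟨l, hl⟩ := mk_eq (g := d * g) (h := g * d) e
  rw [Matrix.SpecialLinearGroup.coe_mul, Matrix.SpecialLinearGroup.coe_mul, hd] at hl
  have k := fun i j => congrFun (congrFun hl i) j
  simp only [mul_diagonal, Matrix.smul_apply, diagonal_mul, smul_eq_mul] at k
  have h2 := two_ne hF
  by_cases h1 : l = 1
  · subst h1
    have z : ∀ x : F, x = -x → x = 0 := fun x hx =>
      (mul_eq_zero.1 (by linear_combination hx : 2 * x = 0)).resolve_left h2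
    have e1 : g.1 = blk !![g.1 0 0, g.1 0 1; g.1 1 0, g.1 1 1] !![g.1 2 2, g.1 2 3; g.1 3 2, g.1 3 3] := by
      ext i j
      have := k i j
      fin_cases i <;> fin_cases j <;> simp [blk] at this ⊢ <;> apply z <;>
        first | exact this | exact this.symm
    exact ⟨_, _, by rw [← det_blk, ← e1, g.2], Or.inl (Subtype.ext e1)⟩
  · have z : ∀ x : F, x = l * x → x = 0 := fun x hx =>
      (mul_eq_zero.1 (by linear_combination -hx : (l - 1) * x = 0)).resolve_left (sub_ne_zero.2 h1)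
    have e1 : g.1 = blk !![g.1 0 2, g.1 0 3; g.1 1 2, g.1 1 3] !![g.1 2 0, g.1 2 1; g.1 3 0, g.1 3 1] *
        swM F := by
      ext i j
      have := k i j
      fin_cases i <;> fin_cases j <;>
        simp [blk, swM, Matrix.mul_apply, Fin.sum_univ_four] at this ⊢ <;> exact z _ this
    refine ⟨_, _, ?_, Or.inr (Subtype.ext e1)⟩
    have := g.2
    rwa [e1, det_mul, det_sw, mul_one, det_blk] at this

theorem bS_mem {d : SL(4, F)} (hd : d.1 = diagonal ![-1, -1, 1, 1]) {a b : M2 F}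
    (h : a.det * b.det = 1) : (QuotientGroup.mk (bS a b h) : ProjectiveSpecialLinearGroup (Fin 4) F) ∈
      Subgroup.centralizer ({(QuotientGroup.mk d : ProjectiveSpecialLinearGroup (Fin 4) F)} : Set _) := by
  rw [Subgroup.mem_centralizer_singleton_iff, ← QuotientGroup.mk_mul, ← QuotientGroup.mk_mul]
  congr 1
  refine Subtype.ext ?_
  rw [Matrix.SpecialLinearGroup.coe_mul, Matrix.SpecialLinearGroup.coe_mul, hd, ← blk_d]
  change blk a b * _ = _ * blk a b
  rw [blk_mul, blk_mul]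
  simp

theorem sS_mem {d : SL(4, F)} (hd : d.1 = diagonal ![-1, -1, 1, 1]) :
    (QuotientGroup.mk (sS F) : ProjectiveSpecialLinearGroup (Fin 4) F) ∈
      Subgroup.centralizer ({(QuotientGroup.mk d : ProjectiveSpecialLinearGroup (Fin 4) F)} : Set _) := by
  rw [Subgroup.mem_centralizer_singleton_iff, ← QuotientGroup.mk_mul, ← QuotientGroup.mk_mul,
    QuotientGroup.eq, mem_center]
  refine ⟨-1, ?_⟩
  have e : d * sS F = (sS F * d) * bS (-1) (-1) (by simp [det_fin_two]) := Subtype.ext (by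
    simp only [Matrix.SpecialLinearGroup.coe_mul, hd, ← blk_d]
    change _ * swM F = swM F * _ * blk _ _
    rw [mul_assoc, blk_mul, sw_blk]
    simp)
  rw [e, inv_mul_cancel_left]
  exact blk_eq_smul.2 ⟨by simp, by simp⟩

/-- The coordinates transported along an injective homomorphism. -/
theorem model0 (hF : Odd (Fintype.card F)) (d : SL(4, F)) (hd : d.1 = diagonal ![-1, -1, 1, 1])
    (θ : Subgroup.centralizer
      ({(QuotientGroup.mk d : ProjectiveSpecialLinearGroup (Fin 4) F)} : Set _) →* G)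
    (hi : Function.Injective θ) {t : G} (ht : ∀ h, θ ⟨QuotientGroup.mk d, h⟩ = t)
    (hc : ∀ c, c * t = t * c → c ∈ θ.range) :
    ∃ B : Bs G F, B.t = t ∧
      (∀ (g : SL(4, F)) a b, g.1 = blk a b → ∀ h, B.ρ a b = θ ⟨QuotientGroup.mk g, h⟩) ∧
      ∀ g : SL(4, F), g.1 = swM F → ∀ h, B.σ = θ ⟨QuotientGroup.mk g, h⟩ := by
  classical
  let ρ : M2 F → M2 F → G := fun a b =>
    if h : a.det * b.det = 1 then θ ⟨QuotientGroup.mk (bS a b h), bS_mem hd h⟩ else 1
  have hρ : ∀ {a b : M2 F} (h : a.det * b.det = 1),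
      ρ a b = θ ⟨QuotientGroup.mk (bS a b h), bS_mem hd h⟩ := fun h => dif_pos h
  have cg : ∀ {g g' : SL(4, F)} {h h'}, g.1 = g'.1 →
      θ ⟨QuotientGroup.mk g, h⟩ = θ ⟨QuotientGroup.mk g', h'⟩ := fun e => by
    obtain rfl := Subtype.ext e
    rfl
  have h1 : (-1 : M2 F).det * (1 : M2 F).det = 1 := by simp [det_fin_two]
  have hρt : ρ (-1) 1 = t := by
    rw [hρ h1, ← ht (Subgroup.mem_centralizer_singleton_iff.2 rfl)]
    exact cg (blk_d.trans hd.symm)
  refine ⟨{ ρ := ρ
            σ := θ ⟨QuotientGroup.mk (sS F), sS_mem hd⟩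
            odd := hF
            mul := fun h h' => ?_
            ker := fun {a b} h => ?_
            σσ := ?_
            sw := fun {a b} h => ?_
            out := fun {a b} h e => ?_
            cen := fun c e => ?_ }, hρt, fun g a b e h => ?_, fun g e h => cg e.symm⟩
  · rw [hρ h, hρ h', hρ (Bs.det_mul' h h'), ← map_mul]
    exact cg (blk_mul ..).symm
  · rw [hρ h, map_eq_one_iff _ hi, Subgroup.mk_eq_one, QuotientGroup.eq_one_iff, mem_center]
    exact exists_congr fun l => blk_eq_smul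
  · rw [← map_mul, ← map_one θ]
    exact cg (g' := 1) sw_sw
  · rw [hρ h, hρ (by rwa [mul_comm]), ← map_mul, ← map_mul]
    exact cg (sw_blk a b)
  · rw [hρ h] at e
    obtain ⟨l, hl⟩ := mk_eq (congrArg Subtype.val (hi e))
    simpa [sS, bS, swM, blk] using congrFun (congrFun hl 0) 2
  · rw [hρt] at e
    obtain ⟨⟨g, hg⟩, rfl⟩ := hc c e
    obtain ⟨g, rfl⟩ := QuotientGroup.mk_surjective g
    obtain ⟨a, b, h, e⟩ := cen_cases hF hd (Subgroup.mem_centralizer_singleton_iff.1 hg).symm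
    refine ⟨a, b, h, e.imp (fun e => ?_) fun e => ?_⟩
    · rw [hρ h]
      exact cg (congrArg Subtype.val e)
    · rw [hρ h, ← map_mul]
      exact cg (congrArg Subtype.val e)
  · have h' : a.det * b.det = 1 := by rw [← det_blk, ← e, g.2]
    exact (hρ h').trans (cg e.symm)

/-- The first block. -/
def j1 : SL(2, F) →* SL(4, F) :=
  MonoidHom.mk' (fun x => bS x.1 1 (by simp)) fun x y => Subtype.ext (by
    change blk _ _ = blk _ _ * blk _ _
    rw [blk_mul, mul_one, Matrix.SpecialLinearGroup.coe_mul])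

/-- The second block. -/
def j2 : SL(2, F) →* SL(4, F) :=
  MonoidHom.mk' (fun x => bS 1 x.1 (by simp)) fun x y => Subtype.ext (by
    change blk _ _ = blk _ _ * blk _ _
    rw [blk_mul, mul_one, Matrix.SpecialLinearGroup.coe_mul])

theorem force_eq_MH : True := by
  have := @bS.eq_1.{0}
  have := @sS.eq_1.{0}
  have := @j1.eq_1.{0}
  have := @j2.eq_1.{0}
  trivial

theorem j1_up (a : F) : j1 (upT a) = H63.St.SL.tv 0 1 a := Subtype.ext (by
  rw [H63.St.SL.coe_tv (by decide)]
  change blk (upT a).1 1 = _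
  ext i j
  fin_cases i <;> fin_cases j <;> simp [blk])

theorem j1_lo (a : F) : j1 (loT a) = H63.St.SL.tv 1 0 a := Subtype.ext (by
  rw [H63.St.SL.coe_tv (by decide)]
  change blk (loT a).1 1 = _
  ext i j
  fin_cases i <;> fin_cases j <;> simp [blk])

theorem j2_up (a : F) : j2 (upT a) = H63.St.SL.tv 2 3 a := Subtype.ext (by
  rw [H63.St.SL.coe_tv (by decide)]
  change blk 1 (upT a).1 = _
  ext i j
  fin_cases i <;> fin_cases j <;> simp [blk])

theorem j2_lo (a : F) : j2 (loT a) = H63.St.SL.tv 3 2 a := Subtype.ext (by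
  rw [H63.St.SL.coe_tv (by decide)]
  change blk 1 (loT a).1 = _
  ext i j
  fin_cases i <;> fin_cases j <;> simp [blk])

theorem sS_j1 (x : SL(2, F)) : sS F * j1 x = j2 x * sS F := Subtype.ext (sw_blk _ _)

theorem neg_one_eq {c : F} (hc : c ≠ 0) :
    (-1 : SL(2, F)) = (upT c * loT (-c⁻¹) * upT c) * (upT c * loT (-c⁻¹) * upT c) := by
  refine Subtype.ext ?_
  simp only [Matrix.SpecialLinearGroup.coe_mul, coe_upT, coe_loT, Matrix.SpecialLinearGroup.coe_neg,
    Matrix.SpecialLinearGroup.coe_one]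
  ext i j
  fin_cases i <;> fin_cases j <;> simp [Matrix.mul_apply, Fin.sum_univ_two, hc]

end MH

open MH

theorem model (hF : Odd (Fintype.card F)) (d : SL(4, F)) (hd : d.1 = diagonal ![-1, -1, 1, 1]) {t : G}
    (ht : orderOf t = 2) (e : Subgroup.centralizer ({t} : Set G) ≃*
      Subgroup.centralizer ({(QuotientGroup.mk d : ProjectiveSpecialLinearGroup (Fin 4) F)} : Set _)) :
    ∃ B : Bs G F, B.t = t ∧
      (∀ (g : SL(4, F)) a b, g.1 = blk a b → ∀ h, B.ρ a b = e.symm ⟨QuotientGroup.mk g, h⟩) ∧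
      ∀ g : SL(4, F), g.1 = swM F → ∀ h, B.σ = e.symm ⟨QuotientGroup.mk g, h⟩ := by
  obtain ⟨B, hB, -⟩ := model0 hF d hd (Subgroup.subtype _) Subtype.val_injective
    (t := QuotientGroup.mk d) (fun _ => rfl)
    (fun c hc => ⟨⟨c, Subgroup.mem_centralizer_singleton_iff.2 hc⟩, rfl⟩)
  have m : t ∈ Subgroup.centralizer ({t} : Set G) := Subgroup.mem_centralizer_singleton_iff.2 rfl
  have hC : ∀ c, B.C c ↔ c ∈ Subgroup.centralizer
      ({(QuotientGroup.mk d : ProjectiveSpecialLinearGroup (Fin 4) F)} : Set _) := fun c => by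
    rw [Bs.C, hB, Subgroup.mem_centralizer_singleton_iff]
  have k : (e ⟨t, m⟩).1 = QuotientGroup.mk d := by
    rcases Bs.C.center ((hC _).2 (e ⟨t, m⟩).2) (fun g hg => by
      obtain ⟨x, hx⟩ := e.surjective ⟨g, (hC g).1 hg⟩
      have : e ⟨t, m⟩ * e x = e x * e ⟨t, m⟩ := by
        rw [← map_mul, ← map_mul]
        exact congrArg e (Subtype.ext (Subgroup.mem_centralizer_singleton_iff.1 x.2).symm)
      rw [hx] at this
      exact congrArg Subtype.val this) with h | h
    · have : (⟨t, m⟩ : Subgroup.centralizer ({t} : Set G)) = 1 :=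
        e.injective ((Subtype.ext h).trans (map_one e).symm)
      rw [show t = 1 from congrArg Subtype.val this, orderOf_one] at ht
      omega
    · rw [h, hB]
  exact model0 hF d hd ((Subgroup.subtype _).comp e.symm.toMonoidHom)
    (Subtype.val_injective.comp e.symm.injective)
    (fun h => congrArg Subtype.val (e.symm_apply_eq.2 (Subtype.ext k.symm) : e.symm ⟨_, h⟩ = ⟨t, m⟩))
    (fun c hc => ⟨e ⟨c, Subgroup.mem_centralizer_singleton_iff.2 hc⟩, by simp⟩)

theorem ker_eq (B : Bs G F) (ψ : SL(4, F) →* G) {c : F} (hc : c ≠ 0) (h : ∀ a,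
    ψ (H63.St.SL.tv 0 1 a) = B.f1 (upT a) ∧ ψ (H63.St.SL.tv 1 0 a) = B.f1 (loT a) ∧
    ψ (H63.St.SL.tv 2 3 a) = B.f2 (upT (c * a)) ∧ ψ (H63.St.SL.tv 3 2 a) = B.f2 (loT (c⁻¹ * a))) :
    ψ.ker = Subgroup.center _ ∧ ∀ d : SL(4, F), d.1 = diagonal ![-1, -1, 1, 1] → ψ d = B.t := by
  have a1 : ∀ x, ψ (j1 x) = B.f1 x := fun x =>
    Bs.mem_of_up_lo (MonoidHom.id SL(2, F)) (K := (ψ.comp j1).eqLocus B.f1)
      (fun a => show ψ (j1 (upT a)) = _ by rw [j1_up]; exact (h a).1)
      (fun a => show ψ (j1 (loT a)) = _ by rw [j1_lo]; exact (h a).2.1) x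
  have u2 : ∀ a, ψ (j2 (upT a)) = B.f2 (upT (c * a)) := fun a => by rw [j2_up]; exact (h a).2.2.1
  have l2 : ∀ a, ψ (j2 (loT a)) = B.f2 (loT (c⁻¹ * a)) := fun a => by rw [j2_lo]; exact (h a).2.2.2
  have a2 : ∀ x, B.f2 x ∈ ψ.range := Bs.mem_of_up_lo B.f2
    (fun a => ⟨j2 (upT (c⁻¹ * a)), by rw [u2, mul_inv_cancel_left₀ hc]⟩)
    (fun a => ⟨j2 (loT (c * a)), by rw [l2, inv_mul_cancel_left₀ hc]⟩)
  have t1 : ψ (j1 (-1)) = B.t := by rw [a1, B.f1_neg_one]
  have t2 : ψ (j2 (-1)) = B.t := by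
    rw [← B.f2_neg_one, neg_one_eq hc]
    conv_lhs => rw [← neg_one_eq hc, neg_one_eq (one_ne_zero (α := F))]
    simp only [map_mul, u2, l2, mul_one, inv_one, mul_neg]
  have le : ψ.ker ≤ Subgroup.center _ := by
    have := H10.isSimpleGroup_PSL_of_three_le (ι := Fin 4) (F := F) (by simp)
    rcases (Subgroup.Normal.map (inferInstance : ψ.ker.Normal) (QuotientGroup.mk' (Subgroup.center SL(4, F)))
      (QuotientGroup.mk'_surjective _)).eq_bot_or_eq_top with e | e
    · rwa [Subgroup.map_eq_bot_iff, QuotientGroup.ker_mk'] at e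
    · exfalso
      obtain ⟨n, hn, e⟩ := (e ▸ Subgroup.mem_top _ : QuotientGroup.mk (j1 (upT (1 : F))) ∈
        ψ.ker.map (QuotientGroup.mk' (Subgroup.center SL(4, F))))
      have k := congrArg ψ (Subgroup.mem_center_iff.1 (QuotientGroup.eq.1 e) (j1 (loT 1)))
      simp only [map_mul, map_inv, show ψ n = 1 from hn, inv_one, one_mul, a1] at k
      rw [← map_mul, ← map_mul] at k
      have := congrArg (fun x : SL(2, F) => x.1 0 0) (B.f1_inj k)
      simp [coe_upT, coe_loT, Matrix.mul_apply, Fin.sum_univ_two] at this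
  refine ⟨le_antisymm le fun s hs => ?_, fun d hd => ?_⟩
  swap
  · rw [← t1]
    exact congrArg ψ (Subtype.ext (hd.trans blk_d.symm))
  have cm : ∀ g ∈ ψ.range, ψ s * g = g * ψ s := by
    rintro _ ⟨g, rfl⟩
    rw [← map_mul, ← map_mul, Subgroup.mem_center_iff.1 hs]
  obtain ⟨m, m', hm, e⟩ := Bs.C.cen_Y (B := B) (cm _ ⟨_, t1⟩) (fun x => cm _ ⟨_, a1 x⟩)
    fun x => cm _ (a2 x)
  have dm : ∀ {x y : F}, x ^ 2 * y ^ 2 = 1 → (x • (1 : M2 F)).det * (y • (1 : M2 F)).det = 1 :=
    fun hx => by simpa using hx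
  have w : ∀ x, ψ (sS F) * B.f1 x = ψ (j2 x) * ψ (sS F) := fun x => by
    rw [← a1, ← map_mul, sS_j1, map_mul]
  have hw : B.C (ψ (sS F)) := by
    have := w (-1)
    rwa [t2, B.f1_neg_one] at this
  rcases B.C_iff.1 hw with hw | ⟨a, b, hab, hw⟩
  · exfalso
    obtain ⟨y, hy⟩ := hw.conj1 (upT 1)
    rw [w, mul_inv_cancel_right, u2, mul_one] at hy
    rcases B.f1_eq_f2 hy.symm with ⟨-, k⟩ | ⟨-, k⟩ <;>
      exact hc (by simpa using congrArg (fun x : SL(2, F) => x.1 0 1) k)
  have k := cm _ ⟨sS F, hw⟩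
  rw [e] at k
  obtain ⟨l, -, k1, k2⟩ := (B.out_comm_iff hab (dm hm)).1 k.symm
  have nz : ∀ {x : M2 F} {r r' : F}, x.det ≠ 0 → r • (1 : M2 F) * x = l • (x * r' • (1 : M2 F)) →
      r = l * r' := fun {x r r'} hx k => by
    rw [smul_mul_assoc, one_mul, mul_smul_comm, mul_one, smul_smul] at k
    by_contra n
    have : (r - l * r') • x = 0 := by rw [sub_smul, k, sub_self]
    rw [(smul_eq_zero.1 this).resolve_left (sub_ne_zero.2 n), det_zero] at hx
    exact hx rfl
  have e1 := nz (left_ne_zero_of_mul_eq_one hab) k1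
  have e2 := nz (right_ne_zero_of_mul_eq_one hab) k2
  have e3 : (m - m') * (m + m') = 0 := by linear_combination m * e1 - m' * e2
  rcases mul_eq_zero.1 e3 with e3 | e3
  · rw [MonoidHom.mem_ker, e, B.ker (dm hm)]
    exact ⟨m, rfl, by rw [sub_eq_zero.1 e3]⟩
  · exfalso
    obtain rfl : m = -m' := eq_neg_of_add_eq_zero_left e3
    have hm' : m' ^ 2 * m' ^ 2 = 1 := by linear_combination hm
    rw [neg_smul, ← B.t_mul (dm hm'), (B.ker (dm hm')).2 ⟨m', rfl, rfl⟩, mul_one, ← t1] at e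
    have : s⁻¹ * j1 (-1) ∈ ψ.ker := by rw [MonoidHom.mem_ker, map_mul, map_inv, e, inv_mul_cancel]
    obtain ⟨r, hr⟩ := mem_center.1 ((Subgroup.mul_mem_cancel_left _ (inv_mem hs)).1 (le this))
    obtain ⟨r1, r2⟩ := blk_eq_smul.1 hr
    have r1 := congrFun (congrFun r1 0) 0
    have r2 := congrFun (congrFun r2 0) 0
    simp at r1 r2
    exact B.two (by linear_combination r2 - r1)

theorem exists_md (hF : Odd (Fintype.card F)) (d : SL(4, F)) (hd : d.1 = diagonal ![-1, -1, 1, 1])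
    {t : G} (ht : orderOf t = 2) (e : Subgroup.centralizer ({t} : Set G) ≃*
      Subgroup.centralizer ({(QuotientGroup.mk d : ProjectiveSpecialLinearGroup (Fin 4) F)} : Set _))
    (ψ : SL(4, F) →* G) (hk : ψ.ker = Subgroup.center _) (hψ : ψ d = t) :
    ∃ B : Bs G F, B.t = t ∧ Md ψ B := by
  let φ : ProjectiveSpecialLinearGroup (Fin 4) F →* G := QuotientGroup.lift _ ψ hk.ge
  have hi : Function.Injective φ := by
    rw [injective_iff_map_eq_one]
    intro g hg
    obtain ⟨g, rfl⟩ := QuotientGroup.mk_surjective g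
    exact (QuotientGroup.eq_one_iff _).2 (hk.le hg)
  let θ := φ.comp (Subgroup.centralizer
    ({(QuotientGroup.mk d : ProjectiveSpecialLinearGroup (Fin 4) F)} : Set _)).subtype
  have hθ : Function.Injective θ := hi.comp Subtype.val_injective
  have le : θ.range ≤ Subgroup.centralizer ({t} : Set G) := by
    rintro _ ⟨g, rfl⟩
    have := congrArg φ (Subgroup.mem_centralizer_singleton_iff.1 g.2)
    rw [map_mul, map_mul, show φ (QuotientGroup.mk d) = t from hψ] at this
    exact Subgroup.mem_centralizer_singleton_iff.2 this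
  have eq : θ.range = Subgroup.centralizer ({t} : Set G) :=
    Subgroup.eq_of_le_of_card_ge le
      ((Nat.card_congr e.toEquiv).trans (Nat.card_congr (MonoidHom.ofInjective hθ).toEquiv)).le
  obtain ⟨B, hB, h1, h2⟩ := model0 hF d hd θ hθ (t := t) (fun _ => hψ)
    fun c hc => eq.ge (Subgroup.mem_centralizer_singleton_iff.2 hc)
  refine ⟨B, hB, hk, fun g a b k => ?_, fun g k => ?_⟩
  · have h : a.det * b.det = 1 := by rw [← det_blk, ← k, g.2]
    obtain rfl : g = bS a b h := Subtype.ext k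
    exact (h1 _ a b k (bS_mem hd h)).symm
  · obtain rfl : g = sS F := Subtype.ext k
    exact (h2 _ k (sS_mem hd)).symm

theorem Md.equiv {ψ : SL(4, F) →* G} {B : Bs G F} (h : Md ψ B) (hs : ψ.range = ⊤) :
    Nonempty (G ≃* ProjectiveSpecialLinearGroup (Fin 4) F) :=
  ⟨(QuotientGroup.quotientKerEquivOfSurjective ψ (MonoidHom.range_eq_top.1 hs)).symm.trans
    (QuotientGroup.quotientMulEquivOfEq h.ker)⟩

end H20.L4
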