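import Cfsg.Agent.Lib.L4Q.Fus1

/-! L4Q package Big5: two commuting `p`-elements for `q = 3, 5`; `C(X₀₁) ≰ C(t)` for `q = 5`. -/

set_option autoImplicit false
set_option linter.unusedSectionVars false

open Matrix H24
open H52.FW (M2 wS dS Act)
open scoped MatrixGroups

namespace H20.L4.Big5

variable {G F : Type*} [Group G] [Field F] [Fintype F]

theorem char_eq {p : ℕ} (hp : p.Prime) (h : Fintype.card F = p) : ringChar F = p := by
  have h1 : ((p : ℕ) : F) = 0 := h ▸ FiniteField.cast_card_eq_zero F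
  exact (Nat.prime_dvd_prime_iff_eq Bs.p_prime hp).1 ((ringChar.spec F p).1 h1)

theorem exists_nat {p : ℕ} (hp : p.Prime) (h : Fintype.card F = p) (a : F) : ∃ k : ℕ, (k : F) = a := by
  haveI := Fact.mk hp
  haveI : CharP F p := ringChar.of_eq (char_eq hp h)
  obtain ⟨z, rfl⟩ := (ZMod.ringEquiv F h).surjective a
  exact ⟨z.val, by rw [← map_natCast (ZMod.ringEquiv F h), ZMod.natCast_zmod_val]⟩

theorem tr_conj (g x : SL(2, F)) : (g * x * g⁻¹).1.trace = x.1.trace := by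
  rw [H52.FW.val_mul, trace_mul_comm, ← H52.FW.val_mul, inv_mul_cancel_left]

theorem tr_inv (x : SL(2, F)) : (x⁻¹).1.trace = x.1.trace := by
  rw [H52.FW.val_inv, adjugate_fin_two, trace_fin_two, trace_fin_two]
  simp [add_comm]

theorem tr_neg (x : SL(2, F)) : (-x).1.trace = -x.1.trace := by rw [H52.FW.val_neg, trace_neg]

theorem ch (x : SL(2, F)) : x.1 * x.1 = x.1.trace • x.1 - 1 := by
  have d := x.2
  rw [det_fin_two] at d
  rw [trace_fin_two]
  ext i j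
  fin_cases i <;> fin_cases j <;> simp [Matrix.mul_apply, Fin.sum_univ_two] <;> grind

theorem six0 {x : SL(2, F)} (h : x.1.trace = 0) : x ^ 6 = -1 := by
  have e : x * x = -1 := Subtype.ext (by rw [H52.FW.val_mul, ch, h]; simp)
  calc x ^ 6 = (x * x) ^ 3 := by rw [← pow_two, ← pow_mul]
    _ = -1 := by rw [e]; simp [pow_succ]

theorem six1 {x : SL(2, F)} (h : x.1.trace = -1) : x ^ 6 = 1 := by
  have e : x * x * x = 1 := Subtype.ext (by
    rw [H52.FW.val_mul, H52.FW.val_mul, ch, h, sub_mul, smul_mul_assoc, ch, h]; simp)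
  calc x ^ 6 = (x * x * x) ^ 2 := by rw [← pow_two, ← pow_succ, ← pow_mul]
    _ = 1 := by rw [e, one_pow]

theorem six1' {x : SL(2, F)} (h : x.1.trace = 1) : x ^ 6 = 1 := by
  rw [← Even.neg_pow (by decide), six1 (by rw [tr_neg, h])]

/-- traces of `x ^ k * e` and `x ^ k * e⁻¹` -/
theorem tr_pow {x e : SL(2, F)} (hx : x.1.trace = 2) (he : e.1.trace = 2) : x * e = e * x ∨ ∃ μ : F, μ ≠ 0 ∧
    ∀ k : ℕ, (x ^ k * e).1.trace = 2 + k * μ ∧ (x ^ k * e⁻¹).1.trace = 2 - k * μ := by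
  obtain ⟨g, c, rfl⟩ := Bs.conj_up_of_tr hx
  obtain ⟨e, rfl⟩ : ∃ e', e = g * e' * g⁻¹ := ⟨g⁻¹ * e * g, by group⟩
  rw [tr_conj] at he
  have d := e.2
  rw [det_fin_two] at d
  rw [trace_fin_two] at he
  by_cases h : c * e.1 1 0 = 0
  · left
    rw [conj_mul, conj_mul]
    congr 2
    ext i j
    rw [H52.FW.val_mul, H52.FW.val_mul]
    fin_cases i <;> fin_cases j <;> simp [Matrix.mul_apply, Fin.sum_univ_two] <;> grind
  · refine Or.inr ⟨_, h, fun k => ?_⟩
    rw [conj_pow, conj_inv, conj_mul, conj_mul, tr_conj, tr_conj, upT_pow, H52.FW.val_mul, H52.FW.val_mul,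
      H52.FW.val_inv, adjugate_fin_two, trace_fin_two, trace_fin_two]
    constructor <;> simp [Matrix.mul_apply, Fin.sum_univ_two] <;> grind

variable (B : Bs G F)

include B in
theorem four {x y : SL(2, F)} (hx : x.1.trace = 2) (hy : y.1.trace = 2) : x ≠ -y := fun e => by
  rw [e, tr_neg, hy] at hx
  exact B.two (mul_self_eq_zero.1 (by linear_combination -hx))

theorem mm (x y x' y' : SL(2, F)) : B.f1 x * B.f2 y * (B.f1 x' * B.f2 y') = B.f1 (x * x') * B.f2 (y * y') := by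
  rw [map_mul, map_mul, mul_assoc, mul_assoc, ← mul_assoc (B.f2 y), ← B.f12_comm, mul_assoc]

theorem mp (x y : SL(2, F)) (n : ℕ) : (B.f1 x * B.f2 y) ^ n = B.f1 (x ^ n) * B.f2 (y ^ n) := by
  rw [map_pow, map_pow]; exact (show Commute _ _ from B.f12_comm x y).mul_pow n

theorem mi (x y : SL(2, F)) : (B.f1 x * B.f2 y)⁻¹ = B.f1 x⁻¹ * B.f2 y⁻¹ := by
  rw [B.f12_comm, _root_.mul_inv_rev, map_inv, map_inv]

theorem σm (x y : SL(2, F)) : B.σ * (B.f1 x * B.f2 y) * B.σ⁻¹ = B.f1 y * B.f2 x := by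
  rw [← conj_mul, B.σ_f1, B.σ_f2, B.f12_comm]

theorem core (hq : Fintype.card F = 3 ∨ Fintype.card F = 5) {y e : G} (hy : B.C y) (he : B.C e)
    (y1 : y ^ ringChar F ^ 1 = 1) (e1 : e ^ ringChar F ^ 1 = 1)
    (ay : B.σ * y * B.σ⁻¹ = y) (ae : B.σ * e * B.σ⁻¹ = e⁻¹) :
    y * e = e * y ∨ ∃ k : ℕ, (y ^ k * e) ^ 6 = B.t := by
  obtain ⟨x, x', rfl, t1, t2⟩ := hy.unip y1
  obtain ⟨e, e', rfl, t3, t4⟩ := he.unip e1
  rw [σm] at ay ae
  rw [mi] at ae
  obtain ⟨rfl, -⟩ := (B.f12_eq ay).resolve_right fun h => four B t2 t1 h.1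
  obtain ⟨rfl, -⟩ := (B.f12_eq ae).resolve_right fun h => four B t4 (by rw [tr_inv, t3]) h.1
  rcases tr_pow t1 t3 with h | ⟨μ, h0, h⟩
  · left
    rw [mm, mm, h, (show Commute x' e from h).inv_right.eq]
  right
  rcases hq with hq | hq
  · obtain ⟨k, hk⟩ := exists_nat Nat.prime_three hq μ⁻¹
    have h3 : ((3 : ℕ) : F) = 0 := hq ▸ FiniteField.cast_card_eq_zero F
    obtain ⟨a1, a2⟩ := h k
    rw [hk, inv_mul_cancel₀ h0] at a1 a2
    refine ⟨k, ?_⟩
    rw [mp, mm, mp, six0 (a1.trans (by rw [← h3]; norm_num)), six1' (a2.trans (by norm_num)), map_one, mul_one,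
      B.f1_neg_one]
  · obtain ⟨k, hk⟩ := exists_nat Nat.prime_five hq (2 * μ⁻¹)
    have h5 : ((5 : ℕ) : F) = 0 := hq ▸ FiniteField.cast_card_eq_zero F
    obtain ⟨a1, a2⟩ := h k
    rw [hk, mul_assoc, inv_mul_cancel₀ h0] at a1 a2
    refine ⟨k, ?_⟩
    rw [mp, mm, mp, six1 (a1.trans (by push_cast at h5; linear_combination h5)), six0 (a2.trans (by norm_num)),
      map_one, one_mul, B.f2_neg_one]

theorem eq_one_of_inv {e : G} {n : ℕ} (hn : Odd n) (h : e ^ n = 1) (h' : e = e⁻¹) : e = 1 := by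
  obtain ⟨k, rfl⟩ := hn
  rwa [pow_succ, pow_mul, pow_two, mul_eq_one_iff_eq_inv.2 h', one_pow, one_mul] at h

/-- the diagonal `SL₂` -/
def φ : SL(2, F) →* G := MonoidHom.mk' (fun z => B.f1 z * B.f2 z) fun a b => (mm B a a b b).symm

theorem φ_apply (z : SL(2, F)) : φ B z = B.f1 z * B.f2 z := rfl

theorem φ_C (z : SL(2, F)) : B.C (φ B z) := (B.in_f1 z).C.mul (B.in_f2 z).C

theorem φ_σ (z : SL(2, F)) : φ B z * B.σ = B.σ * φ B z := (mul_inv_eq_iff_eq_mul.1 (σm B z z)).symm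

theorem φ_of {c : G} (hc : B.C c) (h : c * B.σ = B.σ * c) (e : c ^ ringChar F ^ 1 = 1) :
    ∃ x : SL(2, F), c = φ B x ∧ x.1.trace = 2 := by
  obtain ⟨x, x', rfl, t1, t2⟩ := hc.unip e
  have ay := mul_inv_eq_iff_eq_mul.2 h.symm
  rw [σm] at ay
  obtain ⟨rfl, -⟩ := (B.f12_eq ay).resolve_right fun h => four B t2 t1 h.1
  exact ⟨_, rfl, t1⟩

theorem up_lo : φ B (upT 1) * φ B (loT 1) ≠ φ B (loT 1) * φ B (upT 1) := fun e => by
  rw [← map_mul, ← map_mul] at e
  rcases B.f12_eq e with h | h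
  · have := congrArg (fun g : SL(2, F) => g.1 0 0) h.1
    simp [H52.FW.val_mul, Matrix.mul_apply, Fin.sum_univ_two] at this
  · have := congrArg (fun g : SL(2, F) => g.1 0 1) h.1
    simp [H52.FW.val_mul, Matrix.mul_apply, Fin.sum_univ_two] at this
    exact B.two (by linear_combination this)

/-- `r` permutes `t`, `t σ`, `σ` cyclically -/
def Cy (r : G) : Prop := r * B.t * r⁻¹ = B.t * B.σ ∧ r * B.σ * r⁻¹ = B.t

variable {B}

theorem Cy.φ_mul {r : G} (h : Cy B r) (z : SL(2, F)) : Cy B (φ B z * r) := by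
  have a := (φ_C B z).conj_t
  have b := mul_inv_eq_iff_eq_mul.2 (φ_σ B z)
  constructor
  · calc _ = φ B z * (r * B.t * r⁻¹) * (φ B z)⁻¹ := by group
      _ = _ := by rw [h.1, ← conj_mul, a, b]
  · calc _ = φ B z * (r * B.σ * r⁻¹) * (φ B z)⁻¹ := by group
      _ = _ := by rw [h.2, a]

theorem Cy.tσ {r : G} (h : Cy B r) : r * (B.t * B.σ) * r⁻¹ = B.σ := by
  rw [← conj_mul, h.1, h.2, mul_assoc, B.C_σ, ← mul_assoc, B.tt, one_mul]

theorem cm_cj {a b : G} (h : a * b = b * a) (r : G) :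
    r * a * r⁻¹ * (r * b * r⁻¹) = r * b * r⁻¹ * (r * a * r⁻¹) := by rw [conj_mul, conj_mul, h]

theorem Cy.unip {r : G} (h : Cy B r) {x : SL(2, F)} (hx : x.1.trace = 2) :
    ∃ x' : SL(2, F), r * φ B x * r⁻¹ = φ B x' ∧ x'.1.trace = 2 := by
  refine φ_of B ?_ ?_ ?_
  · have := cm_cj (φ_σ B x) r
    rwa [h.2] at this
  · have := cm_cj (show φ B x * (B.t * B.σ) = B.t * B.σ * φ B x from
      Commute.mul_right (φ_C B x) (φ_σ B x)) r
    rwa [h.tσ] at this
  · rw [conj_pow, ← map_pow, pow_one, Bs.pow_p_of_tr hx, map_one]; simp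

theorem iter4 {r : G} {v : F → G} {k : F} (h : ∀ a, r * v a * r⁻¹ = v (k * a)) (a : F) :
    r ^ 4 * v a * (r ^ 4)⁻¹ = v (k ^ 4 * a) := by
  calc _ = r * (r * (r * (r * v a * r⁻¹) * r⁻¹) * r⁻¹) * r⁻¹ := by simp only [pow_succ, pow_zero]; group
    _ = _ := by rw [h, h, h, h]; congr 1; ring

theorem Cy.adj {r : G} (h : Cy B r) (h5 : Fintype.card F = 5) :
    ∃ r, Cy B r ∧ ∀ z, r * φ B z = φ B z * r := by
  have tu : ∀ a : F, (upT a).1.trace = 2 := fun a => by rw [trace_fin_two]; norm_num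
  have tl : ∀ a : F, (loT a).1.trace = 2 := fun a => by rw [trace_fin_two]; norm_num
  obtain ⟨x, e1, t1⟩ := h.unip (tu 1)
  obtain ⟨g, k, rfl⟩ := Bs.conj_up_of_tr t1
  have h1 := h.φ_mul g⁻¹
  have e2 : φ B g⁻¹ * r * φ B (upT 1) * (φ B g⁻¹ * r)⁻¹ = φ B (upT k) := by
    calc _ = φ B g⁻¹ * (r * φ B (upT 1) * r⁻¹) * (φ B g⁻¹)⁻¹ := by group
      _ = _ := by rw [e1, ← map_inv, ← map_mul, ← map_mul]; congr 1; group
  generalize φ B g⁻¹ * r = r1 at h1 e2
  obtain ⟨x, e3, t2⟩ := h1.unip (tl 1)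
  have d := x.2
  rw [det_fin_two] at d
  rw [trace_fin_two] at t2
  have nc : k * x.1 1 0 ≠ 0 := fun h0 => up_lo B (by
    have : upT k * x = x * upT k := by
      ext i j
      rw [H52.FW.val_mul, H52.FW.val_mul]
      fin_cases i <;> fin_cases j <;> simp [Matrix.mul_apply, Fin.sum_univ_two] <;> grind
    have e4 := congrArg (φ B) this
    rw [map_mul, map_mul, ← e2, ← e3, conj_mul, conj_mul] at e4
    simpa using e4)
  have k0 := left_ne_zero_of_mul nc
  have c0 := right_ne_zero_of_mul nc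
  set m := (1 - x.1 0 0) / x.1 1 0 with hm
  have h2 := h1.φ_mul (upT m)
  have e4 : φ B (upT m) * r1 * φ B (upT 1) * (φ B (upT m) * r1)⁻¹ = φ B (upT k) := by
    calc _ = φ B (upT m) * (r1 * φ B (upT 1) * r1⁻¹) * (φ B (upT m))⁻¹ := by group
      _ = _ := by
        rw [e2, ← map_inv, ← map_mul, ← map_mul, upT_inv, ← upT_add, ← upT_add]; congr 2; ring
  have e5 : φ B (upT m) * r1 * φ B (loT 1) * (φ B (upT m) * r1)⁻¹ = φ B (loT (x.1 1 0)) := by
    calc _ = φ B (upT m) * (r1 * φ B (loT 1) * r1⁻¹) * (φ B (upT m))⁻¹ := by group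
      _ = _ := by
        rw [e3, ← map_inv, ← map_mul, ← map_mul]
        congr 1
        rw [mul_inv_eq_iff_eq_mul]
        have hm' : m * x.1 1 0 = 1 - x.1 0 0 := div_mul_cancel₀ _ c0
        ext i j
        rw [H52.FW.val_mul, H52.FW.val_mul]
        fin_cases i <;> fin_cases j <;> simp [Matrix.mul_apply, Fin.sum_univ_two] <;> grind
  generalize φ B (upT m) * r1 = r2 at h2 e4 e5
  have p4 : ∀ a : F, a ≠ 0 → a ^ 4 = 1 := fun a ha => by
    have := FiniteField.pow_card_sub_one_eq_one a ha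
    rwa [h5] at this
  refine ⟨r2 ^ 4, ⟨?_, ?_⟩, fun z => ?_⟩
  · calc _ = r2 * (r2 * (r2 * (r2 * B.t * r2⁻¹) * r2⁻¹) * r2⁻¹) * r2⁻¹ := by
          simp only [pow_succ, pow_zero]; group
      _ = _ := by rw [h2.1, h2.tσ, h2.2, h2.1]
  · calc _ = r2 * (r2 * (r2 * (r2 * B.σ * r2⁻¹) * r2⁻¹) * r2⁻¹) * r2⁻¹ := by
          simp only [pow_succ, pow_zero]; group
      _ = _ := by rw [h2.2, h2.1, h2.tσ, h2.2]
  · refine (Subgroup.mem_centralizer_singleton_iff.1 (Bs.mem_of_up_lo (φ B)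
      (K := Subgroup.centralizer {r2 ^ 4}) (fun a => ?_) (fun a => ?_) z)).symm
    · have := iter4 (r := r2) (v := fun a => φ B (upT a)) (k := k) (fun a => by
        obtain ⟨n, rfl⟩ := exists_nat Nat.prime_five h5 a
        rw [mul_comm k, ← upT_pow, map_pow, ← e4, conj_pow, ← map_pow, upT_pow, mul_one]) a
      rw [p4 k k0, one_mul] at this
      exact Subgroup.mem_centralizer_singleton_iff.2 (mul_inv_eq_iff_eq_mul.1 this).symm
    · have := iter4 (r := r2) (v := fun a => φ B (loT a)) (k := x.1 1 0) (fun a => by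
        obtain ⟨n, rfl⟩ := exists_nat Nat.prime_five h5 a
        rw [mul_comm (x.1 1 0), ← loT_pow, map_pow, ← e5, conj_pow, ← map_pow, loT_pow, mul_one]) a
      rw [p4 _ c0, one_mul] at this
      exact Subgroup.mem_centralizer_singleton_iff.2 (mul_inv_eq_iff_eq_mul.1 this).symm

end H20.L4.Big5

namespace H20.L4.Bs

variable {G F : Type*} [Group G] [Finite G] [Field F] [Fintype F] (B : Bs G F)

open Big5

theorem comm35 (hq : Fintype.card F = 3 ∨ Fintype.card F = 5) {y e a : G} (hy : B.C y) (he : B.C e)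
    (ha : B.C a) (y1 : y ^ Fintype.card F = 1) (e1 : e ^ Fintype.card F = 1) (aa : a * a = 1)
    (ay : a * y * a⁻¹ = y) (ae : a * e * a⁻¹ = e⁻¹) :
    y * e = e * y ∨ ∃ k : ℕ, (y ^ k * e) ^ 6 = B.t := by
  have hp : Fintype.card F = ringChar F ^ 1 := by
    rcases hq with h | h
    · rw [char_eq Nat.prime_three h, h, pow_one]
    · rw [char_eq Nat.prime_five h, h, pow_one]
  have triv : a * e * a⁻¹ = e → y * e = e * y := fun h => by
    rw [eq_one_of_inv B.odd e1 (h.symm.trans ae), mul_one, one_mul]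
  by_cases a1 : a = 1
  · exact Or.inl (triv (by rw [a1]; simp))
  rw [hp] at y1 e1
  rcases ha.invol aa a1 with h | ⟨d, h⟩ | h | h
  · exact Or.inl (triv (by rw [h, ← he]; simp))
  · left
    rw [h.no_p hy (mul_inv_eq_iff_eq_mul.1 ay).symm y1, mul_one, one_mul]
  · have := h.mod8
    omega
  · obtain ⟨B', s, h⟩ := h.std aa
    have hy' := s.C.2 hy
    have he' := s.C.2 he
    rw [← s.t]
    rcases h with rfl | rfl
    · exact core B' hq hy' he' y1 e1 ay ae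
    · have k : ∀ c, B'.C c → B'.t * B'.σ * c * (B'.t * B'.σ)⁻¹ = B'.σ * c * B'.σ⁻¹ := fun c hc => by
        rw [← B'.C_σ]
        calc _ = B'.σ * (B'.t * c * B'.t⁻¹) * B'.σ⁻¹ := by group
          _ = _ := by rw [← hc]; simp
      exact core B' hq hy' he' y1 e1 (by rw [← k y hy', ay]) (by rw [← k e he', ae])

theorem big5 (hF : ∀ B' : Bs G F, B'.Fus) (h5 : Fintype.card F = 5) :
    ∃ c, (∀ a, c * B.f1 (upT a) = B.f1 (upT a) * c) ∧ ¬ B.C c := by
  have five := (hF B).five (by rw [h5])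
  have z5 : (5 : F) = 0 := by
    have : ((5 : ℕ) : F) = 0 := h5 ▸ FiniteField.cast_card_eq_zero F
    exact_mod_cast this
  have sq : IsSquare (-1 : F) := ⟨2, by linear_combination -z5⟩
  have in1 : B.In 1 := B.mem_C0.1 (one_mem _)
  have σ1 : B.σ ≠ 1 := fun e => in1.not_out (e ▸ B.out_σ)
  obtain ⟨w1, a1, a2⟩ := B.out_σ.exists_w sq B.σσ
  obtain ⟨g, hg⟩ := B.exists_at (five _ B.C_σ B.σσ σ1)
  obtain ⟨w2, b1, b2⟩ := (B.out_back (g := g) (hg ▸ B.out_σ)).exists_w sq B.tt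
  have b3 := b1.conj_t
  rw [hg] at b2 b3
  rw [B.C_σ] at b2
  obtain ⟨r, ⟨r1, r2⟩, r3⟩ := Cy.adj (B := B) (r := w2 * w1) ⟨by
      calc _ = w2 * (w1 * B.t * w1⁻¹) * w2⁻¹ := by group
        _ = _ := by rw [a1.conj_t, b2], by
      calc _ = w2 * (w1 * B.σ * w1⁻¹) * w2⁻¹ := by group
        _ = _ := by rw [a2, ← conj_mul, b2, b3, mul_assoc, B.σσ, mul_one]⟩ h5
  have hu : φ B (dS 2 B.two) = B.u := by
    rw [φ_apply, B.f12, u, ← B.smul_ρ (a := DD F) (b := DD F) (by simp [DD, det_fin_two]) (l := 2)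
      (by linear_combination 3 * z5)]
    have : (dS (2 : F) B.two).1 = (2 : F) • DD F := by
      have i2 : (2 : F)⁻¹ = -2 := inv_eq_of_mul_eq_one_right (by linear_combination -z5)
      ext i j
      fin_cases i <;> fin_cases j <;> simp [dS, DD, H64.SL2.mk, i2]
    rw [this]
  have ru : r * B.u * r⁻¹ = B.u := by rw [← hu, r3]; simp
  set y := φ B (upT 1) with hy
  set y' := B.f1 (upT 1) * B.f2 (upT (-1)) with hy'
  have ry : r * y * r⁻¹ = y := by rw [hy, r3]; simp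
  have uf : ∀ a b : F, B.u * (B.f1 (upT a) * B.f2 (upT b)) * B.u⁻¹ = (B.f1 (upT a) * B.f2 (upT b))⁻¹ :=
    fun a b => by rw [← conj_mul, mi, upT_inv, upT_inv]; exact congrArg₂ _ (B.u_rt1 true a) (B.u_rt2 true b)
  have p5 : ∀ a b : F, (B.f1 (upT a) * B.f2 (upT b)) ^ Fintype.card F = 1 := fun a b => by
    rw [mp, upT_pow, upT_pow, FiniteField.cast_card_eq_zero, zero_mul, zero_mul, upT_zero, map_one, map_one,
      one_mul]
  have n1 : ∀ b : F, B.f1 (upT 1) * B.f2 (upT b) ≠ 1 := fun b e => by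
    rcases B.f12_eq (x' := 1) (y' := 1) (by rw [e]; simp) with h | h
    · exact upT_ne_one one_ne_zero h.1
    · simpa using congrArg (fun g : SL(2, F) => g.1 0 1) h.1
  have Cy' : B.C y' := (B.in_f1 _).C.mul (B.in_f2 _).C
  have σy' : B.σ * y' * B.σ⁻¹ = y'⁻¹ := by rw [hy', σm, mi, upT_inv, upT_inv, _root_.neg_neg]
  have yy' : y * y' = B.f1 (upT 2) := by
    rw [hy, hy', φ_apply, mm, ← upT_add, ← upT_add, add_neg_cancel, upT_zero, map_one, mul_one,
      one_add_one_eq_two]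
  have cy : y * y' = y' * y := by
    rw [yy', hy, hy', φ_apply, mm, ← upT_add, ← upT_add, neg_add_cancel, upT_zero, map_one, mul_one,
      one_add_one_eq_two]
  set y'' := r * y' * r⁻¹ with hy''
  have c1 : y * y'' = y'' * y := by
    have := cm_cj cy r
    rwa [ry] at this
  have inv : ∀ {a : G}, a * y' * a⁻¹ = y'⁻¹ → r * a * r⁻¹ * y'' * (r * a * r⁻¹)⁻¹ = y''⁻¹ := fun {a} e => by
    calc _ = r * (a * y' * a⁻¹) * r⁻¹ := by rw [hy'']; group
      _ = _ := by rw [e, hy'']; group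
  have t1 : B.t * y'' * B.t⁻¹ = y''⁻¹ := r2 ▸ inv σy'
  have u1 : B.u * y'' * B.u⁻¹ = y''⁻¹ := ru ▸ inv (uf _ _)
  have s1 : B.σ * y'' * B.σ⁻¹ = y''⁻¹ := by
    have := cm_cj Cy' r
    rw [r1, ← hy''] at this
    calc _ = B.t⁻¹ * (B.t * B.σ * y'') * B.σ⁻¹ := by group
      _ = B.t * y'' * B.t⁻¹ := by rw [← this, B.t_inv]; group
      _ = _ := t1
  have θc : ∀ {c : G}, B.σ * c * B.σ⁻¹ = c⁻¹ → B.u * c * B.u⁻¹ = c⁻¹ → c * (B.u * B.σ) = B.u * B.σ * c :=
    fun {c} e e' => by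
    symm
    rw [← mul_inv_eq_iff_eq_mul]
    calc _ = B.u * (B.σ * c * B.σ⁻¹) * B.u⁻¹ := by group
      _ = _ := by rw [e, ← conj_inv, e', inv_inv]
  have Cθ : B.C (B.u * B.σ) := B.u_TZ.In.C.mul B.C_σ
  obtain ⟨g', hg'⟩ := B.exists_at (five _ Cθ (by
    rw [mul_assoc, ← mul_assoc B.σ, ← B.uσ_comm, mul_assoc, B.σσ, mul_one, B.uu])
    fun e => in1.not_out (e ▸ B.u_TZ.In.mul_out B.out_σ))
  have q5 : y'' ^ Fintype.card F = 1 := by rw [hy'', conj_pow, p5]; simp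
  have cc : y' * y'' = y'' * y' := by
    refine ((B.conj g').comm35 (Or.inr h5) (y := y') (e := y'') (a := B.t) (by rw [C, hg']; exact θc σy' (uf _ _))
      (by rw [C, hg']; exact θc s1 u1) (by rw [C, hg']; exact Cθ.symm) (p5 _ _) q5 B.tt
      (by rw [← Cy']; simp) t1).resolve_right ?_
    rintro ⟨k, hk⟩
    have c2 : Commute y (B.u * B.σ) := by
      rw [← hg', ← hk]
      exact (((show Commute y y' from cy).pow_right k).mul_right c1).pow_right 6
    have c3 : B.u * B.σ * y * (B.u * B.σ)⁻¹ = y⁻¹ := by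
      calc _ = B.u * (B.σ * y * B.σ⁻¹) * B.u⁻¹ := by group
        _ = _ := by rw [hy, ← φ_σ, mul_inv_cancel_right]; exact uf _ _
    rw [← c2.eq, mul_inv_cancel_right] at c3
    exact n1 1 (eq_one_of_inv B.odd (p5 1 1) c3)
  refine ⟨y'', fun a => ?_, fun h => n1 (-1) ?_⟩
  · obtain ⟨n, hn⟩ := exists_nat Nat.prime_five h5 (a * 2⁻¹)
    rw [show a = n * 2 by rw [hn, inv_mul_cancel_right₀ B.two], ← upT_pow, map_pow, ← yy']
    exact (((show Commute y y'' from c1).mul_left cc).pow_left n).symm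
  · rw [← h, mul_inv_cancel_right] at t1
    exact conj_eq_one_iff.1 (eq_one_of_inv B.odd q5 t1)

end H20.L4.Bs
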