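import Cfsg.Agent.Lib.L4Q.Defs

/-! L4Q package FinC: matrix computations in `SL₄(q)`. -/

set_option autoImplicit false

open Matrix
open scoped MatrixGroups

namespace H20.L4.FinC

variable {F : Type*} [Field F]

theorem vm (g k : SL(4, F)) : (g * k).1 = g.1 * k.1 := rfl
theorem v1 : (1 : SL(4, F)).1 = 1 := rfl
theorem vp (g : SL(4, F)) (n : ℕ) : (g ^ n).1 = g.1 ^ n := Matrix.SpecialLinearGroup.coe_pow g n
theorem vx {g k : SL(4, F)} : g = k ↔ g.1 = k.1 := Subtype.ext_iff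

/-- upper transvection over `F[i]` -/
def Um (x y : F) : SL(4, F) := ⟨!![1, x, 0, -y; 0, 1, 0, 0; 0, y, 1, x; 0, 0, 0, 1], by
  simp [det_succ_row_zero, Fin.sum_univ_succ, Fin.succAbove]⟩
/-- lower transvection over `F[i]` -/
def Lm (x y : F) : SL(4, F) := ⟨!![1, 0, 0, 0; x, 1, -y, 0; 0, 0, 1, 0; y, 0, x, 1], by
  simp [det_succ_row_zero, Fin.sum_univ_succ, Fin.succAbove]⟩
/-- transvections of the upper `3 × 3` block -/
def Am (x y : F) : SL(4, F) := ⟨!![1, x, 0, 0; 0, 1, 0, 0; 0, y, 1, 0; 0, 0, 0, 1], by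
  simp [det_succ_row_zero, Fin.sum_univ_succ, Fin.succAbove]⟩
/-- transvections of the upper `3 × 3` block -/
def Bm (x y : F) : SL(4, F) := ⟨!![1, 0, 0, 0; x, 1, y, 0; 0, 0, 1, 0; 0, 0, 0, 1], by
  simp [det_succ_row_zero, Fin.sum_univ_succ, Fin.succAbove]⟩
/-- the complex structure -/
def Jm (F : Type*) [Field F] : SL(4, F) := ⟨!![0, 0, -1, 0; 0, 0, 0, -1; 1, 0, 0, 0; 0, 1, 0, 0], by
  simp [det_succ_row_zero, Fin.sum_univ_succ, Fin.succAbove]⟩
/-- `diag(l, l, l, -l)` -/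
def Dm {l : F} (hl : l ^ 4 = -1) : SL(4, F) := ⟨!![l, 0, 0, 0; 0, l, 0, 0; 0, 0, l, 0; 0, 0, 0, -l], by
  simp [det_succ_row_zero, Fin.sum_univ_succ, Fin.succAbove]; linear_combination -hl⟩
/-- `diag(-1, -1, 1, 1)` -/
def Tm (F : Type*) [Field F] : SL(4, F) := ⟨diagonal ![-1, -1, 1, 1], by simp [Fin.prod_univ_four]⟩
/-- the block exchange -/
def Sm (F : Type*) [Field F] : SL(4, F) := ⟨swM F, by
  simp [swM, det_succ_row_zero, Fin.sum_univ_succ, Fin.succAbove]⟩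

/-- the subgroup generated by the quadratic unipotent elements commuting with `s` -/
def Cl (s : SL(4, F)) : Subgroup SL(4, F) :=
  Subgroup.closure {g : SL(4, F) | g * s = s * g ∧ (g.1 - 1) * (g.1 - 1) = 0}

theorem pow_p {g : SL(4, F)} (h : (g.1 - 1) * (g.1 - 1) = 0) : g ^ ringChar F = 1 := by
  have key : ∀ n : ℕ, g.1 ^ n = 1 + n • (g.1 - 1) := fun n => by
    induction n with
    | zero => simp
    | succ n ih =>
      rw [pow_succ, ih, succ_nsmul]
      calc _ = (1 + n • (g.1 - 1)) * (1 + (g.1 - 1)) := by simp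
        _ = _ := by rw [add_mul, one_mul, mul_add, mul_one, smul_mul_assoc, h, smul_zero]; abel
  rw [vx, vp, key, ← Nat.cast_smul_eq_nsmul F, ringChar.Nat.cast_ringChar, zero_smul, add_zero, v1]

theorem TS : Tm F * Sm F = Jm F := by
  rw [vx, vm]; ext i j; fin_cases i <;> fin_cases j <;> simp [Tm, Sm, Jm, swM]
theorem JJ : (Jm F).1 * (Jm F).1 = -1 := by
  ext i j; fin_cases i <;> fin_cases j <;> simp [Jm, Matrix.mul_apply, Fin.sum_univ_four]
theorem D_blk {l : F} (hl : l ^ 4 = -1) : (Dm hl).1 = blk (l • 1) (l • DD F) := by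
  ext i j; fin_cases i <;> fin_cases j <;> simp [Dm, blk, DD]
theorem DD2 {l : F} (hl : l ^ 4 = -1) : (Dm hl).1 * (Dm hl).1 = l ^ 2 • 1 := by
  ext i j; fin_cases i <;> fin_cases j <;> simp [Dm, Matrix.mul_apply, Fin.sum_univ_four, pow_two]
theorem DD4 {l : F} (hl : l ^ 4 = -1) : (Dm hl).1 ^ 4 = -1 := by
  refine (pow_mul (Dm hl).1 2 2).trans ?_
  rw [pow_two (Dm hl).1, DD2, smul_pow, ← pow_mul, hl]; simp

theorem mU (x y : F) : Um x y ∈ Cl (Jm F) := Subgroup.subset_closure (by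
  rw [Set.mem_ofPred_eq, vx, vm, vm]
  constructor <;> ext i j <;> fin_cases i <;> fin_cases j <;> simp [Um, Jm, Matrix.mul_apply, Fin.sum_univ_four])
theorem mL (x y : F) : Lm x y ∈ Cl (Jm F) := Subgroup.subset_closure (by
  rw [Set.mem_ofPred_eq, vx, vm, vm]
  constructor <;> ext i j <;> fin_cases i <;> fin_cases j <;> simp [Lm, Jm, Matrix.mul_apply, Fin.sum_univ_four])
theorem mA {l : F} (hl : l ^ 4 = -1) (x y : F) : Am x y ∈ Cl (Dm hl) := Subgroup.subset_closure (by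
  rw [Set.mem_ofPred_eq, vx, vm, vm]
  constructor <;> ext i j <;> fin_cases i <;> fin_cases j <;>
    simp [Am, Dm, Matrix.mul_apply, Fin.sum_univ_four, mul_comm])
theorem mB {l : F} (hl : l ^ 4 = -1) (x y : F) : Bm x y ∈ Cl (Dm hl) := Subgroup.subset_closure (by
  rw [Set.mem_ofPred_eq, vx, vm, vm]
  constructor <;> ext i j <;> fin_cases i <;> fin_cases j <;>
    simp [Bm, Dm, Matrix.mul_apply, Fin.sum_univ_four, mul_comm])

theorem d8J {α ε : F} (hε : ε * ε = 1) (hα : 2 * α * α = ε) : ∃ a ∈ Cl (Jm F), ∃ b ∈ Cl (Jm F),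
    (a * a).1 = -1 ∧ (b * b).1 = -1 ∧ (a * b * (a * b) * (a * b * (a * b))).1 = -1 ∧
      (a * b * (a * b)).1 0 2 ≠ 0 := by
  have ea : (Um 1 0 * Lm (-1) 0 * Um 1 0 : SL(4, F)).1 = !![0, 1, 0, 0; -1, 0, 0, 0; 0, 0, 0, 1; 0, 0, -1, 0] := by
    rw [vm, vm]; ext i j; fin_cases i <;> fin_cases j <;> simp [Um, Lm, Matrix.mul_apply, Fin.sum_univ_four]
  have eb : (Um α α * Lm (-ε * α) (ε * α) * Um α α : SL(4, F)).1 =
      !![0, α, 0, -α; -ε * α, 0, -ε * α, 0; 0, α, 0, α; ε * α, 0, -ε * α, 0] := by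
    rw [vm, vm]; ext i j; fin_cases i <;> fin_cases j <;> simp [Um, Lm, Matrix.mul_apply, Fin.sum_univ_four] <;> grind
  have wa := mul_mem (mul_mem (mU (1 : F) 0) (mL (-1) 0)) (mU 1 0)
  have wb := mul_mem (mul_mem (mU α α) (mL (-ε * α) (ε * α))) (mU α α)
  generalize (Um 1 0 * Lm (-1) 0 * Um 1 0 : SL(4, F)) = a at wa ea
  generalize (Um α α * Lm (-ε * α) (ε * α) * Um α α : SL(4, F)) = b at wb eb
  have ec : (a * b * (a * b)).1 = !![0, 0, ε, 0; 0, 0, 0, -ε; -ε, 0, 0, 0; 0, ε, 0, 0] := by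
    rw [vm, vm, ea, eb]; ext i j; fin_cases i <;> fin_cases j <;> simp [Matrix.mul_apply, Fin.sum_univ_four] <;> grind
  refine ⟨a, wa, b, wb, ?_, ?_, ?_, ?_⟩
  · rw [vm, ea]; ext i j; fin_cases i <;> fin_cases j <;> simp [Matrix.mul_apply, Fin.sum_univ_four]
  · rw [vm, eb]; ext i j; fin_cases i <;> fin_cases j <;> simp [Matrix.mul_apply, Fin.sum_univ_four] <;> grind
  · rw [vm, ec]; ext i j; fin_cases i <;> fin_cases j <;> simp [Matrix.mul_apply, Fin.sum_univ_four, hε]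
  · rw [ec]; rintro (rfl : ε = 0); simp at hε

theorem d8D {l : F} (hl : l ^ 4 = -1) : ∃ a ∈ Cl (Dm hl), ∃ b ∈ Cl (Dm hl),
    (a * a).1 = 1 ∧ (b * b).1 = 1 ∧ (a * b * (a * b) * (a * b * (a * b))).1 = 1 ∧
      (a * b * (a * b)).1 0 0 = 1 ∧ (a * b * (a * b)).1 1 1 = -1 := by
  have w1 := mul_mem (mul_mem (mA hl 1 0) (mB hl (-1) 0)) (mA hl 1 0)
  have w2 := mul_mem (mul_mem (mB hl 0 1) (mA hl 0 (-1))) (mB hl 0 1)
  have ea : (Am 1 0 * Bm (-1) 0 * Am 1 0 : SL(4, F)).1 = !![0, 1, 0, 0; -1, 0, 0, 0; 0, 0, 1, 0; 0, 0, 0, 1] := by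
    rw [vm, vm]; ext i j; fin_cases i <;> fin_cases j <;> simp [Am, Bm, Matrix.mul_apply, Fin.sum_univ_four]
  have eb : (Bm 0 1 * Am 0 (-1) * Bm 0 1 : SL(4, F)).1 = !![1, 0, 0, 0; 0, 0, 1, 0; 0, -1, 0, 0; 0, 0, 0, 1] := by
    rw [vm, vm]; ext i j; fin_cases i <;> fin_cases j <;> simp [Am, Bm, Matrix.mul_apply, Fin.sum_univ_four]
  generalize (Am 1 0 * Bm (-1) 0 * Am 1 0 : SL(4, F)) = a at w1 ea
  generalize (Bm 0 1 * Am 0 (-1) * Bm 0 1 : SL(4, F)) = b at w2 eb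
  have e1 : (a * a).1 = !![-1, 0, 0, 0; 0, -1, 0, 0; 0, 0, 1, 0; 0, 0, 0, 1] := by
    rw [vm, ea]; ext i j; fin_cases i <;> fin_cases j <;> simp [Matrix.mul_apply, Fin.sum_univ_four]
  have e2 : (a * a * b).1 = !![-1, 0, 0, 0; 0, 0, -1, 0; 0, -1, 0, 0; 0, 0, 0, 1] := by
    rw [vm, e1, eb]; ext i j; fin_cases i <;> fin_cases j <;> simp [Matrix.mul_apply, Fin.sum_univ_four]
  have e3 : (a * a * (a * a * b) * (a * a * (a * a * b))).1 =
      !![1, 0, 0, 0; 0, -1, 0, 0; 0, 0, -1, 0; 0, 0, 0, 1] := by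
    rw [vm, vm, e1, e2]; ext i j; fin_cases i <;> fin_cases j <;> simp [Matrix.mul_apply, Fin.sum_univ_four]
  refine ⟨a * a, mul_mem w1 w1, a * a * b, mul_mem (mul_mem w1 w1) w2, ?_, ?_, ?_, by simp [e3], by simp [e3]⟩
  · rw [vm, e1]; ext i j; fin_cases i <;> fin_cases j <;> simp [Matrix.mul_apply, Fin.sum_univ_four]
  · rw [vm, e2]; ext i j; fin_cases i <;> fin_cases j <;> simp [Matrix.mul_apply, Fin.sum_univ_four]
  · rw [vm, e3]; ext i j; fin_cases i <;> fin_cases j <;> simp [Matrix.mul_apply, Fin.sum_univ_four]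

/-- the matrix over `F[i]` -/
def cx (g : Matrix (Fin 4) (Fin 4) F) : Matrix (Fin 2) (Fin 2) (QuadraticAlgebra F (-1) 0) :=
  !![⟨g 0 0, g 2 0⟩, ⟨g 0 1, g 2 1⟩; ⟨g 1 0, g 3 0⟩, ⟨g 1 1, g 3 1⟩]

theorem cx_mul {g k : Matrix (Fin 4) (Fin 4) F} (h : g * (Jm F).1 = (Jm F).1 * g) : cx (g * k) = cx g * cx k := by
  have e := fun i j => congrFun (congrFun h i) j
  have e1 := e 0 0; have e2 := e 0 1; have e3 := e 1 0; have e4 := e 1 1
  have e5 := e 2 0; have e6 := e 2 1; have e7 := e 3 0; have e8 := e 3 1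
  simp [Jm, Matrix.mul_apply, Fin.sum_univ_four] at e1 e2 e3 e4 e5 e6 e7 e8
  ext i j <;> fin_cases i <;> fin_cases j <;>
    simp [cx, Matrix.mul_apply, Fin.sum_univ_four, e1, e2, e3, e4, e5, e6, e7, e8] <;> ring

theorem cx_smul {l : F} (h : l * l = 1) : (cx (l • (1 : Matrix (Fin 4) (Fin 4) F))).det = 1 := by
  ext <;> simp [cx, det_fin_two, h, QuadraticAlgebra.re_one, QuadraticAlgebra.im_one]

theorem cx_J (two : (2 : F) ≠ 0) : (cx (Jm F).1).det ≠ 1 := fun e => by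
  have := congrArg QuadraticAlgebra.re e
  simp [cx, Jm, det_fin_two, QuadraticAlgebra.re_one] at this
  exact two (by linear_combination -this)

/-- the determinant over `F[i]` -/
def χ0 (F : Type*) [Field F] : Subgroup.centralizer ({Jm F} : Set SL(4, F)) →* QuadraticAlgebra F (-1) 0 where
  toFun g := (cx g.1.1).det
  map_one' := by simpa using cx_smul (l := (1 : F)) (one_mul 1)
  map_mul' g k := by
    rw [← det_mul, ← cx_mul (vx.1 (Subgroup.mem_centralizer_singleton_iff.1 g.2))]; rfl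

/-- the fourth power of the last entry -/
def χ1 {l : F} (hl : l ^ 4 = -1) (h2 : (2 : F) ≠ 0) : Subgroup.centralizer ({Dm hl} : Set SL(4, F)) →* F where
  toFun g := g.1.1 3 3 ^ 4
  map_one' := by simp
  map_mul' g k := by
    have h : g.1.1 * (Dm hl).1 = (Dm hl).1 * g.1.1 := vx.1 (Subgroup.mem_centralizer_singleton_iff.1 g.2)
    have e := fun j => congrFun (congrFun h 3) j
    have l0 : l ≠ 0 := by rintro rfl; simp at hl
    have k0 : ∀ x : F, x * l = -(l * x) → x = 0 := fun x hx =>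
      (mul_eq_zero.1 (show x * (2 * l) = 0 by linear_combination hx)).resolve_right (mul_ne_zero h2 l0)
    have e1 := e 0; have e2 := e 1; have e3 := e 2
    simp [Dm, Matrix.mul_apply, Fin.sum_univ_four] at e1 e2 e3
    rw [← mul_pow]; congr 1
    change (g.1.1 * k.1.1) 3 3 = _
    simp [Matrix.mul_apply, Fin.sum_univ_four, k0 _ e1, k0 _ e2, k0 _ e3]

theorem comm_D {l : F} (hl : l ^ 4 = -1) (two : (2 : F) ≠ 0) {g : SL(4, F)} {m : F}
    (e1 : (Dm hl * g).1 = m • (g * Dm hl).1) : g * Dm hl = Dm hl * g := by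
  have l0 : l ≠ 0 := by rintro rfl; simp at hl
  have e2 : (g⁻¹ * (Dm hl * g)).1 = m • (Dm hl).1 := by
    rw [vm, e1, mul_smul_comm, ← vm, inv_mul_cancel_left]
  have e3 := congrArg trace e2
  rw [vm, trace_mul_comm, ← vm, mul_inv_cancel_right] at e3
  simp [Dm, trace, Fin.sum_univ_four] at e3
  obtain rfl : m = 1 := mul_right_cancel₀ (mul_ne_zero two l0) (by linear_combination -e3)
  rw [vx, e1, one_smul]

theorem exists_α [Fintype F] (two : (2 : F) ≠ 0) (s : ¬ IsSquare (-1 : F)) :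
    ∃ α ε : F, ε * ε = 1 ∧ 2 * α * α = ε := by
  by_cases h2 : IsSquare (2 : F)
  · obtain ⟨r, hr⟩ := h2
    have r0 : r ≠ 0 := by rintro rfl; exact two (by simpa using hr)
    exact ⟨r⁻¹, 1, one_mul 1, by rw [hr]; field_simp⟩
  · classical
    have : IsSquare (-1 * 2 : F) := by
      rw [← quadraticChar_one_iff_isSquare (by simpa using two), map_mul,
        quadraticChar_neg_one_iff_not_isSquare.2 s, quadraticChar_neg_one_iff_not_isSquare.2 h2]; rfl
    obtain ⟨r, hr⟩ := this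
    have r0 : r ≠ 0 := by rintro rfl; exact two (by simpa using hr)
    exact ⟨r⁻¹, -1, by simp, by field_simp; linear_combination -hr⟩

theorem sq_of_root {l : F} (hl : l ^ 4 = -1) : IsSquare (-1 : F) := ⟨l ^ 2, by rw [← hl]; ring⟩

theorem pm (s : ¬ IsSquare (-1 : F)) {l : F} (hl : l ^ 4 = 1) : l = 1 ∨ l = -1 := by
  rcases mul_eq_zero.1 (show (l * l - 1) * (l * l + 1) = 0 by linear_combination hl) with e | e
  · exact mul_self_eq_one_iff.1 (by linear_combination e)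
  · exact absurd ⟨l, by linear_combination -e⟩ s

end H20.L4.FinC
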