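import Cfsg.Agent.Lib.L4Q.Fus1
import Cfsg.Agent.Lib.ThreeTrans.SymHom

/-! L4Q package Fr2: construction of the frame. -/

set_option autoImplicit false
set_option linter.unusedSectionVars false

open Matrix H24
open H52.FW (M2 wS dS Act)
open scoped MatrixGroups

namespace H20.L4.Fr2

theorem braid {Q : Type*} [Group Q] {a b c z : Q} (ha : a * a = 1) (hb : b * b = 1) (hc : c * c = 1)
    (hz : z * z = 1) (ac : a * c = c * a) (za : z * a * z⁻¹ = c) (bw : b * (a * c) * b⁻¹ = z) (w1 : a * c ≠ 1)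
    (h : (a * b) ^ 3 = 1 ∨ (a * b) ^ 3 = a * c ∨ (a * b) ^ 3 = z ∨ (a * b) ^ 3 = a * c * z) :
    a * b * a = b * a * b ∧ b * c * b = c * b * c := by
  have ia := inv_eq_of_mul_eq_one_right ha
  have ib := inv_eq_of_mul_eq_one_right hb
  have iz := inv_eq_of_mul_eq_one_right hz
  have ww : a * c * (a * c) = 1 := by rw [mul_assoc, ← mul_assoc c, ← ac, mul_assoc, hc, mul_one, ha]
  have az : a * z * a⁻¹ = a * c * z := by rw [← za, ia, iz, mul_assoc a (z * a * z), mul_assoc _ z z, hz, mul_one, mul_assoc]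
  have aw : a * (a * c) * a⁻¹ = a * c := by rw [mul_assoc, mul_assoc, ← mul_assoc a c, ac, mul_assoc c, mul_inv_cancel, mul_one, ← ac]
  have zw : a * c * z = z * (a * c) := by
    have : z * c * z⁻¹ = a := by rw [← za, iz]; simp only [← mul_assoc, hz, one_mul]; rw [mul_assoc, hz, mul_one]
    rw [eq_comm, ← mul_inv_eq_iff_eq_mul, ← conj_mul, za, this, ac]
  have ec : c = a * (a * c) := by rw [← mul_assoc, ha, one_mul]
  generalize a * c = w at *
  have bz : b * z * b⁻¹ = w := by rw [← bw, ib]; simp only [← mul_assoc, hb, one_mul]; rw [mul_assoc, hb, mul_one]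
  have r1 : a * b * w * (a * b)⁻¹ = w * z := by rw [← az, ← bw]; group
  have r2 : a * b * z * (a * b)⁻¹ = w := by rw [← aw, ← bz]; group
  have r0 : a * b * (a * b) ^ 3 * (a * b)⁻¹ = (a * b) ^ 3 := by rw [← pow_succ', pow_succ, mul_inv_cancel_right]
  have r3 : (a * b) ^ 3 = 1 := by
    rcases h with h | h | h | h
    · exact h
    · rw [h, r1, mul_eq_left] at r0
      exact absurd (by rw [← bz, r0]; simp) w1
    · rw [h, r2] at r0
      rw [← r0, ww, conj_eq_one_iff] at r1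
      exact absurd r1 w1
    · rw [h, ← conj_mul, r1, r2, mul_eq_left] at r0
      exact absurd r0 w1
  have k : a * b * a = b * a * b := by
    rw [← mul_inv_eq_one, ← r3, _root_.mul_inv_rev, _root_.mul_inv_rev, ia, ib, pow_three]; simp only [mul_assoc]
  refine ⟨k, ?_⟩
  have e2 : c = w * a := by rw [ec, ← mul_inv_eq_iff_eq_mul, aw]
  calc b * c * b = b * a * b * (b * w * b⁻¹) := by
        rw [ec, ib]; simp only [mul_assoc]; rw [← mul_assoc b b, hb, one_mul]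
    _ = a * b * a * (a * z * a⁻¹ * (a * w * a⁻¹)) := by rw [bw, k, az, aw, zw, mul_assoc z, ww, mul_one]
    _ = a * b * (b * w * b⁻¹) * w * a := by
        rw [bw, conj_mul, ia]; simp only [mul_assoc]; rw [← mul_assoc a a, ha, one_mul]
    _ = c * b * c := by
        nth_rewrite 1 [ec]
        rw [e2, ib]; simp only [mul_assoc]; rw [← mul_assoc b b, hb, one_mul]

variable {G F : Type*} [Group G] [Finite G] [Field F] [Fintype F] (B : Bs G F)

/-- diagonal elements -/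
abbrev D (a b c d : F) : G := B.ρ !![a, 0; 0, b] !![c, 0; 0, d]

theorem dd {a b c d : F} (h : a * b * (c * d) = 1) :
    (!![a, 0; 0, b] : M2 F).det * (!![c, 0; 0, d] : M2 F).det = 1 := by simpa [det_fin_two] using h

theorem D_mul {a b c d a' b' c' d' : F} (h : a * b * (c * d) = 1) (h' : a' * b' * (c' * d') = 1) :
    D B a b c d * D B a' b' c' d' = D B (a * a') (b * b') (c * c') (d * d') := by
  rw [D, D, D, ← B.mul (dd h) (dd h')]; simp

theorem wv : (wS F).1 = !![0, 1; -1, 0] := rfl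

theorem w_D {a b c d : F} (h : a * b * (c * d) = 1) : B.w * D B a b c d * B.w⁻¹ = D B b a d c := by
  rw [B.w_eq]
  exact B.conj_ρ (by simp) (dd h) (by simp [wv]) (by simp [wv])

theorem σ_D {a b c d : F} (h : a * b * (c * d) = 1) : B.σ * D B a b c d * B.σ⁻¹ = D B c d a b := B.σ_conj (dd h)

theorem w_H {h : G} (h1 : h ∈ B.H) : B.w * h * B.w⁻¹ ∈ B.H := by
  have := B.f1w_H (B.f2w_H h1)
  rw [Bs.w]; convert this using 1; group

theorem w_inv : B.w⁻¹ = B.w := inv_eq_of_mul_eq_one_right B.ww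

theorem C_w : B.C B.w := B.w_TZ.In.C

theorem dec {c : G} (h : B.C c) (e : c * B.u = B.u * c) :
    ∃ h ∈ B.H, ∃ k, (k = 1 ∨ k = B.w ∨ k = B.σ ∨ k = B.w * B.σ) ∧ c = h * k := by
  rcases h.cen_V e with h | h | h | h
  · exact ⟨_, h, 1, .inl rfl, (mul_one _).symm⟩
  · exact ⟨_, h, _, .inr (.inl rfl), by rw [mul_assoc, B.ww, mul_one]⟩
  · exact ⟨_, h, _, .inr (.inr (.inl rfl)), by rw [mul_assoc, B.σσ, mul_one]⟩
  · exact ⟨_, h, _, .inr (.inr (.inr rfl)), by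
      rw [mul_assoc, mul_assoc, ← mul_assoc B.σ, ← B.wσ_comm, mul_assoc, B.σσ, mul_one, B.ww, mul_one]⟩

theorem comm_H {c d : G} (h : B.C c) (e : c * B.u = B.u * c) (h' : B.C d) (e' : d * B.u = B.u * d) :
    c * d * c⁻¹ * d⁻¹ ∈ B.H := by
  obtain ⟨h1, m1, k1, n1, rfl⟩ := dec B h e
  obtain ⟨h2, m2, k2, n2, rfl⟩ := dec B h' e'
  have nm : ∀ {k}, (k = 1 ∨ k = B.w ∨ k = B.σ ∨ k = B.w * B.σ) → ∀ {h}, h ∈ B.H → k * h * k⁻¹ ∈ B.H := by
    rintro _ (rfl | rfl | rfl | rfl) h m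
    · simpa using m
    · exact w_H B m
    · exact B.σ_H m
    · convert w_H B (B.σ_H m) using 1; group
  have c : Commute k1 k2 := by
    have := B.wσ_comm
    rcases n1 with rfl | rfl | rfl | rfl <;> rcases n2 with rfl | rfl | rfl | rfl <;>
      first | exact Commute.one_left _ | exact Commute.one_right _ | exact Commute.refl _ | exact this | exact this.symm
            | exact (Commute.refl _).mul_right this | exact (Commute.symm this).mul_right (Commute.refl _)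
            | exact (Commute.refl _).mul_left this.symm | exact Commute.mul_left this (Commute.refl _)
  have : h1 * k1 * (h2 * k2) * (h1 * k1)⁻¹ * (h2 * k2)⁻¹ =
      h1 * (k1 * h2 * k1⁻¹) * ((k1 * k2 * k1⁻¹) * h1⁻¹ * k2⁻¹) * h2⁻¹ := by group
  rw [this, c.eq, mul_inv_cancel_right]
  exact mul_mem (mul_mem (mul_mem m1 (nm n1 m2)) (nm n2 (inv_mem m1))) (inv_mem m2)

theorem H_cen {h : G} (m : h ∈ B.H) : B.C h ∧ h * B.u = B.u * h := ⟨(Bs.H_In m).C, Bs.H_comm m B.u_H⟩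

theorem sq_Hw {a b c d : F} (h : a * b * (c * d) = 1) :
    D B a b c d * B.w * (D B a b c d * B.w) = D B (a * b) (a * b) (c * d) (c * d) := by
  have := w_D B h
  rw [w_inv] at this
  rw [mul_assoc, ← mul_assoc B.w, this, D_mul B h (by linear_combination h), mul_comm b, mul_comm d]

theorem not_fix (hF : B.Fus) (hN : ∀ g ∈ B.NV, ∀ h ∈ B.H, g * h * g⁻¹ ∈ B.H) {g : G} (hg : g ∈ B.NV)
    (g1 : g * B.u = B.u * g) (g2 : g * B.t * g⁻¹ = B.t * B.u) : g * B.w * g⁻¹ * B.w ∉ B.H := fun m => by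
  by_cases s : IsSquare (-1 : F)
  · obtain ⟨i, hi⟩ := s
    have e0 : i * 1 * (-i * 1) = 1 := by linear_combination hi
    have e1 : D B i 1 (-i) 1 * B.w * (D B i 1 (-i) 1 * B.w) = B.t := by
      rw [sq_Hw B e0, Bs.t, eq_comm]
      refine (B.eq_iff (by simp [det_fin_two]) (dd (by linear_combination (1 - i * i) * hi))).2
        ⟨-i, by linear_combination (1 - i * i) * hi, ?_, ?_⟩ <;> ext j k <;> fin_cases j <;> fin_cases k <;> simp
    obtain ⟨a, b, c, d, e2, e3⟩ := mul_mem (hN g hg _ ⟨_, _, _, _, e0, rfl⟩) m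
    have e4 := sq_Hw B e2
    rw [D, ← e3, mul_assoc _ _ B.w, mul_assoc _ B.w, B.ww, mul_one, conj_mul, conj_mul, e1, g2, Bs.u,
      B.t_mul (by simp [DD, det_fin_two])] at e4
    obtain ⟨l, -, e5, -⟩ := (B.eq_iff (by simp [DD, det_fin_two])
      (dd (by linear_combination (a * b * (c * d) + 1) * e2))).1 e4
    have k1 := congrFun (congrFun e5 0) 0
    have k2 := congrFun (congrFun e5 1) 1
    simp [DD] at k1 k2
    exact B.two (by linear_combination (-2) * e2 + c * d * k1 + c * d * k2)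
  · have cj : ∀ x, IsConj x (g * x * g⁻¹) := fun x => isConj_iff.2 ⟨g, rfl⟩
    have n1 : ∀ x, B.TZ (-1) x → IsConj B.t x := fun x h =>
      let ⟨_, _, e⟩ := B.u_TZ.conj h; hF.u.trans (isConj_iff.2 ⟨_, e⟩)
    obtain ⟨d, d1, d2⟩ := B.Hw_invol m (by rw [conj_mul, B.ww]; simp)
    rcases d1.cases with rfl | rfl
    · refine hF.s0 s _ B.w_TZ.t_mul ((n1 _ d2.t_mul).trans ?_)
      have : B.t * (g * B.w * g⁻¹ * B.u) = g * (B.t * B.w) * g⁻¹ := by
        rw [← conj_mul, g2, mul_assoc B.t, mul_right_inj, ← mul_inv_eq_iff_eq_mul.2 g1, conj_mul, conj_mul,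
          B.uw_comm]
      exact this ▸ (cj _).symm
    · exact hF.s0 s _ B.w_TZ ((n1 _ d1).trans (cj _).symm)

end H20.L4.Fr2

namespace H20.L4.Bs

open Fr2

variable {G F : Type*} [Group G] [Finite G] [Field F] [Fintype F] (B : Bs G F)

theorem nv_ne_five (h5 : Fintype.card F ≠ 5) {g h : G} (hg : g ∈ B.NV) (hh : h ∈ B.H) :
    g * h * g⁻¹ ∈ B.H := by
  by_cases ha : ∃ a : F, a ≠ 0 ∧ a ^ 4 ≠ 1
  · obtain ⟨a, a0, a4⟩ := ha
    obtain ⟨b, hb⟩ : ∃ b, a * b = 1 := ⟨a⁻¹, mul_inv_cancel₀ a0⟩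
    obtain ⟨c1, c2⟩ := NV_cen hg (H_cen B hh).1 (H_cen B hh).2
    have cm : ∀ c d, B.C c → c * B.u = B.u * c → B.C d → d * B.u = B.u * d →
        g * h * g⁻¹ * (c * d * c⁻¹ * d⁻¹) * (g * h * g⁻¹)⁻¹ = c * d * c⁻¹ * d⁻¹ := fun c d h1 h2 h3 h4 => by
      obtain ⟨k1, k2⟩ := NV_cen (inv_mem hg) h1 h2
      obtain ⟨k3, k4⟩ := NV_cen (inv_mem hg) h3 h4
      have := H_comm hh (comm_H B k1 k2 k3 k4)
      calc _ = g * (h * (g⁻¹ * c * g⁻¹⁻¹ * (g⁻¹ * d * g⁻¹⁻¹) * (g⁻¹ * c * g⁻¹⁻¹)⁻¹ * (g⁻¹ * d * g⁻¹⁻¹)⁻¹)) *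
            h⁻¹ * g⁻¹ := by group
        _ = _ := by rw [this]; group
    have e0 : a * b * (1 * 1) = 1 := by linear_combination hb
    have e0' : b * a * (1 * 1) = 1 := by linear_combination hb
    have e1 : 1 * 1 * (b * a) = 1 := by linear_combination hb
    have e1' : 1 * 1 * (a * b) = 1 := by linear_combination hb
    have m0 : D B a b 1 1 ∈ B.H := ⟨_, _, _, _, e0, rfl⟩
    have i0 : (D B a b 1 1)⁻¹ = D B b a 1 1 := inv_eq_of_mul_eq_one_right (by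
      rw [D_mul B e0 e0', hb, mul_comm b, hb, one_mul, D, ← one_fin_two, B.ρ_one])
    have k1 := cm _ _ (H_cen B m0).1 (H_cen B m0).2 B.C_σ B.uσ_comm.symm
    have k2 := cm _ _ (H_cen B m0).1 (H_cen B m0).2 ((C_w B).mul B.C_σ)
      (by rw [mul_assoc, ← B.uσ_comm, ← mul_assoc, ← B.uw_comm, mul_assoc])
    rw [mul_assoc (D B a b 1 1), mul_assoc (D B a b 1 1), i0, σ_D B e0', D_mul B e0 e1] at k1
    rw [mul_assoc (D B a b 1 1), mul_assoc (D B a b 1 1), i0,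
      show B.w * B.σ * D B b a 1 1 * (B.w * B.σ)⁻¹ = B.w * (B.σ * D B b a 1 1 * B.σ⁻¹) * B.w⁻¹ by group,
      σ_D B e0', w_D B e1, D_mul B e0 e1'] at k2
    simp only [mul_one, one_mul] at k1 k2
    have e2 : a * b * (b * a) = 1 := by linear_combination (a * b + 1) * hb
    have e3 : a * b * (a * b) = 1 := by linear_combination (a * b + 1) * hb
    have no : ∀ {x k : G} {c d : F}, x ∈ B.H → a * b * (c * d) = 1 → k * D B a b c d * k⁻¹ = D B b a d c →
        x * k * D B a b c d * (x * k)⁻¹ ≠ D B a b c d := fun {x k c d} hx e f n => by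
      have e' : b * a * (d * c) = 1 := by linear_combination e
      rw [show x * k * D B a b c d * (x * k)⁻¹ = x * (k * D B a b c d * k⁻¹) * x⁻¹ by group, f,
        H_comm hx ⟨_, _, _, _, e', rfl⟩, mul_inv_cancel_right] at n
      obtain ⟨l, -, n1, -⟩ := (B.eq_iff (dd e') (dd e)).1 n
      have q1 := congrFun (congrFun n1 0) 0
      have q2 := congrFun (congrFun n1 1) 1
      simp at q1 q2
      exact a4 (by linear_combination a ^ 3 * q1 - a ^ 2 * b * q2 * 0 + (a ^ 2 * l) * hb - a * q2 + hb)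
    obtain ⟨x, hx, k, n, e⟩ := dec B c1 c2
    rw [e] at k1 k2 ⊢
    rcases n with rfl | rfl | rfl | rfl
    · rwa [mul_one]
    · exact absurd k1 (no hx e2 (w_D B e2))
    · exact absurd k1 (no hx e2 (σ_D B e2))
    · refine absurd k2 (no hx e3 ?_)
      rw [show B.w * B.σ * D B a b a b * (B.w * B.σ)⁻¹ = B.w * (B.σ * D B a b a b * B.σ⁻¹) * B.w⁻¹ by group,
        σ_D B e3, w_D B e3]
  · have h4 : Fintype.card F - 1 ∣ 4 := (FiniteField.forall_pow_eq_one_iff F 4).1 fun x =>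
      Units.ext (by_contra fun e => ha ⟨x, x.ne_zero, e⟩)
    have h3 : Fintype.card F = 3 := by
      have := Nat.le_of_dvd (by norm_num) h4
      have h1 := Fintype.one_lt_card (α := F)
      have h2 := Nat.odd_iff.1 B.odd
      omega
    have pm : ∀ x y : F, x * y = 1 → x = 1 ∨ x = -1 := fun x y e => by
      have := FiniteField.pow_card_sub_one_eq_one x (left_ne_zero_of_mul_eq_one e)
      rw [h3] at this
      exact sq_eq_one_iff.1 this
    obtain ⟨a, b, c, d, e, rfl⟩ := hh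
    have V : ∀ v, v = B.t ∨ v = B.u ∨ v = B.t * B.u → g * v * g⁻¹ ∈ B.H := fun v hv => by
      rcases NV_conj hg hv with e | e | e <;> rw [e]
      exacts [B.t_H, B.u_H, mul_mem B.t_H B.u_H]
    have key : ∀ b c d : F, 1 * b * (c * d) = 1 → g * D B 1 b c d * g⁻¹ ∈ B.H := fun b c d e => by
      rcases (⟨pm b (c * d) (by linear_combination e), pm c (d * b) (by linear_combination e)⟩ : _ ∧ _) with
        ⟨rfl | rfl, rfl | rfl⟩
      · rw [show d = 1 by linear_combination e, D, ← one_fin_two, B.ρ_one]; simp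
      · refine V _ (.inl ?_)
        rw [show d = -1 by linear_combination -e, B.t_eq', D, ← one_fin_two]
        congr 1; ext j k; fin_cases j <;> fin_cases k <;> simp
      · exact V _ (.inr (.inl (by rw [show d = -1 by linear_combination -e]; rfl)))
      · refine V _ (.inr (.inr ?_))
        rw [show d = 1 by linear_combination e, u, B.t_mul' (by simp [DD, det_fin_two]), D, DD]
        congr 1; ext j k; fin_cases j <;> fin_cases k <;> simp
    rcases pm a (b * (c * d)) (by linear_combination e) with rfl | rfl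
    · exact key b c d e
    · have := key (-b) (-c) (-d) (by linear_combination e)
      rw [← B.neg_neg (dd e)]
      convert this using 4 <;> ext j k <;> fin_cases j <;> fin_cases k <;> simp

theorem exists_fr (hF : ∀ B' : Bs G F, B'.Fus) (hN : ∀ g ∈ B.NV, ∀ h ∈ B.H, g * h * g⁻¹ ∈ B.H) :
    Nonempty B.Fr := by
  have nH : (B.H.subgroupOf B.NV).Normal := ⟨fun h hh g => hN g g.2 h hh⟩
  let φ := QuotientGroup.mk' (B.H.subgroupOf B.NV)
  have ker : ∀ n : B.NV, φ n = 1 ↔ n.1 ∈ B.H := fun n => QuotientGroup.eq_one_iff n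
  let s1 : B.NV := ⟨_, B.f1w_NV⟩
  let s3 : B.NV := ⟨_, B.f2w_NV⟩
  let z : B.NV := ⟨_, B.σ_NV⟩
  have J2 : wS F * wS F = -1 := Subtype.ext (by ext j k; fin_cases j <;> fin_cases k <;> simp [wv])
  have ha : φ s1 * φ s1 = 1 := by
    rw [← map_mul, ker]; change B.f1 _ * B.f1 _ ∈ _; rw [← map_mul, J2, B.f1_neg_one]; exact B.t_H
  have hc : φ s3 * φ s3 = 1 := by
    rw [← map_mul, ker]; change B.f2 _ * B.f2 _ ∈ _; rw [← map_mul, J2, B.f2_neg_one]; exact B.t_H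
  have hz : φ z * φ z = 1 := by rw [← map_mul, show z * z = 1 from Subtype.ext B.σσ, map_one]
  have ac : φ s1 * φ s3 = φ s3 * φ s1 := by
    rw [← map_mul, ← map_mul, show s1 * s3 = s3 * s1 from Subtype.ext (B.f12_comm _ _)]
  have za : φ z * φ s1 * (φ z)⁻¹ = φ s3 := by
    rw [← map_inv, ← map_mul, ← map_mul, show z * s1 * z⁻¹ = s3 from Subtype.ext (B.σ_f1 _)]
  have w1 : φ s1 * φ s3 ≠ 1 := fun e => B.w_notH ((ker _).1 ((map_mul φ _ _).trans e))
  have cen : ∀ n : B.NV, B.C n → n * B.u = B.u * n →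
      φ n = 1 ∨ φ n = φ s1 * φ s3 ∨ φ n = φ z ∨ φ n = φ s1 * φ s3 * φ z := fun n h e => by
    obtain ⟨x, hx, k, hk, e⟩ := dec B h e
    have e1 : φ ⟨x, H_NV hx⟩ = 1 := (ker _).2 hx
    rcases hk with rfl | rfl | rfl | rfl
    · exact .inl ((ker _).2 (by rwa [e, mul_one]))
    · exact .inr (.inl (by rw [show n = ⟨x, H_NV hx⟩ * (s1 * s3) from Subtype.ext e, map_mul, e1, one_mul, map_mul]))
    · exact .inr (.inr (.inl (by rw [show n = ⟨x, H_NV hx⟩ * z from Subtype.ext e, map_mul, e1, one_mul])))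
    · exact .inr (.inr (.inr (by
        rw [show n = ⟨x, H_NV hx⟩ * (s1 * s3 * z) from Subtype.ext e, map_mul, e1, one_mul, map_mul, map_mul])))
  have s1t : s1.1 * B.t * s1.1⁻¹ = B.t := (B.in_f1 _).C.conj_t
  have s1u : s1.1 * B.u * s1.1⁻¹ = B.t * B.u := B.f1w_u
  have ttu : B.t * (B.t * B.u) = B.u := by rw [← mul_assoc, B.tt, one_mul]
  have fin : ∀ (s2 : B.NV) (v : G), v = B.u ∨ v = B.t * B.u → s2.1 * B.t * s2.1⁻¹ = v → φ s2 * φ s2 = 1 →
      φ s2 * (φ s1 * φ s3) * (φ s2)⁻¹ = φ z → Nonempty B.Fr := fun s2 v hv h1 hb bw => by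
    have h2 : s2.1 * v * s2.1⁻¹ = B.t := by
      have := H_comm ((ker _).1 ((map_mul φ _ _).trans hb)) B.t_H
      rw [← h1, show s2.1 * (s2.1 * B.t * s2.1⁻¹) * s2.1⁻¹ = s2.1 * s2.1 * B.t * (s2.1 * s2.1)⁻¹ by group]
      exact mul_inv_eq_iff_eq_mul.2 this
    have h3 : s1.1 * v * s1.1⁻¹ = B.t * v := by
      rcases hv with rfl | rfl
      · exact s1u
      · rw [← conj_mul, s1t, s1u]
    have h4 : B.t * v * B.t = v := by
      rcases hv with rfl | rfl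
      · rw [B.tu_comm, mul_assoc, B.tt, mul_one]
      · rw [ttu, B.tu_comm]
    have r1 : s1.1 * s2.1 * B.t * (s1.1 * s2.1)⁻¹ = B.t * v := by rw [← h3, ← h1]; group
    have r2 : s1.1 * s2.1 * v * (s1.1 * s2.1)⁻¹ = B.t := by rw [← s1t, ← h2]; group
    have r3 : s1.1 * s2.1 * (B.t * v) * (s1.1 * s2.1)⁻¹ = v := by rw [← conj_mul, r1, r2, h4]
    have p3 : ∀ x, (s1.1 * s2.1) ^ 3 * x * ((s1.1 * s2.1) ^ 3)⁻¹ = s1.1 * s2.1 * (s1.1 * s2.1 *
        (s1.1 * s2.1 * x * (s1.1 * s2.1)⁻¹) * (s1.1 * s2.1)⁻¹) * (s1.1 * s2.1)⁻¹ := fun x => by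
      rw [pow_three]; group
    have r4 : (s1.1 * s2.1) ^ 3 * B.t * ((s1.1 * s2.1) ^ 3)⁻¹ = B.t := by rw [p3, r1, r3, r2]
    have r5 : (s1.1 * s2.1) ^ 3 * v * ((s1.1 * s2.1) ^ 3)⁻¹ = v := by rw [p3, r2, r1, r3]
    have r6 : (s1.1 * s2.1) ^ 3 * B.u * ((s1.1 * s2.1) ^ 3)⁻¹ = B.u := by
      rcases hv with rfl | rfl
      · exact r5
      · rwa [← conj_mul, r4, mul_right_inj] at r5
    have r7 := cen ((s1 * s2) ^ 3) (mul_inv_eq_iff_eq_mul.1 r4) (mul_inv_eq_iff_eq_mul.1 r6)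
    rw [map_pow, map_mul] at r7
    obtain ⟨b1, b2⟩ := braid ha hb hc hz ac za bw w1 r7
    obtain ⟨ψ, p1, p2, p3⟩ := H94.exists_hom_perm4 ha hb hc b1 b2 ac
    have p4 : ψ (Equiv.swap 0 2 * Equiv.swap 1 3) = φ z := by
      rw [← bw, ← p1, ← p2, ← p3, ← map_inv, ← map_mul, ← map_mul, ← map_mul]
      exact congrArg ψ (by decide)
    have m1 : φ s1 ∈ ψ.range := ⟨_, p1⟩
    have m2 : φ s2 ∈ ψ.range := ⟨_, p2⟩
    have A0 : ∀ n : B.NV, n.1 * B.t * n.1⁻¹ = B.t → n.1 * B.u * n.1⁻¹ = B.u → φ n ∈ ψ.range := fun n e e' => by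
      rcases cen n (mul_inv_eq_iff_eq_mul.1 e) (mul_inv_eq_iff_eq_mul.1 e') with f | f | f | f <;> rw [f]
      exacts [one_mem _, mul_mem m1 ⟨_, p3⟩, ⟨_, p4⟩, mul_mem (mul_mem m1 ⟨_, p3⟩) ⟨_, p4⟩]
    have mv : ∀ (k n : B.NV) (x y : G), n.1 * x * n.1⁻¹ = y → k.1 * x * k.1⁻¹ = y →
        (k⁻¹ * n).1 * x * (k⁻¹ * n).1⁻¹ = x := fun k n x y e e' => by
      change k.1⁻¹ * n.1 * x * (k.1⁻¹ * n.1)⁻¹ = x
      rw [show k.1⁻¹ * n.1 * x * (k.1⁻¹ * n.1)⁻¹ = k.1⁻¹ * (n.1 * x * n.1⁻¹) * k.1 by group, e, ← e']; group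
    have red : ∀ k n : B.NV, φ k ∈ ψ.range → φ (k⁻¹ * n) ∈ ψ.range → φ n ∈ ψ.range := fun k n e e' => by
      rw [map_mul, map_inv] at e'
      exact (Subgroup.mul_mem_cancel_left _ (inv_mem e)).1 e'
    have A1 : ∀ n : B.NV, n.1 * B.t * n.1⁻¹ = B.t → φ n ∈ ψ.range := fun n e => by
      rcases NV_conj n.2 (.inr (.inl rfl)) with f | f | f
      · exact absurd (by simpa using f.trans e.symm) B.u_TZ.ne_t
      · exact A0 n e f
      · exact red s1 n m1 (A0 _ (mv _ _ _ _ e s1t) (mv _ _ _ _ f s1u))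
    have A2 : ∀ n : B.NV, φ n ∈ ψ.range := fun n => by
      have : n.1 * B.t * n.1⁻¹ = B.t ∨ n.1 * B.t * n.1⁻¹ = v ∨ n.1 * B.t * n.1⁻¹ = B.t * v := by
        have := NV_conj n.2 (.inl rfl)
        rcases hv with rfl | rfl
        · exact this
        · rw [ttu]; tauto
      rcases this with f | f | f
      · exact A1 n f
      · exact red s2 n m2 (A1 _ (mv _ _ _ _ f h1))
      · exact red (s1 * s2) n (map_mul φ _ _ ▸ mul_mem m1 m2) (A1 _ (mv _ _ _ _ f r1))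
    let e := MulEquiv.ofBijective ψ ⟨H94.perm4_injective ψ fun e => w1 (by rw [← p1, e, p3, hc]), fun x => by
      obtain ⟨n, rfl⟩ := QuotientGroup.mk'_surjective _ x
      exact A2 n⟩
    exact ⟨⟨e.symm.toMonoidHom.comp φ, e.symm.surjective.comp (QuotientGroup.mk'_surjective _),
      fun n => (map_eq_one_iff e.symm e.symm.injective).trans (ker n), fun _ => e.symm_apply_eq.2 p1.symm,
      fun _ => e.symm_apply_eq.2 p3.symm, fun _ => e.symm_apply_eq.2 p4.symm⟩⟩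
  obtain ⟨g, g1, g2⟩ := B.tz_back B.u_TZ (hF B).u
  have g3 := mul_inv_eq_iff_eq_mul.2 g1
  have hg : g ∈ B.NV := mem_NV_of (.inr (.inr g2)) (.inr (.inl g3))
  let γ : B.NV := ⟨g, hg⟩
  have ww : φ s1 * φ s3 * (φ s1 * φ s3) = 1 := by
    rw [← map_mul, ← map_mul, show s1 * s3 * (s1 * s3) = 1 from Subtype.ext B.ww, map_one]
  have zw : φ s1 * φ s3 * φ z = φ z * (φ s1 * φ s3) := by
    rw [← map_mul, ← map_mul, ← map_mul, show s1 * s3 * z = z * (s1 * s3) from Subtype.ext B.wσ_comm]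
  have nf : φ γ * (φ s1 * φ s3) * (φ γ)⁻¹ ≠ φ s1 * φ s3 := fun e => not_fix B (hF B) hN hg g1 g2
    ((ker (γ * (s1 * s3) * γ⁻¹ * (s1 * s3))).1 (by simp only [map_mul, map_inv]; rw [e, ww]))
  have az : φ s1 * φ z * (φ s1)⁻¹ = φ s1 * φ s3 * φ z := by
    rw [← za, inv_eq_of_mul_eq_one_right ha]; group
  have aw : φ s1 * (φ s1 * φ s3) * (φ s1)⁻¹ = φ s1 * φ s3 := by rw [ac, ← mul_assoc, mul_inv_cancel_right, ac]
  have k1 := cen (γ * (s1 * s3) * γ⁻¹) (NV_cen hg (C_w B) B.uw_comm.symm).1 (NV_cen hg (C_w B) B.uw_comm.symm).2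
  have k2 := cen (γ⁻¹ * (s1 * s3) * γ⁻¹⁻¹) (NV_cen (inv_mem hg) (C_w B) B.uw_comm.symm).1
    (NV_cen (inv_mem hg) (C_w B) B.uw_comm.symm).2
  simp only [map_mul, map_inv, conj_eq_one_iff] at k1 k2
  have k3 : φ s1 * ((φ γ)⁻¹ * (φ s1 * φ s3) * (φ γ)⁻¹⁻¹) * (φ s1)⁻¹ =
      φ s1 * φ s3 * ((φ γ)⁻¹ * (φ s1 * φ s3) * (φ γ)⁻¹⁻¹) := by
    rcases k2 with f | f | f | f
    · exact absurd f w1
    · exact absurd (by nth_rewrite 1 [← f]; group) nf
    · rw [f, az]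
    · rw [f, ← conj_mul, aw, az]
  have k4 : φ γ * φ s1 * (φ γ)⁻¹ * (φ s1 * φ s3) * (φ γ * φ s1 * (φ γ)⁻¹)⁻¹ =
      φ γ * (φ s1 * φ s3) * (φ γ)⁻¹ * (φ s1 * φ s3) := by
    calc _ = φ γ * (φ s1 * ((φ γ)⁻¹ * (φ s1 * φ s3) * (φ γ)⁻¹⁻¹) * (φ s1)⁻¹) * (φ γ)⁻¹ := by group
      _ = _ := by rw [k3]; group
  have k5 : g * s1.1 * g⁻¹ * B.t * (g * s1.1 * g⁻¹)⁻¹ = B.u := by
    have : g⁻¹ * B.t * g = B.t * B.u := by
      rw [mul_assoc, inv_mul_eq_iff_eq_mul, ← mul_inv_eq_iff_eq_mul.trans eq_comm, ← conj_mul, g2, g3, mul_assoc,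
        B.uu, mul_one]
    calc _ = g * (s1.1 * (g⁻¹ * B.t * g) * s1.1⁻¹) * g⁻¹ := by group
      _ = _ := by rw [this, ← conj_mul (b := s1.1), s1t, s1u, ttu, g3]
  have k6 : φ (γ * s1 * γ⁻¹) * φ (γ * s1 * γ⁻¹) = 1 := by
    simp only [map_mul, map_inv]; rw [conj_mul, ha]; simp
  rcases k1 with f | f | f | f
  · exact absurd f w1
  · exact absurd f nf
  · refine fin (s1 * (γ * s1 * γ⁻¹) * s1⁻¹) _ (.inr rfl) ?_ ?_ ?_
    · change s1.1 * (g * s1.1 * g⁻¹) * s1.1⁻¹ * B.t * (s1.1 * (g * s1.1 * g⁻¹) * s1.1⁻¹)⁻¹ = _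
      rw [← s1u, ← k5]
      nth_rewrite 1 [← s1t]
      group
    · rw [map_mul, map_mul, map_inv, conj_mul, k6]; simp
    · rw [f] at k4
      simp only [map_mul, map_inv]
      calc _ = φ s1 * (φ γ * φ s1 * (φ γ)⁻¹ * ((φ s1)⁻¹ * (φ s1 * (φ s1 * φ s3) * (φ s1)⁻¹) * φ s1) *
            (φ γ * φ s1 * (φ γ)⁻¹)⁻¹) * (φ s1)⁻¹ := by rw [aw]; group
        _ = φ s1 * (φ z * (φ s1 * φ s3)) * (φ s1)⁻¹ := by rw [← k4]; group
        _ = _ := by rw [← conj_mul, az, aw, zw, mul_assoc, ww, mul_one]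
  · refine fin (γ * s1 * γ⁻¹) _ (.inl rfl) k5 k6 ?_
    simp only [map_mul, map_inv]
    rw [k4, f, zw, mul_assoc, ww, mul_one]

end H20.L4.Bs
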