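import Cfsg.Agent.Lib.L4Q.Fus1

/-! L4Q package Fr5: `N(V)` normalizes `H`, the case `q = 5`. -/

set_option autoImplicit false
set_option linter.unusedSectionVars false

open Matrix H24
open H52.FW (M2 wS dS Act)
open scoped MatrixGroups

namespace H20.L4.Fr5

open Bs

variable {G F : Type*} [Group G] [Field F] [Fintype F] (B : Bs G F) {y z h g v : G}

/-- The four-group. -/
def V : Subgroup G where
  carrier := {v | v = 1 ∨ v = B.t ∨ v = B.u ∨ v = B.t * B.u}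
  one_mem' := Or.inl rfl
  mul_mem' := by
    have a : ∀ x, B.t * (B.t * x) = x := fun x => by rw [← mul_assoc, B.tt, one_mul]
    have b : ∀ x, B.u * (B.t * x) = B.t * (B.u * x) := fun x => by
      rw [← mul_assoc, ← B.tu_comm, mul_assoc]
    rintro _ _ (rfl | rfl | rfl | rfl) (rfl | rfl | rfl | rfl) <;>
      simp [a, b, B.tt, B.uu, ← B.tu_comm, mul_assoc]
  inv_mem' := by
    have : B.u⁻¹ = B.u := inv_eq_of_mul_eq_one_right B.uu
    rintro _ (rfl | rfl | rfl | rfl) <;> simp [B.t_inv, this, ← B.tu_comm]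

/-- The centralizer of the four-group. -/
def T : Subgroup G where
  carrier := {y | B.C y ∧ y * B.u = B.u * y}
  one_mem' := ⟨B.C_one, by simp⟩
  mul_mem' h k := ⟨h.1.mul k.1, Commute.mul_left h.2 k.2⟩
  inv_mem' h := ⟨h.1.inv, Commute.inv_left h.2⟩

theorem force_eq_fr5 : True := by
  have := @V.eq_1.{0, 0}
  have := @T.eq_1.{0, 0}
  trivial

variable {B}

theorem V_H (hv : v ∈ V B) : v ∈ B.H := by
  rcases hv with rfl | rfl | rfl | rfl
  exacts [one_mem _, B.t_H, B.u_H, mul_mem B.t_H B.u_H]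

theorem H_T (hh : h ∈ B.H) : h ∈ T B := ⟨(H_In hh).C, H_comm hh B.u_H⟩

theorem V_comm (hv : v ∈ V B) (hy : y ∈ T B) : y * v = v * y := by
  rcases hv with rfl | rfl | rfl | rfl
  exacts [by simp, hy.1, hy.2, Commute.mul_right hy.1 hy.2]

theorem V_sq (hv : v ∈ V B) : v * v = 1 := by
  rcases hv with rfl | rfl | rfl | rfl
  exacts [by simp, B.tt, B.uu, by
    rw [mul_assoc, ← mul_assoc B.u, ← B.tu_comm, mul_assoc, B.uu, mul_one, B.tt]]

theorem V_conj (hg : g ∈ B.NV) (hv : v ∈ V B) : g * v * g⁻¹ ∈ V B := by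
  rcases hv with rfl | hv
  · simp
  · exact Or.inr (NV_conj hg hv)

theorem T_conj (hg : g ∈ B.NV) (hy : y ∈ T B) : g * y * g⁻¹ ∈ T B := NV_cen hg hy.1 hy.2

theorem form_w (hy : y * B.w ∈ B.H) : ∃ a b c d : F, a * b * (c * d) = 1 ∧
    y = B.ρ !![0, a; b, 0] !![0, c; d, 0] := by
  obtain ⟨a, b, c, d, k, e⟩ := hy
  refine ⟨a, -b, c, -d, by linear_combination k, ?_⟩
  rw [← mul_one y, ← B.ww, ← mul_assoc, e, B.w_eq, ← B.mul (by simpa [det_fin_two] using k) (by simp)]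
  simp [wS, H64.SL2.mk]

theorem sc {m : F} (m4 : m ^ 4 = 1) {x y x' y' : M2 F} (h : x.det * y.det = 1) (e1 : x' = m • x)
    (e2 : y' = m • y) : B.ρ x' y' = B.ρ x y := by rw [e1, e2, B.smul_ρ h m4]

theorem four (h5 : Fintype.card F = 5) {a : F} (ha : a ≠ 0) : a ^ 4 = 1 := by
  simpa [h5] using FiniteField.pow_card_sub_one_eq_one a ha

theorem memV (h5 : Fintype.card F = 5) {a b c d : F} (k : a * b * (c * d) = 1) (h1 : b * b = a * a)
    (h2 : c * c = a * a) (h3 : d * d = a * a) : B.ρ !![a, 0; 0, b] !![c, 0; 0, d] ∈ V B := by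
  have a4 := four h5 (a := a) (by rintro rfl; simp at k)
  have e : ∀ x y : M2 F, x.det * y.det = 1 → ∀ x' y', x' = a • x → y' = a • y →
      B.ρ x' y' = B.ρ x y := fun x y h x' y' => sc a4 h
  have dD : (DD F).det * (DD F).det = 1 := by simp [DD, det_fin_two]
  rcases mul_self_eq_mul_self_iff.1 h1 with rfl | rfl <;>
    rcases mul_self_eq_mul_self_iff.1 h2 with rfl | rfl <;>
    rcases mul_self_eq_mul_self_iff.1 h3 with rfl | rfl
  · exact Or.inl ((e 1 1 (by simp) _ _ (by simp [one_fin_two]) (by simp [one_fin_two])).trans B.ρ_one)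
  · exact absurd (by linear_combination -a4 - k) B.two
  · exact absurd (by linear_combination -a4 - k) B.two
  · exact Or.inr (Or.inl ((e 1 (-1) (by simp [det_neg]) _ _ (by simp [one_fin_two])
      (by simp [one_fin_two])).trans B.t_eq'.symm))
  · exact absurd (by linear_combination -a4 - k) B.two
  · exact Or.inr (Or.inr (Or.inl (e _ _ dD _ _ (by simp [DD]) (by simp [DD]))))
  · exact Or.inr (Or.inr (Or.inr ((e _ (-DD F) (by simpa [det_neg] using dD) _ _ (by simp [DD])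
      (by simp [DD])).trans (B.t_mul' dD).symm)))
  · exact absurd (by linear_combination -a4 - k) B.two

theorem omega (h5 : Fintype.card F = 5) (hh : h ∈ B.H) (e : h * h = 1) : h ∈ V B := by
  obtain ⟨a, b, c, d, k, rfl⟩ := hh
  rw [← B.mul (by simpa [det_fin_two] using k) (by simpa [det_fin_two] using k),
    B.ker (by simp [det_fin_two]; linear_combination (a * b * (c * d) + 1) * k)] at e
  obtain ⟨l, e1, e2⟩ := e
  simp [one_fin_two] at e1 e2
  exact memV h5 k (by grind) (by grind) (by grind)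

theorem sq_H (h5 : Fintype.card F = 5) (hh : h ∈ B.H) : h * h ∈ V B := by
  refine omega h5 (mul_mem hh hh) ?_
  simpa [h5, pow_succ, mul_assoc] using H_pow hh

theorem pm (h5 : Fintype.card F = 5) {m n : F} (k : m * n = 1) : m ^ 4 = 1 ∧ (n = m ∨ n = -m) := by
  have := four h5 (left_ne_zero_of_mul_eq_one k)
  exact ⟨this, mul_self_eq_mul_self_iff.1 (by linear_combination (m * n + 1) * m ^ 2 * k - n ^ 2 * this)⟩

theorem sq_w (h5 : Fintype.card F = 5) (hy : y * B.w ∈ B.H) : y * y = 1 ∨ y * y = B.t := by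
  obtain ⟨a, b, c, d, k, rfl⟩ := form_w hy
  rw [← B.mul (by simpa [det_fin_two] using k) (by simpa [det_fin_two] using k)]
  obtain ⟨m4, e | e⟩ := pm h5 k
  · refine Or.inl ((sc m4 (by simp) ?_ ?_).trans B.ρ_one) <;> simp [one_fin_two] <;> grind
  · refine Or.inr ((sc m4 (by simp [det_neg]) ?_ ?_).trans B.t_eq'.symm) <;> simp [one_fin_two] <;> grind

theorem sq_σ (h5 : Fintype.card F = 5) (hy : y * B.σ ∈ B.H) : y * y = 1 ∨ y * y = B.u := by
  obtain ⟨a, b, c, d, k, e⟩ := hy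
  rw [← eq_mul_inv_iff_mul_eq, B.σ_inv] at e
  rw [e, B.out_mul_out (by simpa [det_fin_two] using k) (by simpa [det_fin_two] using k)]
  obtain ⟨m4, e | e⟩ := pm h5 (m := a * c) (n := b * d) (by linear_combination k)
  · refine Or.inl ((sc m4 (by simp) ?_ ?_).trans B.ρ_one) <;> simp [one_fin_two] <;> grind
  · refine Or.inr (sc m4 (by simp [DD, det_fin_two]) ?_ ?_) <;> simp [DD] <;> grind

theorem sq_wσ (h5 : Fintype.card F = 5) (hy : y * (B.w * B.σ) ∈ B.H) :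
    y * y = 1 ∨ y * y = B.t * B.u := by
  rw [B.wσ_comm, ← mul_assoc] at hy
  obtain ⟨a, b, c, d, k, e⟩ := form_w hy
  rw [← eq_mul_inv_iff_mul_eq, B.σ_inv] at e
  rw [e, B.out_mul_out (by simpa [det_fin_two] using k) (by simpa [det_fin_two] using k)]
  obtain ⟨m4, e | e⟩ := pm h5 (m := a * d) (n := b * c) (by linear_combination k)
  · refine Or.inl ((sc m4 (by simp) ?_ ?_).trans B.ρ_one) <;> simp [one_fin_two] <;> grind
  · rw [Bs.u, B.t_mul' (by simp [DD, det_fin_two])]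
    refine Or.inr (sc m4 (by simp [DD, det_fin_two]) ?_ ?_) <;> simp [DD] <;> grind

theorem sq_T (h5 : Fintype.card F = 5) (hy : y ∈ T B) : y * y ∈ V B := by
  rcases hy.1.cen_V hy.2 with k | k | k | k
  · exact sq_H h5 k
  · exact (sq_w h5 k).imp_right Or.inl
  · exact (sq_σ h5 k).imp_right fun e => Or.inr (Or.inl e)
  · exact (sq_wσ h5 k).imp_right fun e => Or.inr (Or.inr e)

theorem comm_T (h5 : Fintype.card F = 5) (hy : y ∈ T B) (hz : z ∈ T B) :
    ∃ v ∈ V B, y * z = z * y * v :=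
  ⟨y⁻¹ * y⁻¹ * (y * z⁻¹ * (y * z⁻¹)) * (z * z), mul_mem (mul_mem (sq_T h5 (inv_mem hy))
    (sq_T h5 (mul_mem hy (inv_mem hz)))) (sq_T h5 hz), by group⟩

theorem same_sq (h5 : Fintype.card F = 5) (hy : y ∈ B.H) (hz : z ∈ B.H) (e : y * y = z * z) :
    ∃ v ∈ V B, y = z * v := by
  refine ⟨z⁻¹ * y, omega h5 (mul_mem (inv_mem hz) hy) ?_, by group⟩
  rw [mul_assoc, ← mul_assoc y, H_comm hy (inv_mem hz), mul_assoc, e]; group

theorem mem_H_of_Y (hy : y ∈ T B) (hY : B.Y y) (e : y * y = B.t) :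
    y ∈ B.H := by
  rcases hy.1.cen_V hy.2 with k | k0 | k | k
  · exact k
  · obtain ⟨a, b, c, d, k, rfl⟩ := form_w k0
    have k' : det !![0, a; b, 0] * det !![0, c; d, 0] = 1 := by simpa [det_fin_two] using k
    obtain ⟨l, hl, e1⟩ := (B.Y_iff k').1 hY
    refine absurd ?_ B.t_ne
    rw [← e, ← B.mul k' k', B.ker (det_mul' k' k')]
    simp [det_fin_two] at e1
    refine ⟨a * b, ?_, ?_⟩ <;> simp [one_fin_two] <;> grind
  · exact absurd (hY.In.mul_out B.out_σ) (H_In k).not_out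
  · exact absurd (hY.In.mul_out (B.w_TZ.In.mul_out B.out_σ)) (H_In k).not_out

theorem cen_H (h5 : Fintype.card F = 5) (hz : z * B.w ∈ B.H) (hh : h ∈ B.H) (e : h * z = z * h) :
    h ∈ V B := by
  obtain ⟨a, b, c, d, k, rfl⟩ := form_w hz
  obtain ⟨a', b', c', d', k', rfl⟩ := hh
  rw [B.comm_iff (by simpa [det_fin_two] using k') (by simpa [det_fin_two] using k)] at e
  have a4 := four h5 (a := a') (by rintro rfl; simp at k')
  have a0 : a ≠ 0 := by rintro rfl; simp at k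
  have c0 : c ≠ 0 := by rintro rfl; simp at k
  simp at e
  refine memV h5 k' ?_ ?_ ?_ <;> grind

theorem exists_x (hz : z * B.w ∈ B.H) (e : z * z = 1) :
    ∃ x, x * B.σ ∈ B.H ∧ x * x = 1 ∧ x * z = z * x := by
  obtain ⟨a, b, c, d, k, rfl⟩ := form_w hz
  have k' : det !![0, a; b, 0] * det !![0, c; d, 0] = 1 := by simpa [det_fin_two] using k
  rw [← B.mul k' k', B.ker (det_mul' k' k')] at e
  obtain ⟨l, e1, e2⟩ := e
  simp [one_fin_two] at e1 e2
  have a0 : a ≠ 0 := by rintro rfl; simp at k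
  have c0 : c ≠ 0 := by rintro rfl; simp at k
  have m : det !![a, 0; 0, c] * det !![a⁻¹, 0; 0, c⁻¹] = 1 := by simp [det_fin_two]; grind
  refine ⟨B.ρ !![a, 0; 0, c] !![a⁻¹, 0; 0, c⁻¹] * B.σ, ⟨a, c, a⁻¹, c⁻¹, by grind, by
    rw [mul_assoc, B.σσ, mul_one]⟩, ?_, (B.out_comm_iff m k').2 ⟨1, by simp, ?_, ?_⟩⟩
  · rw [B.out_mul_out m m, ← B.ρ_one]
    congr 1 <;> simp [one_fin_two, a0, c0]
  all_goals simp; grind

/-- An element permuting `t, u, t u` cyclically centralizes no outer involution. -/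
theorem no_fix [Finite G] (hF : ∀ B' : Bs G F, B'.Fus) (h5 : Fintype.card F = 5) {s x : G}
    (s1 : s * B.t * s⁻¹ = B.t * B.u) (s2 : s * B.u * s⁻¹ = B.t) (hx : x ∈ T B) (xo : B.Out x)
    (xx : x * x = 1) (e : s * x = x * s) : False := by
  obtain ⟨k, hk⟩ := B.exists_at ((hF B).five (by rw [h5]) x hx.1 xx fun e => by
    rw [e] at xo; exact In.not_out (one_mem B.C0) xo)
  generalize B.conj k = B' at hk
  have hs : B'.In (s * s) := by
    rcases B'.C_iff.1 (show B'.C s by rwa [Bs.C, hk]) with h | h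
    exacts [h.mul h, h.mul_out h]
  have cv : ∀ v ∈ V B, B'.C v := fun v hv => by rw [Bs.C, hk, V_comm hv hx]
  have s3 : s * (B.t * B.u) * s⁻¹ = B.u := by
    rw [← conj_mul, s1, s2, mul_assoc, ← B.tu_comm, ← mul_assoc, B.tt, one_mul]
  have c : ∀ v, s * s * v * (s * s)⁻¹ = s * (s * v * s⁻¹) * s⁻¹ := fun v => by group
  have hu : B'.In B.u := by
    have := hs.C.in_comm (cv (B.t * B.u) (Or.inr (Or.inr (Or.inr rfl))))
    rwa [c, s3, s2, inv_eq_of_mul_eq_one_right (V_sq (B := B) (Or.inr (Or.inr (Or.inr rfl)))),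
      ← mul_assoc, B.tt, one_mul] at this
  have ht := hs.comm_Y hu
  rw [c, s2, s1, mul_inv_cancel_right] at ht
  rcases ht.invol B.tt B.t_ne with h | h
  · exact B.in_t.not_out (by rwa [h, hk])
  · obtain ⟨g, g1, g2, g3, g4⟩ := xo.exists_p xx
    exact g4 (h.no_p (k := 1) (by rwa [Bs.C, hk]) g1 (by simpa))

theorem main [Finite G] (hF : ∀ B' : Bs G F, B'.Fus) (h5 : Fintype.card F = 5) {r c : G}
    (hr : r ∈ B.NV) (r1 : r * B.t * r⁻¹ = B.u) (r2 : r * B.u * r⁻¹ = B.t * B.u) (hc : c ∈ B.H)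
    (h1 : r * c * r⁻¹ * B.σ ∈ B.H) (h2 : r * (r * c * r⁻¹) * r⁻¹ * (B.w * B.σ) ∈ B.H)
    (h3 : ∃ v ∈ V B, r * (r * (r * c * r⁻¹) * r⁻¹) * r⁻¹ = c * v) : False := by
  obtain ⟨v, hv, h3⟩ := h3
  have tu : B.t ≠ B.u := B.u_TZ.ne_t.symm
  have r3 : r * (B.t * B.u) * r⁻¹ = B.t := by
    rw [← conj_mul, r1, r2, ← mul_assoc, ← B.tu_comm, mul_assoc, B.uu, mul_one]
  have T1 := T_conj hr (H_T hc)
  have T2 := T_conj hr T1
  generalize e2 : r * (r * c * r⁻¹) * r⁻¹ = c2 at *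
  generalize e1 : r * c * r⁻¹ = c1 at *
  have hz : c * (c1 * c2) * B.w ∈ B.H := by
    have := mul_mem (mul_mem hc h1) (B.σ_H h2)
    rwa [show c * (c1 * B.σ) * (B.σ * (c2 * (B.w * B.σ)) * B.σ⁻¹) =
      c * (c1 * ((B.σ * B.σ) * c2)) * B.w by group, B.σσ, one_mul] at this
  have zT := mul_mem (H_T hc) (mul_mem T1 T2)
  obtain ⟨v', hv', e⟩ := comm_T h5 (mul_mem T1 T2) (H_T hc)
  have rz : r * (c * (c1 * c2)) * r⁻¹ = c * (c1 * c2) * (v' * v) := by
    rw [← conj_mul, ← conj_mul, e1, e2, h3, ← mul_assoc, ← mul_assoc (c1 * c2), e, mul_assoc]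
  replace hv := mul_mem hv' hv
  generalize c * (c1 * c2) = z at *
  generalize v' * v = v at *
  have zz : z * z = 1 := by
    refine (sq_w h5 hz).resolve_right fun e => tu ?_
    rw [← r1, ← e, ← conj_mul, rz, mul_assoc, ← mul_assoc v, ← V_comm hv zT, mul_assoc, V_sq hv, mul_one]
  obtain ⟨x, x1, xx, xz⟩ := exists_x hz zz
  have xT : x ∈ T B := by
    have := mul_mem (H_T x1) (show B.σ ∈ T B from ⟨B.C_σ, B.uσ_comm.symm⟩)
    rwa [mul_assoc, B.σσ, mul_one] at this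
  have xo : B.Out x := by
    have := (H_In x1).mul_out B.out_σ
    rwa [mul_assoc, B.σσ, mul_one] at this
  have zi : z⁻¹ = z := inv_eq_of_mul_eq_one_right zz
  have xi : x⁻¹ = x := inv_eq_of_mul_eq_one_right xx
  have wi : B.w⁻¹ = B.w := inv_eq_of_mul_eq_one_right B.ww
  -- the centralizer of `z` in `T`
  have A : ∀ y ∈ T B, y * z = z * y → ∃ v ∈ V B, y = v ∨ y = z * v ∨ y = x * v ∨ y = x * z * v := by
    have key : ∀ y a, y ∈ T B → a ∈ T B → y * z = z * y → a * z = z * a → ∀ b, y * b ∈ B.H →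
        a * b ∈ B.H → ∃ v ∈ V B, y = a * v := fun y a hy ha e1 e2 b h1 h2 => by
      have := cen_H h5 hz (mul_mem h1 (inv_mem h2)) (by
        simpa using (Commute.mul_left e1 (Commute.inv_left e2)).eq)
      exact ⟨_, this, by rw [V_comm this ha]; group⟩
    intro y hy e
    rcases hy.1.cen_V hy.2 with k | k | k | k
    · exact ⟨y, cen_H h5 hz k e, Or.inl rfl⟩
    · exact (key y z hy zT e rfl _ k hz).imp fun _ h => ⟨h.1, Or.inr (Or.inl h.2)⟩
    · exact (key y x hy xT e xz _ k x1).imp fun _ h => ⟨h.1, Or.inr (Or.inr (Or.inl h.2))⟩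
    · refine (key y (x * z) hy (mul_mem xT zT) e (by rw [mul_assoc, ← mul_assoc z, ← xz, mul_assoc]) _ k
        ?_).imp fun _ h => ⟨h.1, Or.inr (Or.inr (Or.inr h.2))⟩
      have := mul_mem x1 (B.σ_H hz)
      rwa [show x * B.σ * (B.σ * (z * B.w) * B.σ⁻¹) = x * (B.σ * B.σ) * z * (B.w * B.σ⁻¹) by group,
        B.σσ, mul_one, B.σ_inv] at this
  have ri : r⁻¹ * z * r = z * (r⁻¹ * v * r⁻¹⁻¹)⁻¹ := by
    rw [eq_mul_inv_iff_mul_eq, inv_inv, show r⁻¹ * z * r * (r⁻¹ * v * r) = r⁻¹ * (z * v) * r by group,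
      ← rz]; group
  have nV : ∀ v ∈ V B, r * x * r⁻¹ ≠ v ∧ r * x * r⁻¹ ≠ z * v := fun v' hv' => by
    have h0 := V_conj (inv_mem hr) hv'
    have zI : B.In z := by simpa [mul_assoc, B.ww] using (H_In hz).mul B.w_TZ.In
    refine ⟨fun e => (H_In (V_H h0)).not_out (by rw [← e]; simpa [mul_assoc] using xo), fun e => ?_⟩
    refine ((zI.mul (H_In (V_H (V_conj (inv_mem hr) hv))).inv).mul (H_In (V_H h0))).not_out ?_
    rw [← ri, show r⁻¹ * z * r * (r⁻¹ * v' * r⁻¹⁻¹) = r⁻¹ * (z * v') * r by group, ← e]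
    simpa [mul_assoc] using xo
  obtain ⟨v1, hv1, e1⟩ : ∃ v ∈ V B, r * r * x * (r * r)⁻¹ = x * v := by
    obtain ⟨v1, hv1, e⟩ := A _ (T_conj hr xT) (by
      have h0 := V_comm hv (T_conj hr xT)
      have : r * x * r⁻¹ * (z * v) = z * v * (r * x * r⁻¹) := by rw [← rz, conj_mul, conj_mul, xz]
      rwa [← mul_assoc, mul_assoc z, ← h0, ← mul_assoc z, mul_left_inj] at this)
    have c : r * r * x * (r * r)⁻¹ = r * (r * x * r⁻¹) * r⁻¹ := by group
    have h0 := V_conj hr hv1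
    rcases e with e | e | e | e
    · exact absurd e (nV _ hv1).1
    · exact absurd e (nV _ hv1).2
    · exact ⟨_, mul_mem hv1 h0, by rw [c, e, ← conj_mul, e, mul_assoc]⟩
    · refine ⟨_, mul_mem (mul_mem hv1 hv) h0, ?_⟩
      rw [c, e, ← conj_mul, ← conj_mul, e, rz, mul_assoc (x * z), ← mul_assoc v1, ← V_comm hv1 zT]
      simp only [mul_assoc, ← mul_assoc z z, zz, one_mul]
  have c : ∀ y, r * r * y * (r * r)⁻¹ = r * (r * y * r⁻¹) * r⁻¹ := fun y => by group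
  have s1 : r * r * B.t * (r * r)⁻¹ = B.t * B.u := by rw [c, r1, r2]
  have s2 : r * r * B.u * (r * r)⁻¹ = B.t := by rw [c, r2, r3]
  obtain ⟨v2, hv2, e2⟩ : ∃ v ∈ V B, v1 * (r * r * v * (r * r)⁻¹) = v := by
    rcases hv1 with rfl | rfl | rfl | rfl
    · exact ⟨1, one_mem _, by simp⟩
    · exact ⟨B.t * B.u, Or.inr (Or.inr (Or.inr rfl)), by rw [c, r3, r1]⟩
    · exact ⟨B.t, Or.inr (Or.inl rfl), by
        rw [s1, ← mul_assoc, ← B.tu_comm, mul_assoc, B.uu, mul_one]⟩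
    · exact ⟨B.u, Or.inr (Or.inr (Or.inl rfl)), by
        rw [s2, mul_assoc, ← B.tu_comm, ← mul_assoc, B.tt, one_mul]⟩
  refine no_fix hF h5 s1 s2 (mul_mem xT (H_T (V_H hv2))) (xo.mul_in (H_In (V_H hv2))) ?_ ?_
  · rw [mul_assoc, ← mul_assoc v2, ← V_comm hv2 xT, mul_assoc, V_sq hv2, mul_one, xx]
  · rw [← mul_inv_eq_iff_eq_mul, ← conj_mul, e1, mul_assoc, e2]

end H20.L4.Fr5

namespace H20.L4.Bs

open Fr5

variable {G F : Type*} [Group G] [Finite G] [Field F] [Fintype F] (B : Bs G F)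

theorem nv_five (hF : ∀ B' : Bs G F, B'.Fus) (h5 : Fintype.card F = 5) {g h : G} (hg : g ∈ B.NV)
    (hh : h ∈ B.H) : g * h * g⁻¹ ∈ B.H := by
  obtain ⟨g0, g1, g2⟩ := B.tz_back B.u_TZ (hF B).u
  replace g1 := mul_inv_eq_iff_eq_mul.2 g1
  have s1 := (B.in_f1 (wS F)).C.conj_t
  have s2 := B.f1w_u
  have sN := B.f1w_NV
  have sH := @B.f1w_H
  generalize B.f1 (wS F) = s at *
  have s3 : s * (B.t * B.u) * s⁻¹ = B.u := by rw [← conj_mul, s1, s2, ← mul_assoc, B.tt, one_mul]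
  have cc : ∀ a b y : G, a * b * y * (a * b)⁻¹ = a * (b * y * b⁻¹) * a⁻¹ := fun a b y => by group
  have hr := mul_mem sN (mem_NV_of (Or.inr (Or.inr g2)) (Or.inr (Or.inl g1)))
  have r1 : s * g0 * B.t * (s * g0)⁻¹ = B.u := by rw [cc, g2, s3]
  have r2 : s * g0 * B.u * (s * g0)⁻¹ = B.t * B.u := by rw [cc, g1, s2]
  generalize s * g0 = r at *
  have r3 : r * (B.t * B.u) * r⁻¹ = B.t := by
    rw [← conj_mul, r1, r2, ← mul_assoc, ← B.tu_comm, mul_assoc, B.uu, mul_one]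
  have hc := B.f1_dS 2 B.two
  have cY := B.Y1 (dS 2 B.two)
  have ct : B.f1 (dS 2 B.two) * B.f1 (dS 2 B.two) = B.t := by
    rw [← map_mul, ← B.f1_neg_one]
    have h4 := four h5 B.two
    have := B.two
    have h0 : (5 : F) = 0 := by simpa [h5] using FiniteField.cast_card_eq_zero F
    congr 1
    ext i j
    rw [H52.FW.val_mul]
    fin_cases i <;> fin_cases j <;> simp [dS, H64.SL2.mk] <;> grind
  generalize B.f1 (dS 2 B.two) = c at *
  have sq : ∀ n : G, n * c * n⁻¹ * (n * c * n⁻¹) = n * B.t * n⁻¹ := fun n => by rw [conj_mul, ct]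
  have K : ∀ n ∈ B.NV, ∀ m ∈ B.NV, n * B.t * n⁻¹ = m * B.t * m⁻¹ →
      ∃ v ∈ V B, n * c * n⁻¹ = m * c * m⁻¹ * v := fun n hn m hm e => by
    have k := mul_mem (inv_mem hm) hn
    have e' : m⁻¹ * n * B.t * (m⁻¹ * n)⁻¹ = B.t := by rw [cc, e]; group
    obtain ⟨v, hv, e⟩ := same_sq h5 (mem_H_of_Y (T_conj k (H_T hc))
      (cY.conj (mul_inv_eq_iff_eq_mul.1 e')) (by rw [sq, e'])) hc (by rw [sq, e', ct])
    exact ⟨_, V_conj hm hv, by rw [conj_mul, ← e]; group⟩
  have rr : r * r * B.t * (r * r)⁻¹ = B.t * B.u := by rw [cc, r1, r2]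
  have tu : B.t ≠ B.u := B.u_TZ.ne_t.symm
  have i12 : r * c * r⁻¹ ∈ B.H ↔ r * r * c * (r * r)⁻¹ ∈ B.H := by
    refine ⟨fun h => ?_, fun h => ?_⟩
    · obtain ⟨v, hv, e⟩ := K _ (mul_mem hr hr) _ (mul_mem sN hr) (by rw [rr, cc, r1, s2])
      rw [e, cc]; exact mul_mem (sH h) (V_H hv)
    · obtain ⟨v, hv, e⟩ := K _ hr _ (mul_mem sN (mul_mem hr hr)) (by rw [cc, rr, r1, s3])
      rw [e, cc]; exact mul_mem (sH h) (V_H hv)
  have h1 : r * c * r⁻¹ ∈ B.H := by
    by_contra h1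
    have T1 := T_conj hr (H_T hc)
    have T2 := T_conj (mul_mem hr hr) (H_T hc)
    have u1 := B.u_TZ.ne_one
    have tu1 := B.u_TZ.t_mul.ne_one
    refine main hF h5 hr r1 r2 hc ?_ ?_ ?_
    · rcases T1.1.cen_V T1.2 with k | k | k | k
      · exact absurd k h1
      · have := sq_w h5 k
        rw [sq, r1] at this
        exact (this.elim u1 tu.symm).elim
      · exact k
      · have := sq_wσ h5 k
        rw [sq, r1] at this
        exact (this.elim u1 fun e => B.t_ne (by simpa using e)).elim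
    · rw [← cc]
      rcases T2.1.cen_V T2.2 with k | k | k | k
      · exact absurd (i12.2 k) h1
      · have := sq_w h5 k
        rw [sq, rr] at this
        exact (this.elim tu1 fun e => u1 (by simpa using e)).elim
      · have := sq_σ h5 k
        rw [sq, rr] at this
        exact (this.elim tu1 fun e => B.t_ne (by simpa using e)).elim
      · exact k
    · obtain ⟨v, hv, e⟩ := K _ (mul_mem hr (mul_mem hr hr)) 1 (one_mem _) (by rw [cc, rr, r3]; simp)
      exact ⟨v, hv, by rw [← cc r r c, ← cc r, e]; simp⟩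
  have all : ∀ n ∈ B.NV, n * c * n⁻¹ ∈ B.H := fun n hn => by
    have k : ∀ m ∈ B.NV, m * c * m⁻¹ ∈ B.H → n * B.t * n⁻¹ = m * B.t * m⁻¹ → n * c * n⁻¹ ∈ B.H :=
      fun m hm h e => by
        obtain ⟨v, hv, e⟩ := K n hn m hm e
        rw [e]; exact mul_mem h (V_H hv)
    rcases NV_conj hn (Or.inl rfl) with e | e | e
    · exact k 1 (one_mem _) (by simpa) (by simpa)
    · exact k r hr h1 (by rw [e, r1])
    · exact k _ (mul_mem hr hr) (i12.1 h1) (by rw [e, rr])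
  have k : ∀ m ∈ B.NV, h * h = m * B.t * m⁻¹ → g * h * g⁻¹ ∈ B.H := fun m hm e => by
    obtain ⟨v, hv, e⟩ := same_sq h5 hh (all m hm) (by rw [sq, e])
    rw [e, ← conj_mul, ← cc]
    exact mul_mem (all _ (mul_mem hg hm)) (V_H (V_conj hg hv))
  rcases sq_H h5 hh with e | e | e | e
  · exact V_H (V_conj hg (omega h5 hh e))
  · exact k 1 (one_mem _) (by simpa)
  · exact k r hr (by rw [e, r1])
  · exact k _ (mul_mem hr hr) (by rw [e, rr])

end H20.L4.Bs
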