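import Cfsg.Agent.Lib.L4Q.T2
import Cfsg.Agent.Lib.Inv73.Transfer
import Cfsg.Agent.Lib.LocStruct.SylowIn

/-! L4Q package Fus1: fusion, part 1. -/

set_option autoImplicit false
set_option linter.unusedSectionVars false

open Matrix H24
open H52.FW (M2 wS dS Act)
open scoped MatrixGroups

namespace H20.L4.Fus1

open Subgroup H69

variable {G : Type*} [Group G]

theorem pg_zp {x : G} {k : ℕ} (h : x ^ 2 ^ k = 1) : IsPGroup 2 (zpowers x) := by
  rintro ⟨_, n, rfl⟩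
  refine ⟨k, Subtype.ext ?_⟩
  change (x ^ n) ^ 2 ^ k = 1
  rw [← zpow_natCast, ← _root_.zpow_mul, mul_comm, _root_.zpow_mul, zpow_natCast, h, _root_.one_zpow]

theorem sq_of_conj {t c : G} (tt : t * t = 1) (k : IsConj t c) : c * c = 1 := by
  obtain ⟨g, rfl⟩ := isConj_iff.1 k
  rw [conj_mul, tt, mul_one, mul_inv_cancel]

theorem ne_of_conj {t c : G} (t1 : t ≠ 1) (k : IsConj t c) : c ≠ 1 := fun e =>
  t1 (isConj_one_right.1 (e ▸ k.symm))

/-- A conjugate of a `2`-element lies in a given Sylow subgroup. -/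
theorem cj_mem_syl [Finite G] {T L : Subgroup G} (hT : IsSylowIn 2 T L) {x : G} (hx : x ∈ L) {k : ℕ}
    (h : x ^ 2 ^ k = 1) : ∃ g ∈ L, g * x * g⁻¹ ∈ T := by
  obtain ⟨g, hg, e⟩ := hT.exists_cj_le (pg_zp h) (zpowers_le.2 hx)
  exact ⟨g, hg, e (cj_mem g (mem_zpowers x))⟩

/-- An element centralizing a Sylow `2`-subgroup is not conjugate to its product with a central
involution. -/
theorem no_swap [Finite G] {T L : Subgroup G} (hT : IsSylowIn 2 T L) {t z g : G} (tt : t * t = 1)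
    (t1 : t ≠ 1) (hL : ∀ l ∈ L, l * t * l⁻¹ = t) (hz : ∀ x ∈ T, x * z = z * x) (hg : g ∈ L)
    (e : g * z * g⁻¹ = t * z) : False := by
  have k : ∀ l ∈ L, ∀ y, l * (t * y) * l⁻¹ = t * (l * y * l⁻¹) := fun l hl y => by
    rw [← conj_mul, hL l hl]
  have ttz : ∀ y, t * (t * y) = y := fun y => by rw [← mul_assoc, tt, one_mul]
  let E : Subgroup G :=
    { carrier := {c | c ∈ L ∧ (c * z * c⁻¹ = z ∨ c * z * c⁻¹ = t * z)}
      one_mem' := ⟨L.one_mem, Or.inl (by simp)⟩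
      mul_mem' := fun {a b} ha hb => ⟨L.mul_mem ha.1 hb.1, by
        rw [show a * b * z * (a * b)⁻¹ = a * (b * z * b⁻¹) * a⁻¹ by group]
        rcases hb.2 with h | h <;> rw [h]
        · exact ha.2
        · rw [k a ha.1]
          rcases ha.2 with h | h <;> simp [h, ttz]⟩
      inv_mem' := fun {a} ha => ⟨L.inv_mem ha.1, ha.2.imp (fun h => by
        conv_lhs => rw [← h]
        group) fun h => by
          have := k _ (L.inv_mem ha.1) z
          rw [← h] at this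
          rw [← ttz (a⁻¹ * z * a⁻¹⁻¹), ← this]
          group⟩ }
  have hD : ∀ c, c ∈ centralizer {z} ↔ c * z * c⁻¹ = z := fun c => by
    rw [mem_centralizer_singleton_iff, mul_inv_eq_iff_eq_mul]
  have TD : T ≤ centralizer {z} := fun x hx => mem_centralizer_singleton_iff.2 (hz x hx)
  have TE : T ≤ E := fun x hx => ⟨hT.le hx, Or.inl ((hD x).1 (TD hx))⟩
  refine (hT.mono TE fun x hx => hx.1).not_dvd_relIndex_of_le (le_inf TD TE) inf_le_right ?_
  rw [inf_relIndex_right, (relIndex_eq_two_iff_exists_notMem_and (K := E)).2 ⟨g, ⟨hg, Or.inr e⟩,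
    fun h => t1 (by simpa [e] using (hD g).1 h), fun b hb => hb.2.symm.imp (fun h => ?_) (hD b).2⟩]
  rw [hD, show b * g * z * (b * g)⁻¹ = b * (g * z * g⁻¹) * b⁻¹ by group, e, k b hb.1, h, ttz]

end H20.L4.Fus1

namespace H20.L4.Bs

open Subgroup H69 Fus1

variable {G F : Type*} [Group G] [Finite G] [Field F] [Fintype F] (B : Bs G F) {c : G}

theorem _root_.H20.L4.Fus1.mem_cen : c ∈ centralizer {B.t} ↔ B.C c := mem_centralizer_singleton_iff

theorem _root_.H20.L4.Fus1.wS_val : (wS F).1 = !![0, 1; -1, 0] := rfl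

theorem _root_.H20.L4.Fus1.wS_sq : wS F * wS F = -1 := Subtype.ext (by
  rw [H52.FW.val_mul, H52.FW.val_neg, H52.FW.val_one, wS_val]
  ext i j
  fin_cases i <;> fin_cases j <;> simp)

include B in
theorem _root_.H20.L4.Fus1.sq_ne_one {x : SL(2, F)} (h : x = 1 ∨ x = -1) : x * x ≠ -1 := fun e => by
  have : (1 : SL(2, F)) = -1 := by rcases h with rfl | rfl <;> simpa using e
  exact B.t_ne (by rw [← B.f1_neg_one, ← this, map_one])

/-- No outer element centralizes a Sylow `2`-subgroup of a subgroup containing `f1 x`, `x² = -1`. -/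
theorem _root_.H20.L4.Fus1.not_cen {T L : Subgroup G} (hT : IsSylowIn 2 T L) (hL : ∀ l ∈ L, B.C l) {x : SL(2, F)}
    (hx : x * x = -1) (xL : B.f1 x ∈ L) (h : B.Out c) (hc : ∀ y ∈ T, y * c = c * y) : False := by
  have e4 : B.f1 x ^ 2 = B.t := by rw [sq, ← map_mul, hx, B.f1_neg_one]
  obtain ⟨g, hg, e⟩ := cj_mem_syl hT xL (k := 2) (by
    rw [show 2 ^ 2 = 2 * 2 from rfl, pow_mul, e4, sq, B.tt])
  have e2 : (g * B.f1 x * g⁻¹) * (g * B.f1 x * g⁻¹) = B.t := by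
    rw [conj_mul, ← sq, e4, (hL g hg).conj_t]
  rcases B.C_iff.1 (hL g hg) with hi | ho
  · obtain ⟨y, hy⟩ := hi.conj1 x
    rw [hy] at e e2
    refine sq_ne_one B (h.comm1 (hc _ e).symm) (B.f1_inj ?_)
    rw [map_mul, e2, B.f1_neg_one]
  · obtain ⟨y, hy⟩ := ho.conj1 x
    rw [hy] at e e2
    refine sq_ne_one B (h.comm2 (hc _ e).symm) (B.f2_inj ?_)
    rw [map_mul, e2, B.f2_neg_one]

theorem fus_syl : ∃ S : Sylow 2 G, ∀ c ∈ S, B.C c := by
  obtain ⟨T, hT, tT⟩ := exists_isSylowIn_le (L := centralizer {B.t})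
    (pg_zp (k := 1) (by rw [pow_one, sq, B.tt])) (zpowers_le.2 ((mem_cen B).2 B.C_t))
  have tT : B.t ∈ T := tT (mem_zpowers _)
  obtain ⟨S, hS⟩ := hT.isP.exists_le_sylow
  have h1 : (S : Subgroup G) ≠ ⊥ := fun e => B.t_ne (by simpa [e] using hS tT)
  obtain ⟨z, hz, z2⟩ := exists_orderOf_eq_prime (S.isPGroup'.to_inf_left (K := 𝐂((S : Subgroup G))))
    (center_ne_bot S.isPGroup' h1)
  have zz : z * z = 1 := by rw [← sq, ← z2, pow_orderOf_eq_one]
  have z1 : z ≠ 1 := by rintro rfl; simp at z2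
  have zc : ∀ x ∈ S, x * z = z * x := fun x hx => hz.2 x hx
  have zT : ∀ x ∈ T, x * z = z * x := fun x hx => zc x (hS hx)
  have ns : ∀ g, B.C g → g * z * g⁻¹ ≠ B.t * z := fun g hg e =>
    no_swap hT B.tt B.t_ne (fun l hl => ((mem_cen B).1 hl).conj_t) zT ((mem_cen B).2 hg) e
  refine ⟨S, fun c hc => ?_⟩
  rcases C.invol (B := B) (zT _ tT).symm zz z1 with e | ⟨d, h⟩ | h | h
  · rw [C, ← e, zc c hc]
  · obtain ⟨x, -, e⟩ := h.exists_w
    exact (ns _ (B.in_f1 x).C e).elim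
  · obtain ⟨g, hg, e⟩ := h.exists_w
    exact (ns g hg e).elim
  · exact (not_cen B hT (fun l => (mem_cen B).1) wS_sq ((mem_cen B).2 (B.in_f1 _).C) h zT).elim

theorem _root_.H20.L4.Fus1.up_ne : (upT (1 : F)) ≠ 1 := fun e => by
  simpa [upT, H64.SL2.mk] using congrArg (fun x : SL(2, F) => x.1 0 1) e

theorem fus_s1 (h : B.S1 c) : ¬ IsConj B.t c := fun k => by
  obtain ⟨g, hg⟩ := B.exists_at k
  have key : ∀ φ : SL(2, F) →* G, Function.Injective φ → φ (-1) = B.t →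
      (∀ x, c * φ x = φ x * c) → False := fun φ hi ht hc => by
    have h1 : ∀ x, (B.conj g).C (φ x) := fun x => by rw [C, hg, hc]
    rcases (ht ▸ Y_of_hom φ h1 (-1)).invol B.tt B.t_ne with e | e
    · exact h.ne_t (hg.symm.trans e.symm)
    · refine up_ne (hi ((e.no_p (h1 (upT 1)) ?_ (k := 1) ?_).trans φ.map_one.symm))
      · rw [← ht, ← map_mul, ← map_mul, mul_neg, neg_mul, mul_one, one_mul]
      · simpa [rt] using up_pow φ true (1 : F)
  exact h.comm.elim (key _ B.f1_inj B.f1_neg_one) (key _ B.f2_inj B.f2_neg_one)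

theorem _root_.H20.L4.Fus1.isConj_conj_t (g : G) : IsConj (B.conj g).t B.t := (isConj_iff.2 ⟨g, rfl⟩).symm

theorem tz_back {d : F} (h : B.TZ d c) (k : IsConj B.t c) :
    ∃ g, g * c = c * g ∧ g * B.t * g⁻¹ = B.t * c := by
  obtain ⟨g, hg⟩ := B.exists_at k
  have hc : c * B.t = B.t * c := h.In.C
  rcases C.invol (B := B.conj g) (by rw [C, hg, hc]) B.tt B.t_ne with e | ⟨d', h'⟩ | h' | h'
  · exact (h.ne_t (hg.symm.trans e.symm)).elim
  · obtain ⟨x, -, e⟩ := h'.exists_w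
    exact ⟨_, hg ▸ (show _ * _ = _ from ((B.conj g).in_f1 x).C), by rw [e, hg, hc]⟩
  · exact ((B.conj g).fus_s1 h' (isConj_conj_t B g)).elim
  · obtain ⟨y, h1, h2, h3, h4⟩ := h'.exists_p B.tt
    exact (h4 (h.no_p h2 (hg ▸ h1) (k := 1) (by rwa [pow_one]))).elim

theorem out_back {g : G} (h : B.Out (B.conj g).t) : (B.conj g).Out B.t := by
  rcases C.invol (B := B.conj g) (Eq.symm h.C) B.tt B.t_ne with e | ⟨d', h'⟩ | h' | h'
  · exact (B.in_t.not_out (e ▸ h)).elim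
  · obtain ⟨y, h1, h2, h3, h4⟩ := h.exists_p (B.conj g).tt
    exact (h4 (h'.no_p h2 h1 (k := 1) (by rwa [pow_one]))).elim
  · exact ((B.conj g).fus_s1 h' (isConj_conj_t B g)).elim
  · exact h'

/-- The diagonal copy of `SL₂(q)`. -/
def _root_.H20.L4.Fus1.dg : SL(2, F) →* G := MonoidHom.mk' (fun x => B.f1 x * B.f2 x) fun x y => by
  rw [map_mul, map_mul, mul_assoc, mul_assoc, ← mul_assoc (B.f1 y), B.f12_comm y x, mul_assoc]

theorem _root_.H20.L4.Fus1.force_eq_dg : True := by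
  have := @dg.eq_1.{0, 0}
  trivial

theorem _root_.H20.L4.Fus1.dg_apply (x : SL(2, F)) : dg B x = B.f1 x * B.f2 x := rfl

theorem _root_.H20.L4.Fus1.dg_σ (x : SL(2, F)) : dg B x * B.σ = B.σ * dg B x := by
  rw [eq_comm, ← mul_inv_eq_iff_eq_mul, dg_apply, ← conj_mul, B.σ_f1, B.σ_f2, B.f12_comm]

theorem _root_.H20.L4.Fus1.dg_C (x : SL(2, F)) : B.C (dg B x) := (B.in_f1 x).C.mul (B.in_f2 x).C

theorem _root_.H20.L4.Fus1.f1w_σ : B.f1 (wS F) * B.σ * (B.f1 (wS F))⁻¹ = B.t * B.σ * B.w := by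
  have e : (wS F)⁻¹ = -wS F := inv_eq_of_mul_eq_one_right (by rw [mul_neg, wS_sq, _root_.neg_neg])
  calc _ = B.f1 (wS F) * (B.σ * B.f1 (wS F)⁻¹ * B.σ⁻¹) * B.σ := by rw [map_inv]; group
    _ = B.t * (B.w * B.σ) := by
      rw [B.σ_f1, e, B.f2_neg, ← mul_assoc, (B.in_f1 _).C, w]
      group
    _ = _ := by rw [B.wσ_comm, mul_assoc]

theorem out_j (h : B.Out c) (k : IsConj B.t c) : ∃ j, B.TZ 1 j ∧ IsConj j (B.t * c) := by
  obtain ⟨A, hA, e⟩ := h.std (sq_of_conj B.tt k)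
  rw [← hA.t] at k ⊢
  obtain ⟨g, hg⟩ := A.exists_at k
  have h1 : ∀ x, (A.conj g).C (dg A x) := fun x => by
    rw [C, hg]
    rcases e with rfl | rfl
    · exact dg_σ A x
    · rw [← mul_assoc, dg_C A x, mul_assoc, dg_σ A, mul_assoc]
  refine ⟨A.w, (hA.hTZ _ _).1 A.w_TZ, ?_⟩
  rcases (Y_of_hom (dg A) h1 (wS F)).invol A.ww A.w_TZ.ne_one with e1 | e1
  · exact (A.w_TZ.In.not_out ((hA.hOut _).2 ((show A.w = c from e1.trans hg).symm ▸ h))).elim
  obtain ⟨x, -, e2⟩ := e1.exists_w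
  refine (isConj_iff.2 ⟨_, e2⟩).trans (isConj_iff.2 ⟨A.f1 (wS F), ?_⟩).symm
  rw [hg]
  change _ = c * A.w
  rcases e with rfl | rfl
  · rw [← conj_mul, (A.in_f1 _).C.conj_t, f1w_σ A, ← mul_assoc, ← mul_assoc, A.tt, one_mul]
  · rw [← mul_assoc A.t, A.tt, one_mul, f1w_σ A]

variable {B} in
theorem _root_.H20.L4.Fus1.tz_conj {d : F} {c' : G} (h : B.TZ d c) (h' : B.TZ d c') : IsConj c c' := by
  obtain ⟨x, y, e⟩ := h.conj h'
  exact isConj_iff.2 ⟨_, e⟩

variable {B} in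
theorem _root_.H20.L4.Fus1.tz_u (s : IsSquare (-1 : F)) {d : F} (h : B.TZ d c) : IsConj c B.u := by
  rcases h.cases with rfl | rfl
  · exact tz_conj (h.of_sq s) B.u_TZ
  · exact tz_conj h B.u_TZ

theorem fus_u1 (hG : ∀ H : Subgroup G, H.index ≠ 2) (s : IsSquare (-1 : F)) : IsConj B.t B.u := by
  obtain ⟨c, k, hc, n⟩ := B.exists_conj hG
  have cc := sq_of_conj B.tt k
  rcases hc.invol cc (ne_of_conj B.t_ne k) with e | ⟨d, h⟩ | h | h
  · exact (n e).elim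
  · exact k.trans (tz_u s h)
  · exact (B.fus_s1 h k).elim
  · obtain ⟨j, hj, e⟩ := B.out_j h k
    obtain ⟨g, -, e'⟩ := h.exists_w s cc
    exact (k.trans (isConj_iff.2 ⟨g, e'⟩)).trans (e.symm.trans (tz_u s hj))

/-- Thompson transfer for a subgroup of index two of `C(t)` missing the involution `v`. -/
theorem _root_.H20.L4.Fus1.thompson (hG : ∀ H : Subgroup G, H.index ≠ 2) {M : Subgroup G} {v : G} (hv : B.C v)
    (vv : v * v = 1) (h1 : ∀ g, B.C g → g * v * g⁻¹ ∉ M)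
    (h2 : ∀ a b, B.C a → B.C b → a ∉ M → b ∉ M → a * b ∈ M) (cc : c * c = 1) (c1 : c ≠ 1) :
    ∃ y ∈ M, IsConj c y := by
  obtain ⟨S, hS⟩ := B.fus_syl
  obtain ⟨g, hg, e⟩ := cj_mem_syl (isSylowIn_of_le S (L := centralizer {B.t})
    fun x hx => (mem_cen B).2 (hS x hx)) ((mem_cen B).2 hv) (k := 1) (by rwa [pow_one, sq])
  have n := h1 g ((mem_cen B).1 hg)
  obtain ⟨k, hk⟩ := H73.exists_conj_mem_of_no_index_two (fun N _ => hG N) S M
    (relIndex_eq_two_iff_exists_notMem_and.2 ⟨_, e, n, fun b hb =>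
      (em (b ∈ M)).symm.imp_left fun h => h2 _ _ (hS b hb) (hS _ e) h n⟩) c
    (orderOf_eq_prime (by rwa [sq]) c1)
  exact ⟨_, hk, isConj_iff.2 ⟨k, rfl⟩⟩

theorem fus_five (hG : ∀ H : Subgroup G, H.index ≠ 2) (h5 : Fintype.card F % 8 = 5) (h : B.C c)
    (e : c * c = 1) (n : c ≠ 1) : IsConj B.t c := by
  have _ := h
  have s : IsSquare (-1 : F) := FiniteField.isSquare_neg_one_iff.2 (by omega)
  obtain ⟨y, hy, k⟩ := thompson B hG (M := B.C0) B.C_σ B.σσ
    (fun g hg h => In.not_out h (B.out_σ.conj hg))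
    (fun a b ha hb na nb => ((B.C_iff.1 ha).resolve_left na).mul_out
      ((B.C_iff.1 hb).resolve_left nb)) e n
  refine IsConj.trans ?_ k.symm
  rcases (In.C hy).invol (sq_of_conj e k) (ne_of_conj n k) with rfl | ⟨d, h⟩ | h | h
  · exact IsConj.refl _
  · exact (B.fus_u1 hG s).trans (tz_u s h).symm
  · have := h.mod8
    omega
  · exact (In.not_out hy h).elim

end H20.L4.Bs
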