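import Cfsg.Agent.Lib.L4Q.Inv
import Cfsg.Agent.Lib.L4Q.Fus1
import Cfsg.Agent.Lib.Cls.Four
import Cfsg.Agent.Lib.Core.CoprimeSylow
import Cfsg.Agent.Lib.Core.CoprimeAbelian

/-! L4Q package KL: the subgroup `O_p(C(X₀₁))`. -/

set_option autoImplicit false
set_option linter.unusedSectionVars false

open Matrix H24
open H52.FW (M2 wS dS Act)
open scoped MatrixGroups

namespace H20.L4.KL

open Subgroup H68

variable {G : Type*} [Group G] [Finite G]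

theorem odd_of_le {W R : Subgroup G} (h : W ≤ R) (hR : Odd (Nat.card R)) : Odd (Nat.card W) :=
  hR.of_dvd_nat (card_dvd_of_le h)

theorem eq_one_of_odd {W : Subgroup G} (hW : Odd (Nat.card W)) {y : G} (hy : y ∈ W) (e : y * y = 1) :
    y = 1 := by
  obtain ⟨k, hk⟩ := hW
  have h : y ^ (2 * k + 1) = 1 := hk ▸ orderOf_dvd_iff_pow_eq_one.1 (orderOf_dvd_natCard W hy)
  rwa [pow_succ, pow_mul, sq, e, one_pow, one_mul] at h

/-- An element of an odd order subgroup is a fixed element times an inverted element. -/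
theorem dec {W : Subgroup G} (hW : Odd (Nat.card W)) {s : G} (ss : s * s = 1)
    (hs : ∀ y ∈ W, s * y * s⁻¹ ∈ W) {y : G} (hy : y ∈ W) :
    ∃ c ∈ W, ∃ i ∈ W, s * c * s⁻¹ = c ∧ s * i * s⁻¹ = i⁻¹ ∧ y = c * i := by
  obtain ⟨k, hk⟩ := hW
  obtain ⟨m, hm⟩ : ∃ m, m = y⁻¹ * (s * y * s⁻¹) := ⟨_, rfl⟩
  have m1 : m ∈ W := hm ▸ mul_mem (inv_mem hy) (hs y hy)
  have m2 : m ^ k * m ^ k * m = 1 := by
    rw [← pow_add, ← pow_succ, ← two_mul, ← hk]
    exact orderOf_dvd_iff_pow_eq_one.1 (orderOf_dvd_natCard W m1)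
  have m3 : s * m * s⁻¹ = m⁻¹ := by
    calc _ = s * y⁻¹ * s⁻¹ * (s * s) * y * (s * s)⁻¹ := by rw [hm]; group
      _ = _ := by rw [ss, hm]; group
  have m4 : s * m ^ k * s⁻¹ = (m ^ k)⁻¹ := by rw [← conj_pow, m3, inv_pow]
  refine ⟨y * (m ^ k)⁻¹, mul_mem hy (inv_mem (pow_mem m1 k)), m ^ k, pow_mem m1 k, ?_, m4, by group⟩
  calc _ = y * (y⁻¹ * (s * y * s⁻¹)) * (s * m ^ k * s⁻¹)⁻¹ := by group
    _ = y * (m ^ k)⁻¹ * (m ^ k * m ^ k * m) := by rw [← hm, m4]; group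
    _ = _ := by rw [m2, mul_one]

/-- Elements of `R` fixed by `v` and inverted by `s`. -/
def Iv (R : Subgroup G) (v s i : G) : Prop := i ∈ R ∧ v * i * v⁻¹ = i ∧ s * i * s⁻¹ = i⁻¹

theorem Iv.conj {R : Subgroup G} {v s i c : G} (h : Iv R v s i) (hc : c * i * c⁻¹ ∈ R)
    (h1 : v * c = c * v) (h2 : s * c = c * s) : Iv R v s (c * i * c⁻¹) := by
  refine ⟨hc, ?_, ?_⟩
  · calc _ = v * c * i * (v * c)⁻¹ := by group
      _ = c * (v * i * v⁻¹) * c⁻¹ := by rw [h1]; group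
      _ = _ := by rw [h.2.1]
  · calc _ = s * c * i * (s * c)⁻¹ := by group
      _ = c * (s * i * s⁻¹) * c⁻¹ := by rw [h2]; group
      _ = _ := by rw [h.2.2]; group

/-- A four-group `A` acting on an odd order group `R` with `C_R(A)` a `p'`-group and small
`[C_R(a), A]`: the Sylow `p`-subgroup is normal. -/
theorem core {p : ℕ} [Fact p.Prime] {A R : Subgroup G} (hA : IsKleinFour A) (hR : Odd (Nat.card R))
    (hAR : A ≤ normalizer (R : Set G))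
    (h0 : ∀ c ∈ R ⊓ centralizer (A : Set G), ∀ k, c ^ p ^ k = 1 → c = 1)
    (h1 : ∀ a ∈ A, a ≠ 1 → ∃ s ∈ A, (∀ c, a * c * a⁻¹ = c → s * c * s⁻¹ = c → c ∈ centralizer (A : Set G)) ∧
      ∀ i j, Iv R a s i → Iv R a s j → i * j = j * i ∧ i ^ p = 1) :
    ∃ P, SylowIn p P R ∧ R ≤ normalizer (P : Set G) ∧
      ∀ M, R ⊓ centralizer (A : Set G) ≤ M → P ≤ M → R ≤ M := by
  have cop : ∀ {W : Subgroup G}, W ≤ R → (Nat.card A).Coprime (Nat.card W) := fun h => by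
    rw [hA.card_four]
    exact (Nat.coprime_two_left.2 (odd_of_le h hR)).pow_left 2
  have cm := @H19.mul_comm_of_isKleinFour _ _ _ hA
  have hc : IsMulCommutative A := ⟨⟨fun x y => Subtype.ext (cm x.2 y.2)⟩⟩
  have sol : Group.IsSolvable A ∨ Group.IsSolvable R :=
    Or.inl (isSolvable_of_comm fun x y => Subtype.ext (cm x.2 y.2))
  obtain ⟨P, hP, hAP⟩ := H2.exists_invariant_sylowIn hAR (cop le_rfl) sol p
  have dc : ∀ {W : Subgroup G}, W ≤ R → A ≤ normalizer (W : Set G) → ∀ {a s : G}, a ∈ A → s ∈ A →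
      (∀ c, a * c * a⁻¹ = c → s * c * s⁻¹ = c → c ∈ centralizer (A : Set G)) →
      ∀ y ∈ W ⊓ centralizer {a}, ∃ c ∈ W ⊓ centralizer (A : Set G), ∃ i, Iv R a s i ∧ y = c * i :=
    fun {W} hW hn a s ha hs h y hy => by
      have k : ∀ y ∈ W ⊓ centralizer {a}, a * y * a⁻¹ = y := fun y hy => by
        rw [← mem_centralizer_singleton_iff.1 hy.2, mul_inv_cancel_right]
      obtain ⟨c, c1, i, i1, c2, i2, e⟩ := dec (odd_of_le (inf_le_left.trans hW) hR)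
        (H19.mul_self_of_isKleinFour hA hs) (fun y hy => ⟨H68.conj_mem_of_mem_normalizer (hn hs) hy.1,
          H68.conj_mem_of_mem_normalizer (G := G) (H := centralizer {a})
            (le_normalizer (mem_centralizer_singleton_iff.2 (cm hs ha))) hy.2⟩) hy
      exact ⟨c, ⟨c1.1, h c (k c c1) c2⟩, i, ⟨hW i1.1, k i i1, i2⟩, e⟩
  have key : ∀ a ∈ A, a ≠ 1 → ∃ s ∈ A, (∀ c, a * c * a⁻¹ = c → s * c * s⁻¹ = c →
      c ∈ centralizer (A : Set G)) ∧ ∀ i, Iv R a s i → i ∈ P := fun a ha a1 => by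
    obtain ⟨s, hs, s1, s2⟩ := h1 a ha a1
    refine ⟨s, hs, s1, fun i hi => ?_⟩
    let E : Subgroup G :=
      { carrier := {i | Iv R a s i}
        one_mem' := ⟨one_mem _, by simp, by simp⟩
        mul_mem' := fun {x y} hx hy => ⟨mul_mem hx.1 hy.1, by rw [← conj_mul, hx.2.1, hy.2.1], by
          rw [← conj_mul, hx.2.2, hy.2.2, ← _root_.mul_inv_rev, (s2 x y hx hy).1]⟩
        inv_mem' := fun {x} hx => ⟨inv_mem hx.1, by rw [← conj_inv, hx.2.1], by rw [← conj_inv, hx.2.2]⟩ }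
    obtain ⟨c, hc, e⟩ := H2.exists_centralizer_cj_le_of_sylowIn hAR (cop le_rfl) sol hP hAP (U := E)
      (fun x hx => hx.1) (isPGroup_iff_forall.2 fun x hx => ⟨1, by rw [pow_one, (s2 x x hx hx).2]⟩)
      fun b hb => mem_normalizer_of_cj_le (cj_le_iff'.2 fun x hx =>
        Iv.conj hx (H68.conj_mem_of_mem_normalizer (hAR hb) hx.1) (cm ha hb) (cm hs hb))
    have := cj_le_iff'.1 e _ (Iv.conj (c := c⁻¹) hi (mul_mem (mul_mem (inv_mem hc.1) hi.1) (by simpa using hc.1))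
      ((centralizer _).inv_mem hc.2 a ha) ((centralizer _).inv_mem hc.2 s hs))
    simpa [mul_assoc] using this
  have gen : ∀ M, R ⊓ centralizer (A : Set G) ≤ M → P ≤ M → R ≤ M := fun M m1 m2 =>
    H2.le_of_forall_centralizer_le hc IsKleinFour.not_isCyclic hAR (cop le_rfl) fun a ha a1 y hy => by
      obtain ⟨s, hs, s1, s2⟩ := key a ha a1
      obtain ⟨c, hc, i, hi, rfl⟩ := dc le_rfl hAR ha hs s1 y hy
      exact mul_mem (m1 hc) (m2 (s2 i hi))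
  refine ⟨P, hP, gen _ (fun c hc' => mem_normalizer_of_cj_le (cj_le_iff.2 ?_)) le_normalizer, gen⟩
  refine H2.le_of_forall_centralizer_le hc IsKleinFour.not_isCyclic hAP (cop hP.le) fun a ha a1 y hy => ?_
  obtain ⟨s, hs, s1, s2⟩ := key a ha a1
  obtain ⟨d, hd, i, hi, rfl⟩ := dc hP.le hAP ha hs s1 y hy
  obtain ⟨k, hk⟩ := isPGroup_iff_forall.1 hP.isPGroup d hd.1
  rw [h0 d ⟨hP.le hd.1, hd.2⟩ k hk, one_mul, mem_cj, inv_inv]
  exact s2 _ (hi.conj (mul_mem (mul_mem hc'.1 hi.1) (inv_mem hc'.1)) (hc'.2 a ha) (hc'.2 s hs))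

variable {F : Type*} [Field F]

theorem up_of_comm (h2 : (2 : F) ≠ 0) {x : SL(2, F)} (t : x.1.trace = 2) (e : x * upT 1 = upT 1 * x) :
    x = upT (x 0 1) := by
  rw [trace_fin_two] at t
  simp only [H64.SL2.ent, upT_00, upT_01, upT_10, upT_11] at e ⊢
  obtain ⟨e1, e2, -, -⟩ := e
  refine ⟨mul_left_cancel₀ h2 ?_, trivial, ?_, mul_left_cancel₀ h2 ?_⟩
  · linear_combination t + e2
  · linear_combination -e1
  · linear_combination t - e2

/-- A normal subgroup of `SL₂` containing a transvection contains `-1`. -/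
theorem neg_mem (φ : SL(2, F) →* G) {O : Subgroup G} (hn : ∀ g, ∀ y ∈ O, φ g * y * (φ g)⁻¹ ∈ O) {k : F}
    (hk : k ≠ 0) (h : φ (upT k) ∈ O) : φ (-1) ∈ O := by
  have e : H64.SL2.mk 0 k (-k⁻¹) 0 (by simp [hk]) * upT k * (H64.SL2.mk 0 k (-k⁻¹) 0 (by simp [hk]))⁻¹ =
      loT (-k⁻¹) := mul_inv_eq_of_eq_mul (by
    simp only [H64.SL2.ent, upT_00, upT_01, upT_10, upT_11, loT_00, loT_01, loT_10, loT_11]
    simp [hk])
  have h' : φ (upT k * upT k * loT (-k⁻¹)) ∈ O := by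
    rw [← e, map_mul, map_mul, map_mul, map_mul, map_inv]
    exact mul_mem (mul_mem h h) (hn _ _ h)
  have e' : upT k * upT k * loT (-k⁻¹) * (upT k * upT k * loT (-k⁻¹)) = -1 := by
    simp only [H64.SL2.ent, upT_00, upT_01, upT_10, upT_11, loT_00, loT_01, loT_10, loT_11]
    refine ⟨?_, ?_, ?_, ?_⟩ <;> field_simp <;> ring
  rw [← e', map_mul]
  exact mul_mem h' h'

variable [Fintype F] {B : Bs G F} (R : B.Fr)

/-- The properties of `O(C(X₀₁))`. -/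
structure OK (O : Subgroup G) : Prop where
  odd : Odd (Nat.card O)
  le : R.X 0 1 ≤ O
  cen : ∀ y ∈ O, ∀ a, y * R.x 0 1 a = R.x 0 1 a * y
  nrm : ∀ g, (∀ a, ∃ b, g * R.x 0 1 a * g⁻¹ = R.x 0 1 b) → g ∈ normalizer (O : Set G)
  zst : ∀ y, (∀ a, y * R.x 0 1 a = R.x 0 1 a * y) →
    ∃ c, B.C c ∧ (∀ a, c * R.x 0 1 a = R.x 0 1 a * c) ∧ ∃ r ∈ O, y = c * r

theorem exists_O (hB : B.Fus) : ∃ O, OK R O := by
  have mK : ∀ {y}, y ∈ centralizer (R.X 0 1 : Set G) ↔ ∀ a, y * R.x 0 1 a = R.x 0 1 a * y :=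
    ⟨fun h a => (h _ ⟨a, rfl⟩).symm, by rintro h _ ⟨a, rfl⟩; exact (h a).symm⟩
  have tK : B.t ∈ centralizer (R.X 0 1 : Set G) := mK.2 fun a => by
    rw [R.x01]; exact (B.in_f1 _).C.symm
  have XK : R.X 0 1 ≤ centralizer (R.X 0 1 : Set G) := by
    rintro _ ⟨a, rfl⟩
    exact mK.2 (R.Cm_self a)
  have z := H73.centralizer_sup_oddCore_eq_top' (u := (⟨B.t, tK⟩ : centralizer (R.X 0 1 : Set G)))
    (by rw [← orderOf_coe]; exact B.t_order) fun g hg => by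
      have c1 : B.C (g * B.t * (g : G)⁻¹) := congrArg Subtype.val hg.eq
      have c2 := mK.1 (g * ⟨B.t, tK⟩ * g⁻¹).2
      simp only [R.x01] at c2
      rcases c1.invol (by rw [conj_mul, B.tt]; simp) (mt conj_eq_one_iff.1 B.t_ne) with h | ⟨d, h⟩ | h | h
      · exact Subtype.ext h
      · have := h.no_p (B.in_f1 (upT 1)).C (c2 1).symm (k := 1) (by rw [pow_one]; exact Bs.up_pow B.f1 true 1)
        exact absurd (R.x_inj (((R.x01 1).trans this).trans R.x_zero.symm)) one_ne_zero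
      · exact absurd (isConj_iff.2 ⟨(g : G), rfl⟩) (hB.s1 _ h)
      · rcases h.comm1 (c2 1) with e | e <;> have := congrArg (fun m : SL(2, F) => m 0 1) e <;> simp at this
  refine ⟨(Cfsg.oddCore (centralizer (R.X 0 1 : Set G))).map (Subgroup.subtype _), ?_, ?_,
    fun y hy => mK.1 (map_subtype_le _ hy), fun g hg => ?_, fun y hy => ?_⟩
  · rw [card_subtype]; exact H1.odd_card_oddCore
  · haveI := Fact.mk (Bs.p_prime (F := F))
    have : IsPGroup (ringChar F) (R.X 0 1) := isPGroup_iff_forall.2 (by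
      rintro _ ⟨a, rfl⟩; exact ⟨1, by rw [pow_one, R.x_pow]⟩)
    obtain ⟨n, hn⟩ := this.exists_card_eq
    exact H1.le_map_subtype_pPrimeCore XK (centralizer_le_normalizer _)
      (hn ▸ Nat.coprime_two_right.2 B.p_odd.pow)
  · refine H1.normalizer_le_normalizer_map_subtype_pPrimeCore _ (H68.normalizer_le_normalizer_centralizer _
      (mem_normalizer_of_cj_le (cj_le_iff'.2 ?_)))
    rintro _ ⟨a, rfl⟩
    exact hg a
  · obtain ⟨c, hc, r, hr, e⟩ := mem_sup_of_normal_right.1 (z.ge (mem_top ⟨y, mK.2 hy⟩))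
    exact ⟨c, congrArg Subtype.val (mem_centralizer_singleton_iff.1 hc), mK.1 c.2, r, mem_map_of_mem _ hr,
      congrArg Subtype.val e.symm⟩

variable {R} {O : Subgroup G}

theorem OK.nK (h : OK R O) {g y : G} (hg : ∀ a, g * R.x 0 1 a = R.x 0 1 a * g) (hy : y ∈ O) :
    g * y * g⁻¹ ∈ O :=
  H68.conj_mem_of_mem_normalizer (h.nrm g fun a => ⟨a, by rw [hg, mul_inv_cancel_right]⟩) hy

theorem OK.nH (h : OK R O) {g : G} (hg : g ∈ B.H) : g ∈ normalizer (O : Set G) :=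
  h.nrm g fun a => (R.exists_ac (i := 0) (j := 1) hg (by decide)).elim fun c hc => ⟨c * a, hc.2 a⟩

theorem OK.fix (h : OK R O) {y : G} (hy : y ∈ O) (hc : B.C y) {k : ℕ} (e : y ^ ringChar F ^ k = 1) :
    y ∈ R.X 0 1 := by
  obtain ⟨x, z, rfl, tx, tz⟩ := hc.unip e
  have e1 := h.cen _ hy 1
  rw [R.x01, mul_assoc, ← B.f12_comm, ← mul_assoc, ← mul_assoc, mul_left_inj, ← map_mul, ← map_mul] at e1
  have hx : B.f1 x ∈ R.X 0 1 := ⟨_, by rw [R.x01, ← up_of_comm B.two tx (B.f1_inj e1)]⟩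
  obtain ⟨g, c, rfl⟩ := Bs.conj_up_of_tr tz
  have n : ∀ g, ∀ y ∈ O, B.f2 g * y * (B.f2 g)⁻¹ ∈ O := fun g y hy =>
    h.nK (fun a => by rw [R.x01, B.f12_comm]) hy
  by_cases c0 : c = 0
  · simpa [c0, upT_zero] using hx
  · have := n g⁻¹ _ ((mul_mem_cancel_left (h.le hx)).1 hy)
    rw [← map_inv, ← map_mul, ← map_mul] at this
    exact absurd (eq_one_of_odd h.odd (B.f2_neg_one ▸ neg_mem B.f2 n c0 (by simpa [mul_assoc] using this)) B.tt)
      B.t_ne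

theorem OK.good (h : OK R O) {k : Fin 4} (hk : k = 2 ∨ k = 3) (y z : G) (hy : Iv O (R.tt 0 k) B.t y)
    (hz : Iv O (R.tt 0 k) B.t z) : y * z = z * y ∧ y ^ ringChar F = 1 := by
  have hv : R.tt 0 k ∈ B.H := R.tt_H (by rcases hk with rfl | rfl <;> decide)
  obtain ⟨i, j, m, n, h1, h2, h3, h4, h5, h6, e⟩ := R.inv_odd hk (W := O ⊓ centralizer {R.tt 0 k})
    (fun y hy => mem_centralizer_singleton_iff.1 hy.2) (odd_of_le inf_le_left h.odd) fun g hg y hy =>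
      ⟨H68.conj_mem_of_mem_normalizer (h.nH hg) hy.1, H68.conj_mem_of_mem_normalizer (H := centralizer {R.tt 0 k})
        (le_normalizer (mem_centralizer_singleton_iff.2 (Bs.H_comm hg hv))) hy.2⟩
  have ij : i ≠ j := by rintro rfl; exact iff_not_self h1
  have mn : m ≠ n := by rintro rfl; exact iff_not_self h2
  have k : ∀ y, Iv O (R.tt 0 k) B.t y → ∃ a b, y = R.x i j a * R.x m n b := fun y hy =>
    e y ⟨hy.1, mem_centralizer_singleton_iff.2 (mul_inv_eq_iff_eq_mul.1 hy.2.1).symm⟩ hy.2.2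
  obtain ⟨a, b, rfl⟩ := k y hy
  obtain ⟨a', b', rfl⟩ := k z hz
  have c : ∀ a b, Commute (R.x i j a) (R.x m n b) := R.Cm_disj ij mn h3 h4 h5 h6
  have c' : ∀ {i j} a b, Commute (R.x i j a) (R.x i j b) := R.Cm_self
  exact ⟨((c' a a').mul_right (c a b')).mul_left ((c a' b).symm.mul_right (c' b b')),
    by rw [(c a b).mul_pow, R.x_pow, R.x_pow, one_mul]⟩

theorem OK.good' (h : OK R O) (y z : G) (hy : Iv O B.t B.u y) (hz : Iv O B.t B.u z) :
    y * z = z * y ∧ y ^ ringChar F = 1 := by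
  obtain ⟨e, e', k⟩ := B.inv_odd (W := O ⊓ centralizer {B.t})
    (fun y hy => mem_centralizer_singleton_iff.1 hy.2) (odd_of_le inf_le_left h.odd) fun g hg y hy =>
      ⟨H68.conj_mem_of_mem_normalizer (h.nH hg) hy.1, H68.conj_mem_of_mem_normalizer (H := centralizer {B.t})
        (le_normalizer (mem_centralizer_singleton_iff.2 (Bs.H_comm hg B.t_H))) hy.2⟩
  have c : B.C y := (mul_inv_eq_iff_eq_mul.1 hy.2.1).symm
  obtain ⟨a, b, e1⟩ := k y ⟨hy.1, mem_centralizer_singleton_iff.2 c⟩ hy.2.2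
  have e2 : y ^ ringChar F = 1 := by
    rw [e1, Commute.mul_pow (B.f12_comm _ _), Bs.up_pow, Bs.up_pow, one_mul]
  obtain ⟨a, rfl⟩ := h.fix hy.1 c (k := 1) (by rwa [pow_one])
  exact ⟨(h.cen z hz.1 a).symm, e2⟩

theorem OK.syl (h : OK R O) : ∃ P, SylowIn (ringChar F) P O ∧ O ≤ normalizer (P : Set G) ∧
    ((∀ y ∈ P, B.C y) → ∀ y ∈ O, B.C y) := by
  haveI := Fact.mk (Bs.p_prime (F := F))
  have mt : B.t ∈ closure ({B.t, B.u} : Set G) := subset_closure (Or.inl rfl)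
  have mu : B.u ∈ closure ({B.t, B.u} : Set G) := subset_closure (Or.inr rfl)
  have mc : ∀ c, B.t * c * B.t⁻¹ = c → B.u * c * B.u⁻¹ = c →
      c ∈ centralizer (closure ({B.t, B.u} : Set G) : Set G) := fun c h1 h2 => by
    rw [centralizer_closure]
    rintro _ (rfl | rfl)
    exacts [mul_inv_eq_iff_eq_mul.1 h1, mul_inv_eq_iff_eq_mul.1 h2]
  obtain ⟨P, h1, h2, h3⟩ := core (p := ringChar F) (H19.isKleinFour_closure_pair B.t_ne B.u_TZ.ne_one
    B.u_TZ.ne_t.symm B.tt B.uu B.tu_comm) h.odd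
    ((closure_le _).2 (by rintro _ (rfl | rfl); exacts [h.nH B.t_H, h.nH B.u_H]))
    (fun c hc k e => Bs.H_p (Bs.C.H_of_odd (hc.2 _ mt).symm (hc.2 _ mu).symm B.p_odd.pow e) e)
    fun a ha a1 => by
      rcases (H19.mem_closure_pair_of_sq B.tt B.uu B.tu_comm).1 ha with rfl | rfl | rfl | rfl
      · exact absurd rfl a1
      · exact ⟨_, mu, mc, h.good'⟩
      · refine ⟨_, mt, fun c h1 h2 => mc c h2 h1, ?_⟩
        rcases R.tt02 with ⟨e, -⟩ | ⟨-, e⟩ <;> rw [← e]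
        exacts [h.good (Or.inl rfl), h.good (Or.inr rfl)]
      · refine ⟨_, mt, fun c h1 h2 => mc c h2 ((MulAut.conj B.t).injective ?_), ?_⟩
        · simp only [MulAut.conj_apply]
          rw [h2]
          exact (by group : _ = B.t * B.u * c * (B.t * B.u)⁻¹).trans h1
        rcases R.tt02 with ⟨-, e⟩ | ⟨e, -⟩ <;> rw [← e]
        exacts [h.good (Or.inr rfl), h.good (Or.inl rfl)]
  exact ⟨P, h1, h2, fun hP y hy => mem_centralizer_singleton_iff.1 (h3 (centralizer {B.t})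
    (fun c hc => mem_centralizer_singleton_iff.2 (hc.2 _ mt).symm)
    (fun c hc => mem_centralizer_singleton_iff.2 (hP c hc)) hy)⟩

end H20.L4.KL

namespace H20.L4.Bs.Fr

open Subgroup H68 H20.L4.KL

variable {G F : Type*} [Group G] [Finite G] [Field F] [Fintype F] {B : Bs G F} (R : B.Fr)

theorem exists_kl (hF : ∀ B' : Bs G F, B'.Fus) : ∃ Q, R.KL Q := by
  obtain ⟨O, h⟩ := exists_O R (hF B)
  obtain ⟨P, h1, h2, h3⟩ := h.syl
  have mem : ∀ y ∈ O, ∀ k, y ^ ringChar F ^ k = 1 → y ∈ P := fun y hy k e =>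
    h1.le_of_normalizes (isPGroup_zpowers e) (zpowers_le.2 hy) (zpowers_le.2 (h2 hy)) (mem_zpowers y)
  have pw := isPGroup_iff_forall.1 h1.isPGroup
  have nrm : ∀ g ∈ normalizer (O : Set G), ∀ y ∈ P, g * y * g⁻¹ ∈ P := fun g hg y hy =>
    (pw y hy).elim fun k e => mem _ (H68.conj_mem_of_mem_normalizer hg (h1.le hy)) k (by
      rw [conj_pow, e]; simp)
  have fix : ∀ y ∈ P, B.C y → y ∈ R.X 0 1 := fun y hy c => (pw y hy).elim fun k e => h.fix (h1.le hy) c e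
  have cen : ∀ y ∈ P, ∀ x ∈ R.X 0 1, y * x = x * y := by
    rintro y hy _ ⟨a, rfl⟩
    exact h.cen y (h1.le hy) a
  have iv : ∀ y ∈ P, ∃ c ∈ R.X 0 1, B.t * y⁻¹ * B.t⁻¹ = y * c := fun y hy => by
    obtain ⟨c, c1, i, i1, c2, i2, e⟩ := dec (odd_of_le h1.le h.odd) B.tt (nrm _ (h.nH B.t_H)) (inv_mem hy)
    have c3 := fix c c1 (mul_inv_eq_iff_eq_mul.1 c2).symm
    refine ⟨c * c, mul_mem c3 c3, ?_⟩
    rw [e, ← conj_mul, c2, i2, ← cen _ (inv_mem i1) c c3, inv_eq_iff_eq_inv.1 e]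
    group
  refine ⟨P, h1.isPGroup, ?_, fun y hy => h.cen y (h1.le hy), fun g hg => nrm g (h.nrm g hg),
    fun y hy z hz => ?_, fix, fun y hy e i => ?_, fun ⟨c, c1, c2⟩ => ?_⟩
  · rintro _ ⟨a, rfl⟩
    exact mem _ (h.le ⟨a, rfl⟩) 1 (by rw [pow_one, R.x_pow])
  · obtain ⟨a, a1, a2⟩ := iv y hy
    obtain ⟨b, b1, b2⟩ := iv z hz
    obtain ⟨c, c1, c2⟩ := iv _ (mul_mem hz hy)
    have d : c * b⁻¹ * a⁻¹ ∈ R.X 0 1 := mul_mem (mul_mem c1 (inv_mem b1)) (inv_mem a1)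
    rw [_root_.mul_inv_rev, ← conj_mul, a2, b2, mul_assoc y, ← mul_assoc a, ← cen z hz a a1] at c2
    have : y * z * y⁻¹ * z⁻¹ = c * b⁻¹ * a⁻¹ := by
      calc _ = y * (z * a * b) * b⁻¹ * a⁻¹ * (z * y)⁻¹ := by group
        _ = z * y * (c * b⁻¹ * a⁻¹) * (z * y)⁻¹ := by rw [c2]; group
        _ = _ := by rw [cen _ (mul_mem hz hy) _ d, mul_inv_cancel_right]
    rwa [this]
  · obtain ⟨c, c1, c2, r, r1, e'⟩ := h.zst y hy
    obtain ⟨m, hm⟩ := B.p_odd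
    have k : y⁻¹ * y⁻¹ = c * (B.t * r * B.t⁻¹ * r⁻¹) * c⁻¹ := by
      calc _ = B.t * y * B.t⁻¹ * y⁻¹ := by rw [i]
        _ = B.t * c * r * B.t⁻¹ * r⁻¹ * c⁻¹ := by rw [e']; group
        _ = _ := by rw [← c1]; group
    have k' : y = (y⁻¹ * y⁻¹) ^ m := by
      rw [← sq, ← pow_mul, inv_pow, eq_inv_iff_mul_eq_one, ← pow_succ', ← hm, e]
    refine mem y (k' ▸ pow_mem (k ▸ h.nK c2 (mul_mem (H68.conj_mem_of_mem_normalizer (h.nH B.t_H) r1)
      (inv_mem r1))) m) 1 (by rwa [pow_one])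
  · by_contra n
    push Not at n
    obtain ⟨d, d1, -, r, r1, rfl⟩ := h.zst c c1
    exact c2 (d1.mul (h3 n r r1))

end H20.L4.Bs.Fr
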