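import Cfsg.Agent.Lib.L4Q.Defs
import Cfsg.Agent.Lib.Inv73.D8
import Cfsg.Agent.Lib.LocStruct.SylowIn
import Cfsg.Agent.S0848

/-! L4Q package Q3A: `q = 3`: the centralizer of `s`, abstractly. -/

set_option autoImplicit false
set_option linter.unusedSectionVars false

open Matrix H24
open H52.FW (M2 wS dS Act)
open scoped MatrixGroups

namespace H20.L4.Q3A

open Subgroup DihedralGroup

variable {G : Type*} [Group G] [Finite G]

theorem relIndex_cent (W : Subgroup G) (x : G) :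
    (centralizer ({x} : Set G)).relIndex W = {y : G | ∃ w ∈ W, w * x * w⁻¹ = y}.ncard := by
  let _ : MulAction W G := MulAction.compHom G ((MulAut.conj (G := G)).comp W.subtype)
  have h1 : MulAction.stabilizer W x = (centralizer ({x} : Set G)).subgroupOf W := by
    ext w
    rw [MulAction.mem_stabilizer_iff, mem_subgroupOf, mem_centralizer_singleton_iff]
    change (w : G) * x * (w : G)⁻¹ = x ↔ _
    rw [mul_inv_eq_iff_eq_mul]
  have h2 : MulAction.orbit W x = {y : G | ∃ w ∈ W, w * x * w⁻¹ = y} := by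
    ext y
    exact ⟨fun ⟨w, e⟩ => ⟨w, w.2, e⟩, fun ⟨w, hw, e⟩ => ⟨⟨w, hw⟩, e⟩⟩
  rw [relIndex, ← h1, MulAction.index_stabilizer, h2]

theorem no168 {M : Subgroup G} {a y : G} (ψ : DihedralGroup 4 →* G) (inj : Function.Injective ψ)
    (hψ : ∀ d, ψ d ∈ M) (hc : ∀ d, a * ψ d = ψ d * a) (hy : y ∈ M) (y3 : y ^ 3 = 1)
    (ya : y * a = a * y) (hj : y * ψ (r 2) * y⁻¹ = ψ (sr 1) ∨ y * ψ (r 2) * y⁻¹ = ψ (sr 3))
    (cj : ∀ e ∈ M, e * e = 1 → e ≠ 1 → ∃ m ∈ M, m * e * m⁻¹ = ψ (r 2))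
    (cen : ∀ m ∈ M, m * a * m⁻¹ * ψ (r 2) = ψ (r 2) * (m * a * m⁻¹) →
      m * a * m⁻¹ = a ∨ m * a * m⁻¹ = a * ψ (sr 0) ∨ m * a * m⁻¹ = a * ψ (sr 2))
    (four : ∀ j ∈ M, j * j = 1 → j ≠ 1 → ∀ y ∈ M, y * j = j * y → y ^ 4 = 1)
    (nc : ¬ IsConj (a * ψ (sr 0)) (a * ψ (r 2))) (card : Nat.card M = 168) : False := by
  classical
  have ne : ∀ {d d'}, d ≠ d' → ψ d ≠ ψ d' := fun h e => h (inj e)
  have ne1 : ∀ {d}, d ≠ 1 → ψ d ≠ 1 := fun h e => ne h (e.trans (map_one ψ).symm)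
  have sq : ∀ {d}, d * d = 1 → ψ d * ψ d = 1 := fun h => by rw [← map_mul, h, map_one]
  have y1 : y ≠ 1 := by
    rintro rfl
    rw [one_mul, inv_one, mul_one] at hj
    exact hj.elim (ne (by decide)) (ne (by decide))
  set Ω := {w : G | ∃ m ∈ M, m * a * m⁻¹ = w} with hΩ
  have aΩ : a ∈ Ω := ⟨1, one_mem _, by group⟩
  have cΩ : ∀ m ∈ M, ∀ w ∈ Ω, m * w * m⁻¹ ∈ Ω := by
    rintro m hm _ ⟨n, hn, rfl⟩
    exact ⟨m * n, mul_mem hm hn, by group⟩
  have h7 : Ω.ncard ≤ 7 := by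
    have h1 : 8 ∣ Nat.card ↥(centralizer {a} ⊓ M) := by
      have := card_dvd_of_le (H := ψ.range) (K := centralizer {a} ⊓ M) (by
        rintro _ ⟨d, rfl⟩; exact ⟨mem_centralizer_singleton_iff.2 (hc d).symm, hψ d⟩)
      rwa [← Nat.card_congr (MonoidHom.ofInjective inj).toEquiv, nat_card] at this
    have h2 : 3 ∣ Nat.card ↥(centralizer {a} ⊓ M) := by
      have : Fact (Nat.Prime 3) := ⟨Nat.prime_three⟩
      rw [← orderOf_eq_prime y3 y1]
      exact orderOf_dvd_natCard _ ⟨mem_centralizer_singleton_iff.2 ya, hy⟩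
    have h3 := relIndex_mul_relIndex ⊥ (centralizer {a} ⊓ M) M bot_le inf_le_right
    rw [relIndex_bot_left, relIndex_bot_left, inf_relIndex_right, relIndex_cent, card] at h3
    obtain ⟨k, hk⟩ := Nat.Coprime.mul_dvd_of_dvd_of_dvd (by norm_num) h1 h2
    rw [hk, ← hΩ] at h3
    rcases k with _ | k <;> nlinarith
  obtain ⟨ω, ωΩ, ωa⟩ : ∃ ω ∈ Ω, ω ≠ a := by
    by_contra! h
    obtain ⟨m, hm, e⟩ := cj _ (hψ (sr 0)) (sq (by decide)) (ne1 (by decide))
    exact nc (isConj_iff.2 ⟨m, by rw [← e, ← conj_mul, h _ ⟨m, hm, rfl⟩]⟩)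
  obtain ⟨d, d1, d2, d3⟩ : ∃ d, d ≠ 1 ∧ d * d = 1 ∧ ψ d * ω = ω * ψ d := by
    obtain ⟨d, -, d', -, n, e⟩ := Set.exists_ne_map_eq_of_ncard_lt_of_maps_to (s := Set.univ)
      (t := Ω \ {a}) (f := fun d => ψ d * ω * (ψ d)⁻¹) (by
        rw [Set.ncard_univ, nat_card, Set.ncard_sdiff_singleton_of_mem aΩ]; omega)
      (fun d _ => ⟨cΩ _ (hψ d) _ ωΩ, fun e => ωa (by
        rw [Set.mem_singleton_iff, mul_inv_eq_iff_eq_mul, hc] at e
        exact mul_left_cancel e)⟩)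
    have e1 : Commute (ψ (d'⁻¹ * d)) ω := by
      rw [Commute, SemiconjBy, map_mul, map_inv]
      calc _ = (ψ d')⁻¹ * (ψ d * ω * (ψ d)⁻¹) * ψ d := by group
        _ = _ := by rw [e]; group
    have : ∀ x : DihedralGroup 4, x ≠ 1 → (x * x = 1 ∨ x * x ≠ 1 ∧ x * x * (x * x) = 1) := by decide
    have n1 : d'⁻¹ * d ≠ 1 := fun e => n (inv_mul_eq_one.1 e).symm
    rcases this _ n1 with h | h
    · exact ⟨_, n1, h, e1⟩
    · exact ⟨_, h.1, h.2, by rw [map_mul]; exact e1.mul_left e1⟩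
  have e0Ω : a * ψ (sr 0) ∈ Ω ∧ a * ψ (sr 2) ∈ Ω := by
    have sw : ∀ i j, r 1 * sr i * (r 1)⁻¹ = (sr j : DihedralGroup 4) → a * ψ (sr i) ∈ Ω →
        a * ψ (sr j) ∈ Ω := fun i j e h => by
      have := cΩ _ (hψ (r 1)) _ h
      rwa [← mul_assoc, ← hc, mul_assoc, mul_assoc, ← mul_assoc (ψ _), ← map_inv, ← map_mul,
        ← map_mul, e] at this
    have key : ∀ w ∈ Ω, w ≠ a → w * ψ (r 2) = ψ (r 2) * w →
        a * ψ (sr 0) ∈ Ω ∧ a * ψ (sr 2) ∈ Ω := by
      rintro _ ⟨m, hm, rfl⟩ h1 h2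
      rcases (cen m hm h2).resolve_left h1 with e | e
      · exact ⟨⟨m, hm, e⟩, sw 0 2 (by decide) ⟨m, hm, e⟩⟩
      · exact ⟨sw 2 0 (by decide) ⟨m, hm, e⟩, ⟨m, hm, e⟩⟩
    obtain ⟨m, hm, e⟩ := cj _ (hψ d) (sq d2) (ne1 d1)
    by_cases h : m * a * m⁻¹ = a
    · refine key _ (cΩ m hm _ ωΩ) (fun e' => ωa ?_) (by rw [← e, conj_mul, conj_mul, d3])
      rw [← h] at e'
      exact mul_left_cancel (mul_right_cancel e')
    · exact key _ (cΩ m hm _ aΩ) h (by rw [← e, conj_mul, conj_mul, hc])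
  let c := MulAut.conj y
  have ca : c a = a := by rw [MulAut.conj_apply, ya, mul_inv_cancel_right]
  have c3 : ∀ x, c (c (c x)) = x := fun x => by
    have : (c ^ 3) x = x := by rw [← map_pow, y3, map_one]; rfl
    simpa only [pow_succ, pow_zero, one_mul, MulAut.mul_apply] using this
  have cΩ' : ∀ x, a * x ∈ Ω → a * c x ∈ Ω := fun x h => by
    rw [← ca, ← map_mul]; exact cΩ y hy _ h
  have cc : ∀ x, a * x = x * a → a * c x = c x * a := fun x h => by
    rw [← ca, ← map_mul, h, map_mul]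
  have f1 : ∀ i, c (ψ (sr i)) ≠ ψ (sr i) := fun i e => y1 (by
    have := four _ (hψ (sr i)) (sq (sr_mul_self i)) (ne1 nofun) y hy
      (mul_inv_eq_iff_eq_mul.1 e)
    rwa [pow_succ, y3, one_mul] at this)
  have f0 : c (ψ (sr 0)) * c (ψ (sr 2)) = c (ψ (r 2)) ∧ c (ψ (sr 2)) * c (ψ (sr 0)) = c (ψ (r 2)) := by
    simp only [← map_mul]; exact ⟨rfl, rfl⟩
  have f2 : ∀ i j, c (ψ (sr i)) * c (ψ (sr j)) = c (ψ (r 2)) → ∀ k, k = 0 ∨ k = 2 →
      c (ψ (sr i)) ≠ ψ (sr k) := fun i j h k hk e => by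
    have h1 : c (ψ (sr j)) * c (ψ (sr j)) = 1 := by rw [← map_mul, sq (sr_mul_self j), map_one]
    rw [e, ← eq_inv_mul_iff_mul_eq] at h
    rw [h, MulAut.conj_apply] at h1
    rcases hj with e | e <;> rw [e, ← map_inv, ← map_mul, ← map_mul] at h1 <;>
      rcases hk with rfl | rfl <;> exact ne1 (by decide) h1
  have g1 := f2 0 2 f0.1 2 (.inr rfl)
  have g2 := f2 2 0 f0.2 0 (.inl rfl)
  have g3 : ∀ x x', c x ≠ x' → c (c x') ≠ x := fun x x' h e => h (by rw [← e, c3])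
  have hL : [1, ψ (sr 0), ψ (sr 2), c (ψ (sr 0)), c (ψ (sr 2)), c (c (ψ (sr 0))),
      c (c (ψ (sr 2)))].Nodup := by
    have n0 : ψ (sr 0) ≠ 1 := ne1 (by decide)
    have n2 : ψ (sr 2) ≠ 1 := ne1 (by decide)
    have n3 : ψ (sr 0) ≠ ψ (sr 2) := ne (by decide)
    simp [n0.symm, n2.symm, n3, (f1 0).symm, (f1 2).symm, g1.symm, g2.symm, (g3 _ _ g1).symm,
      (g3 _ _ g2).symm, (g3 _ _ (f1 0)).symm, (g3 _ _ (f1 2)).symm, eq_comm (a := (1 : G)), n0, n2]
  have hS := Set.eq_of_subset_of_ncard_le (s := ((fun x => a * x) '' ↑(List.toFinset [1, ψ (sr 0),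
      ψ (sr 2), c (ψ (sr 0)), c (ψ (sr 2)), c (c (ψ (sr 0))), c (c (ψ (sr 2)))]))) (t := Ω) (by
      rintro _ ⟨x, hx, rfl⟩
      simp only [List.coe_toFinset, List.mem_cons, List.not_mem_nil, or_false, Set.mem_ofPred_eq] at hx
      rcases hx with rfl | rfl | rfl | rfl | rfl | rfl | rfl
      exacts [by simpa using aΩ, e0Ω.1, e0Ω.2, cΩ' _ e0Ω.1, cΩ' _ e0Ω.2, cΩ' _ (cΩ' _ e0Ω.1),
        cΩ' _ (cΩ' _ e0Ω.2)])
    (by rwa [Set.ncard_image_of_injective _ (mul_right_injective a), Set.ncard_coe_finset,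
      List.toFinset_card_of_nodup hL])
  have k1 : ∀ w ∈ Ω, Commute a w := fun w hw => by
    rw [← hS] at hw
    obtain ⟨x, hx, rfl⟩ := hw
    refine (Commute.refl a).mul_right ?_
    simp only [List.coe_toFinset, List.mem_cons, List.not_mem_nil, or_false, Set.mem_ofPred_eq] at hx
    rcases hx with rfl | rfl | rfl | rfl | rfl | rfl | rfl
    exacts [Commute.one_right a, hc _, hc _, cc _ (hc _), cc _ (hc _), cc _ (cc _ (hc _)),
      cc _ (cc _ (hc _))]
  have k2 : ∀ x, a * x = x * a → a * x ∈ Ω → Commute (ψ (sr 0)) x := fun x h1 h2 => by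
    obtain ⟨m, hm, e⟩ := e0Ω.1
    have := (k1 _ (cΩ _ (inv_mem hm) _ h2)).map (MulAut.conj m)
    simp only [MulAut.conj_apply, e, inv_inv] at this
    rw [show m * (m⁻¹ * (a * x) * m) * m⁻¹ = a * x by group] at this
    have h3 : Commute (ψ (sr 0)) (a * x) := by
      have := ((Commute.refl a).mul_right h1).inv_left.mul_left this
      rwa [inv_mul_cancel_left] at this
    have := (show Commute (ψ (sr 0)) a from (hc _).symm).inv_right.mul_right h3
    rwa [inv_mul_cancel_left] at this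
  have k3 := ((k2 _ (cc _ (hc _)) (cΩ' _ e0Ω.1)).mul_right (k2 _ (cc _ (hc _)) (cΩ' _ e0Ω.2))).eq
  rw [f0.1, MulAut.conj_apply] at k3
  rcases hj with e | e <;> rw [e, ← map_mul, ← map_mul] at k3 <;> exact ne (by decide) k3

theorem hom_triv {S : Set G} (hS : ∀ y ∈ S, Odd (orderOf y)) {A : Type*} [Group A]
    (hA : ∀ a : A, a ^ 4 = 1) (f : closure S →* A) (m : closure S) : f m = 1 := by
  obtain ⟨m, hm⟩ := m
  induction hm using closure_induction with
  | mem y hy =>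
    refine orderOf_eq_one_iff.1 (Nat.eq_one_of_dvd_coprimes
      ((Nat.coprime_two_left.2 (hS y hy)).pow_left 2) (orderOf_dvd_of_pow_eq_one (hA _)) ?_)
    exact (orderOf_map_dvd f _).trans (orderOf_mk ..).dvd
  | one => exact map_one f
  | mul x y hx hy h1 h2 => exact (map_mul f ⟨x, hx⟩ ⟨y, hy⟩).trans (by rw [h1, h2, mul_one])
  | inv x hx h1 => exact (map_inv f ⟨x, hx⟩).trans (by rw [h1, inv_one])

theorem mem_rot : ∀ x : DihedralGroup 4, x ∈ zpowers (r 1 : DihedralGroup 4) ↔ ∀ i, x ≠ sr i := by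
  have : ∀ x : DihedralGroup 4, (∃ n : Fin 4, (r 1 : DihedralGroup 4) ^ (n : ℕ) = x) ∨ ∃ i, x = sr i := by
    decide +kernel
  refine fun x => ⟨?_, fun h => (this x).elim (fun ⟨n, e⟩ => e ▸ pow_mem (mem_zpowers _) n)
    fun ⟨i, e⟩ => (h i e).elim⟩
  rintro ⟨n, rfl⟩ i
  simp

end H20.L4.Q3A

namespace H20.L4

open Subgroup H69 Q3A

open DihedralGroup in
theorem k3_abs {G : Type*} [Group G] [Finite G] (φ : DihedralGroup 4 × DihedralGroup 4 →* G)
    (inj : Function.Injective φ) {s t : G} (hs : s = φ (r 2, 1)) (ht : t = φ (r 2, r 2))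
    (cen : ∀ c, c * t = t * c → c * s = s * c → c ∈ φ.range)
    (sig : ∀ d, d * d = 1 → (IsConj t (φ d) ↔ sg d = true))
    (thr : ∀ i, ∃ y, y ^ 3 = 1 ∧ y * s = s * y ∧ y * φ (sr i, 1) = φ (sr i, 1) * y ∧
      y * φ (1, r 2) * y⁻¹ ≠ φ (1, r 2) ∧
      y * φ (1, r 2) * y⁻¹ * φ (1, r 2) = φ (1, r 2) * (y * φ (1, r 2) * y⁻¹)) :
    ∃ M : Subgroup G, (∀ c ∈ M, c * s = s * c) ∧ (∀ c, c * s = s * c → ∀ m ∈ M, c * m * c⁻¹ ∈ M) ∧
      (∀ y, y * s = s * y → y ^ 3 = 1 → y ∈ M) ∧ 9 ∣ Nat.card M ∧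
      ∀ j ∈ M, j * j = 1 → j ≠ 1 → ∀ y ∈ M, y * j = j * y → y ^ 4 = 1 := by
  have : Fact (Nat.Prime 2) := ⟨Nat.prime_two⟩
  have sφ : ∀ d, φ d * s = s * φ d := fun d => by
    rw [hs, ← map_mul, ← map_mul]; exact congrArg φ (by revert d; decide +kernel)
  have tφ : ∀ d, φ d * t = t * φ d := fun d => by
    rw [ht, ← map_mul, ← map_mul]; exact congrArg φ (by revert d; decide +kernel)
  have tz : t = s * φ (1, r 2) := by rw [hs, ht, ← map_mul]; rfl
  have cen' : ∀ c, c * s = s * c → c * φ (1, r 2) = φ (1, r 2) * c → ∃ d, φ d = c := fun c h1 h2 =>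
    cen c (by rw [tz, ← mul_assoc, h1, mul_assoc, h2, mul_assoc]) h1
  have cs : ∀ {g x : G}, g * s = s * g → x * s = s * x → g * x * g⁻¹ * s = s * (g * x * g⁻¹) :=
    fun {g x} h1 h2 => ((show Commute g s from h1).mul_left h2 |>.mul_left
      (show Commute g s from h1).inv_left).eq
  have ty0 : ∀ {g d d'}, g * φ d * g⁻¹ = φ d' → d * d = 1 → d' * d' = 1 ∧ sg d = sg d' := by
    intro g d d' e h
    have h' : d' * d' = 1 := inj (by rw [map_mul, ← e, conj_mul, ← map_mul, h]; simp)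
    have k : IsConj (φ d) (φ d') := isConj_iff.2 ⟨g, e⟩
    exact ⟨h', Bool.eq_iff_iff.2 ((sig d h).symm.trans
      (Iff.trans ⟨fun h => h.trans k, fun h => h.trans k.symm⟩ (sig d' h')))⟩
  have ty : ∀ {g d d'}, g * s = s * g → g * φ d * g⁻¹ = φ d' → d * d = 1 →
      d' * d' = 1 ∧ sg d = sg d' ∧ sg (d * (r 2, 1)) = sg (d' * (r 2, 1)) := by
    intro g d d' hg e h
    refine ⟨(ty0 e h).1, (ty0 e h).2, (ty0 (g := g) ?_ (by clear e; revert d; decide +kernel)).2⟩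
    rw [map_mul, map_mul, ← hs, ← e, ← mul_assoc, mul_assoc _ s, mul_assoc _ g⁻¹,
      (show Commute g s from hg).inv_left.eq]
  have hO : ∀ y ∈ {y | y * s = s * y ∧ Odd (orderOf y)}, Odd (orderOf y) := fun _ h => h.2
  have h3 : ∀ y, y * s = s * y → y ^ 3 = 1 → y ∈ closure {y | y * s = s * y ∧ Odd (orderOf y)} :=
    fun y h1 h2 => subset_closure ⟨h1, Odd.of_dvd_nat (by decide) (orderOf_dvd_of_pow_eq_one h2)⟩
  have hD : closure {y | y * s = s * y ∧ Odd (orderOf y)} ≤ centralizer {s} :=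
    (closure_le _).2 fun y h => mem_centralizer_singleton_iff.2 h.1
  have hN : ∀ c, c * s = s * c → ∀ m ∈ closure {y | y * s = s * y ∧ Odd (orderOf y)},
      c * m * c⁻¹ ∈ closure {y | y * s = s * y ∧ Odd (orderOf y)} := fun c hc m hm =>
    (closure_le (comap (MulAut.conj c).toMonoidHom
      (closure {y | y * s = s * y ∧ Odd (orderOf y)}))).2
      (fun y h => mem_comap.2 (Subgroup.subset_closure (And.intro (cs hc h.1) (by
        rw [MulEquiv.coe_toMonoidHom, MulEquiv.orderOf_eq]; exact h.2)))) hm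
  have triv := fun {A : Type} [Group A] => hom_triv (A := A) hO
  generalize closure {y | y * s = s * y ∧ Odd (orderOf y)} = M at h3 hD hN triv
  have hD' : ∀ c ∈ M, c * s = s * c := fun c h => mem_centralizer_singleton_iff.1 (hD h)
  have no2 : ∀ N : Subgroup M, N.Normal → N.index ≠ 2 := fun N _ h => by
    rw [(eq_top_iff' N).2 fun m => (H73.signHom_eq_one_iff h).1 (triv (by decide) _ m),
      index_top] at h
    omega
  have thr' : ∀ i, ∃ y ∈ M, y ^ 3 = 1 ∧ y * φ (sr i, 1) = φ (sr i, 1) * y ∧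
      (y * φ (1, r 2) * y⁻¹ = φ (1, sr (i + 1)) ∨ y * φ (1, r 2) * y⁻¹ = φ (1, sr (i + 3))) := by
    intro i
    obtain ⟨y, y1, y2, y3, y4, y5⟩ := thr i
    obtain ⟨d, hd⟩ := cen' _ (cs y2 (sφ _)) y5
    have k1 := ty y2 hd.symm (by decide)
    have k2 := ty0 (g := y) (d := (sr i, 1) * (1, r 2)) (d' := (sr i, 1) * d) (by
      rw [map_mul, map_mul, ← mul_assoc, y3, hd]; group) (by clear y3; revert i; decide +kernel)
    have : ∀ (i : ZMod 4) (d : DihedralGroup 4 × DihedralGroup 4), d ≠ (1, r 2) → (d * d = 1 ∧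
        sg (1, r 2) = sg d ∧ sg ((1, r 2) * (r 2, 1)) = sg (d * (r 2, 1))) →
        sg ((sr i, 1) * (1, r 2)) = sg ((sr i, 1) * d) →
        d = (1, sr (i + 1)) ∨ d = (1, sr (i + 3)) := by decide +kernel
    exact ⟨y, h3 y y2 y1, y1, y3, (this i d (fun e => y4 (by rw [← hd, e])) k1 k2.2).imp
      (fun e => by rw [← hd, e]) fun e => by rw [← hd, e]⟩
  have E2 : ∀ x, φ (1, x) ∈ M := by
    have k1 : ∀ k, φ (1, sr k) ∈ M := fun k => by
      obtain ⟨y, hy, -, -, e⟩ := thr' (k - 1)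
      have h1 := mul_mem hy (hN _ (sφ (1, r 2)) _ (inv_mem hy))
      rw [← mul_assoc, ← mul_assoc] at h1
      have : ∀ k : ZMod 4, ∀ d : DihedralGroup 4 × DihedralGroup 4,
          d = (1, sr (k - 1 + 1)) ∨ d = (1, sr (k - 1 + 3)) →
          ∃ g, g * (d * (1, r 2)⁻¹) * g⁻¹ = (1, sr k) := by decide +kernel
      rcases e with e | e <;> rw [e, ← map_inv, ← map_mul] at h1
      · obtain ⟨g, hg⟩ := this k _ (.inl rfl)
        simpa only [← map_inv, ← map_mul, hg] using hN _ (sφ g) _ h1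
      · obtain ⟨g, hg⟩ := this k _ (.inr rfl)
        simpa only [← map_inv, ← map_mul, hg] using hN _ (sφ g) _ h1
    rintro (i | i)
    · simpa [← map_mul] using mul_mem (k1 0) (k1 i)
    · exact k1 i
  have fst : ∀ d, φ d ∈ M → φ (d.1, 1) ∈ M := fun d h => by
    simpa [← map_inv, ← map_mul, Prod.mul_def] using mul_mem h (inv_mem (E2 d.2))
  have hT : IsSylowIn 2 φ.range (centralizer {s}) := isSylowIn_of_normalizer
    (by rintro _ ⟨d, rfl⟩; exact mem_centralizer_singleton_iff.2 (sφ d))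
    ⟨le_inf (by rintro _ ⟨d, rfl⟩; exact mem_centralizer_singleton_iff.2 (sφ d)) le_normalizer,
      (IsPGroup.of_card (n := 6) (by rw [Nat.card_prod, nat_card]; rfl)).of_surjective _
        φ.rangeRestrict_surjective, fun P k1 k2 _ => le_antisymm (fun n hn => by
      have h1 := mem_centralizer_singleton_iff.1 (k2 hn).1
      obtain ⟨d, hd⟩ := (mem_normalizer_iff.1 (k2 hn).2 t).1 ⟨_, ht.symm⟩
      have h2 : ∀ d', d * d' = d' * d := fun d' => inj (by
        obtain ⟨x, hx⟩ := (mem_normalizer_iff''.1 (k2 hn).2 _).1 (⟨d', rfl⟩ : φ d' ∈ φ.range)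
        rw [map_mul, map_mul, hd, show φ d' = n * φ x * n⁻¹ by rw [hx]; group, conj_mul, conj_mul,
          tφ])
      have h4 := (ty0 (ht ▸ hd.symm) (by decide)).2
      have : ∀ d : DihedralGroup 4 × DihedralGroup 4, (∀ d', d * d' = d' * d) →
          sg (r 2, r 2) = sg d → d = (r 2, r 2) := by decide +kernel
      rw [this d h2 h4, ← ht, eq_mul_inv_iff_mul_eq] at hd
      exact cen n hd.symm h1) k1⟩
  have hodd : Odd (φ.range.subgroupOf M).index := by
    have := (hT.inf_normal hD fun c hc => mem_normalizer_iff.2 fun m => ⟨hN c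
      (mem_centralizer_singleton_iff.1 hc) m, fun h => by
        simpa [mul_assoc] using hN c⁻¹ (mem_centralizer_singleton_iff.1 (inv_mem hc)) _ h⟩).not_dvd_relIndex
    rwa [inf_relIndex_right, ← even_iff_two_dvd, Nat.not_even_iff_odd] at this
  have nsr : ∀ i, φ (sr i, 1) ∉ M := fun i hi => by
    let U := (((zpowers (r 1 : DihedralGroup 4)).comap (MonoidHom.fst _ _)).map φ).subgroupOf M
    have hU : ∀ d (h : φ d ∈ M), (⟨φ d, h⟩ : M) ∈ U ↔ ∀ i, d.1 ≠ sr i := fun d h =>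
      (mem_map_iff_mem inj).trans (mem_rot _)
    obtain ⟨N, h1, h2, -⟩ := H73.thompson_transfer _ U hodd (relIndex_eq_two_iff.2
      ⟨⟨_, hi⟩, ⟨_, rfl⟩, by
        rintro ⟨_, hb⟩ ⟨d, rfl⟩
        have := hU (d * (sr i, 1)) (map_mul φ .. ▸ mul_mem hb hi)
        simp only [map_mul] at this
        erw [this, hU]
        clear this hb hi
        revert d i
        decide +kernel⟩) ⟨_, hi⟩
      (H9.orderOf_eq_two_of_mul_self (fun e => nomatch inj
        ((congrArg Subtype.val e).trans (map_one φ).symm))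
        (Subtype.ext ((map_mul φ ..).symm.trans (by simp [← Prod.one_eq_mk]))))
      (by
        rintro g ⟨d, hd, e⟩
        have k := ty (hD' g g.2) (Eq.symm e) (by simp [← Prod.one_eq_mk])
        have : ∀ (i : ZMod 4) (d : DihedralGroup 4 × DihedralGroup 4), (∀ i, d.1 ≠ sr i) →
          ¬ (d * d = 1 ∧ sg (sr i, 1) = sg d ∧ sg ((sr i, 1) * (r 2, 1)) = sg (d * (r 2, 1))) := by
          decide +kernel
        exact this i d ((mem_rot _).1 hd) k)
    exact no2 N h1 h2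
  have ns : s ∉ M := fun hsM => by
    let ψ : φ.range.subgroupOf M →* DihedralGroup 4 × DihedralGroup 4 :=
      (MonoidHom.ofInjective inj).symm.toMonoidHom.comp ((M.subtype.comp (Subgroup.subtype _)).codRestrict _
        fun x => x.2)
    have hψ : ∀ x, φ (ψ x) = x.1.1 := fun x => MonoidHom.apply_ofInjective_symm inj _
    let χ := ((MonoidHom.fst _ _).comp ψ).codRestrict (zpowers (r 1 : DihedralGroup 4)) fun x =>
      (mem_rot _).2 fun i e => nsr i (e ▸ fst _ (hψ x ▸ x.1.2))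
    open scoped IsMulCommutative in
    have h1 := MonoidHom.transfer_eq_pow χ ⟨s, hsM⟩ fun k g _ => by
      rw [mul_assoc, ((show Commute g ⟨s, hsM⟩ from Subtype.ext (hD' g g.2)).pow_right k).symm.eq,
        inv_mul_cancel_left]
    rw [triv (fun a => Subtype.ext (by
      have : ∀ x : DihedralGroup 4, x ^ 4 = 1 := by decide
      exact this a))] at h1
    obtain ⟨k, hk⟩ := hodd
    have h2 : ∀ h, ψ ⟨⟨s, hsM⟩ ^ (φ.range.subgroupOf M).index, h⟩ = (r 2, 1) := fun h =>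
      inj ((hψ _).trans (by
        change s ^ _ = _
        rw [hk, pow_succ, pow_mul, sq, hs, ← map_mul, show ((r 2, 1) * (r 2, 1) :
          DihedralGroup 4 × DihedralGroup 4) = 1 from rfl, map_one, one_pow, one_mul]))
    exact absurd ((congrArg Subtype.val h1).trans (congrArg Prod.fst (h2 _))) (by decide)
  have TM : ∀ d, φ d ∈ M → d.1 = 1 := fun d h => by
    have h1 := fst d h
    have : ∀ x : DihedralGroup 4, x = 1 ∨ (∃ i, x = sr i) ∨ x = r 2 ∨ x * x = r 2 := by decide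
    rcases this d.1 with e | ⟨i, e⟩ | e | e
    · exact e
    · exact (nsr i (e ▸ h1)).elim
    · exact (ns (hs ▸ e ▸ h1)).elim
    · exact (ns (by simpa [← map_mul, e, ← hs] using mul_mem h1 h1)).elim
  let ψ := φ.comp (MonoidHom.inr _ _)
  have hψ : Function.Injective ψ := fun a b e => (Prod.ext_iff.1 (inj e)).2
  have cz : ∀ c ∈ M, c * φ (1, r 2) = φ (1, r 2) * c → ∃ x, ψ x = c := fun c hc h => by
    obtain ⟨⟨x, x'⟩, rfl⟩ := cen' c (hD' c hc) h
    obtain rfl : x = 1 := TM _ hc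
    exact ⟨x', rfl⟩
  let e : DihedralGroup 4 ≃* centralizer ({⟨_, E2 (r 2)⟩} : Set M) := MulEquiv.ofBijective
    ((ψ.codRestrict M E2).codRestrict (centralizer ({⟨_, E2 (r 2)⟩} : Set M))
      fun x => by
        refine mem_centralizer_singleton_iff.2 (Subtype.ext ?_)
        exact (map_mul ψ x (r 2)).symm.trans
          ((congrArg ψ (by revert x; decide)).trans (map_mul ψ (r 2) x)))
    ⟨fun a b e => hψ (congrArg (fun x => x.1.1) e), fun c => (cz c.1 c.1.2 (congrArg Subtype.val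
      (mem_centralizer_singleton_iff.1 c.2))).imp fun _ e => Subtype.ext (Subtype.ext e)⟩
  have oz : orderOf (⟨_, E2 (r 2)⟩ : M) = 2 := H9.orderOf_eq_two_of_mul_self
    (fun e => absurd (inj ((congrArg Subtype.val e).trans (map_one φ).symm)) (by decide))
    (Subtype.ext ((map_mul φ ..).symm.trans (map_one φ)))
  obtain ⟨a, b, hab⟩ := H73.exists_dihData (by decide) e.symm
  have cj : ∀ j ∈ M, j * j = 1 → j ≠ 1 → ∃ m ∈ M, m * j * m⁻¹ = ψ (r 2) := fun j hj j2 j1 => by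
    obtain ⟨m, hm⟩ := isConj_iff.1 (H73.isConj_of_dih (k := 0) no2 oz hab (u := ⟨j, hj⟩)
      (H9.orderOf_eq_two_of_mul_self (fun e => j1 (congrArg Subtype.val e)) (Subtype.ext j2)))
    exact ⟨m, m.2, congrArg Subtype.val hm⟩
  have four : ∀ j ∈ M, j * j = 1 → j ≠ 1 → ∀ y ∈ M, y * j = j * y → y ^ 4 = 1 := by
    intro j hj j2 j1 y hy h
    obtain ⟨m, hm, e⟩ := cj j hj j2 j1
    obtain ⟨x, hx⟩ := cz _ (mul_mem (mul_mem hm hy) (inv_mem hm)) (by
      change _ * ψ (r 2) = ψ (r 2) * _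
      rw [← e, conj_mul, conj_mul, h])
    have : ∀ x : DihedralGroup 4, x ^ 4 = 1 := by decide
    rw [← conj_eq_one_iff (a := m), ← conj_pow, ← hx, ← map_pow, this, map_one]
  refine ⟨M, hD', hN, h3, ?_, four⟩
  rcases Cfsg.Agent.S0848.result (H73.commutator_eq_top_of_dih (k := 0) no2 oz hab) _ oz e.symm with
    h | h
  swap
  · rw [h]; decide
  obtain ⟨y, y1, y2, y3, y4⟩ := thr' 0
  refine (no168 ψ hψ E2 (a := φ (sr 0, 1)) (fun d => by
    change _ * φ _ = φ _ * _; simp [← map_mul]) y1 y2 y3 y4 cj (fun m hm h1 => ?_) four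
    (fun h1 => ?_) h).elim
  · obtain ⟨d, hd⟩ := cen' _ (cs (hD' m hm) (sφ _)) h1
    have k1 := ty (hD' m hm) hd.symm (by decide)
    have k2 := TM (d * (sr 0, 1)⁻¹) (by
      have := mul_mem hm (hN _ (sφ (sr 0, 1)) _ (inv_mem hm))
      rwa [← mul_assoc, ← mul_assoc, ← hd, ← map_inv, ← map_mul] at this)
    have : ∀ d : DihedralGroup 4 × DihedralGroup 4, (d * (sr 0, 1)⁻¹).1 = 1 → (d * d = 1 ∧
        sg (sr 0, 1) = sg d ∧ sg ((sr 0, 1) * (r 2, 1)) = sg (d * (r 2, 1))) →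
        d = (sr 0, 1) ∨ d = (sr 0, 1) * (1, sr 0) ∨ d = (sr 0, 1) * (1, sr 2) := by decide +kernel
    rw [← hd]
    rcases this d k2 k1 with rfl | rfl | rfl
    exacts [.inl rfl, .inr (.inl (map_mul φ ..)), .inr (.inr (map_mul φ ..))]
  · obtain ⟨g, hg⟩ := isConj_iff.1 h1
    exact absurd (ty0 (d := (sr 0, 1) * (1, sr 0)) (d' := (sr 0, 1) * (1, r 2))
      (by rw [map_mul, map_mul]; exact hg) (by decide)).2 (by decide)

end H20.L4
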