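import Cfsg.Agent.Lib.L4Q.T2

/-! L4Q package Q3B, first part: finite tables for `q = 3`. -/

set_option autoImplicit false
set_option synthInstance.maxSize 1024

open Matrix H24 DihedralGroup
open H52.FW (M2 wS dS Act)
open scoped MatrixGroups

namespace H20.L4.Q3B

abbrev Z := ZMod 3
abbrev Q := Z × Z × Z × Z
abbrev E := Q × Q × Bool
abbrev D := DihedralGroup 4

instance decQ : DecidableEq Q := inferInstance
instance decE : DecidableEq E := inferInstance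
instance finQ : Fintype Q := inferInstance

def mat (a : Q) : M2 Z := !![a.1, a.2.1; a.2.2.1, a.2.2.2]
def qm (a b : Q) : Q := (a.1 * b.1 + a.2.1 * b.2.2.1, a.1 * b.2.1 + a.2.1 * b.2.2.2,
  a.2.2.1 * b.1 + a.2.2.2 * b.2.2.1, a.2.2.1 * b.2.1 + a.2.2.2 * b.2.2.2)
def qd (a : Q) : Z := a.1 * a.2.2.2 - a.2.1 * a.2.2.1
def em (x y : E) : E :=
  bif x.2.2 then (qm x.1 y.2.1, qm x.2.1 y.1, !y.2.2) else (qm x.1 y.1, qm x.2.1 y.2.1, y.2.2)
abbrev ok (x : E) : Prop := qd x.1 * qd x.2.1 = 1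
abbrev eqv (x y : E) : Prop := y = x ∨ y = (-x.1, -x.2.1, x.2.2)

theorem mat_mul (a b : Q) : mat (qm a b) = mat a * mat b := by simp [mat, qm]
theorem mat_det (a : Q) : (mat a).det = qd a := by simp [mat, qd, det_fin_two]
theorem mat_tr (a : Q) : (mat a).trace = a.1 + a.2.2.2 := by simp [mat, trace_fin_two]
theorem mat_neg (a : Q) : mat (-a) = -mat a := by simp [mat]
theorem mat_surj (a : M2 Z) : ∃ b, a = mat b := ⟨(a 0 0, a 0 1, a 1 0, a 1 1), eta_fin_two a⟩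
theorem mat_inj {a b : Q} (e : mat a = mat b) : a = b :=
  Prod.ext (congrFun (congrFun e 0) 0) (Prod.ext (congrFun (congrFun e 0) 1)
    (Prod.ext (congrFun (congrFun e 1) 0) (congrFun (congrFun e 1) 1)))
theorem ok_mat {x : E} (h : ok x) : (mat x.1).det * (mat x.2.1).det = 1 := by rwa [mat_det, mat_det]

abbrev q1 : Q := (1, 0, 0, 1)
abbrev qJ : Q := (0, 1, -1, 0)
abbrev qU : Q := (1, 1, 0, 1)
theorem mat_one : mat q1 = 1 := one_fin_two.symm

def pw (x : E) (i : ZMod 4) : E :=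
  if i = 0 then (q1, q1, false) else if i = 1 then x else if i = 2 then em x x else em x (em x x)
/-- the first dihedral factor -/
def p1 : D → E
  | r i => pw ((1, 1, -1, 1), (1, 1, -1, 1), false) i
  | sr i => em ((1, 0, 0, -1), (1, 0, 0, -1), true) (pw ((1, 1, -1, 1), (1, 1, -1, 1), false) i)
/-- the second dihedral factor -/
def p2 : D → E
  | r i => pw ((1, 1, -1, 1), (-1, 1, -1, -1), false) i
  | sr i => em (q1, q1, true) (pw ((1, 1, -1, 1), (-1, 1, -1, -1), false) i)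

theorem ok1 : ∀ x, ok (p1 x) := by decide +kernel
theorem ok2 : ∀ x, ok (p2 x) := by decide +kernel
theorem ok12 : ∀ x y, ok (em (p1 x) (p2 y)) := by decide +kernel
theorem mul1 : ∀ x y, eqv (p1 (x * y)) (em (p1 x) (p1 y)) := by decide +kernel
theorem mul2 : ∀ x y, eqv (p2 (x * y)) (em (p2 x) (p2 y)) := by decide +kernel
theorem cm12 : ∀ x y, eqv (em (p1 x) (p2 y)) (em (p2 y) (p1 x)) := by decide +kernel
theorem inj12 : ∀ x y, eqv (em (p1 x) (p2 y)) (q1, q1, false) → x = 1 ∧ y = 1 := by decide +kernel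
theorem cen1 : ∀ a, qm a qJ = qm qJ a → ∀ b, qm b qJ = qm qJ b → ∀ e, ok (a, b, e) →
    ∃ x y, eqv (a, b, e) (em (p1 x) (p2 y)) := by decide +kernel
theorem cen2 : ∀ a, qm qJ a = -qm a qJ → ∀ b, qm qJ b = -qm b qJ → ∀ e, ok (a, b, e) →
    ∃ x y, eqv (a, b, e) (em (p1 x) (p2 y)) := by decide +kernel
theorem tz12 : ∀ i j, ∃ a b : Q, em (p1 (sr i)) (p2 (sr j)) = (a, b, false) ∧ a.1 + a.2.2.2 = 0 ∧
    b.1 + b.2.2.2 = 0 ∧ qd b = qd a ∧ qd a = if (i + j).val % 2 = 0 then -1 else 1 := by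
  intro i j
  refine ⟨(em (p1 (sr i)) (p2 (sr j))).1, (em (p1 (sr i)) (p2 (sr j))).2.1, ?_⟩
  revert i j
  decide +kernel
theorem out12 : ∀ i, (em (p1 (sr i)) (p2 (r 0))).2.2 = true ∧ (em (p1 (r 0)) (p2 (sr i))).2.2 = true := by
  decide +kernel
theorem q8 : ∀ a : Q, qd a * qd a = 1 → ∀ m, m = qm a a → (qm m m = q1 ∨ qm m m = -q1) → m ≠ q1 → m ≠ -q1 →
    qd m = 1 ∧ ∃ n, qm qU m = qm n qU ∧ n ≠ m ∧ n ≠ -m ∧ qd n = 1 ∧ qm n m = -qm m n := by
  intro a ha m e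
  subst e
  revert a
  decide +kernel

/-- homomorphisms to the centre -/
def ch (a b : Bool) : D → D
  | r i => r (2 * (i * (a.toNat + b.toNat)))
  | sr i => r (2 * (a.toNat + i * (a.toNat + b.toNat)))

theorem ch_mul : ∀ a b x y, ch a b (x * y) = ch a b x * ch a b y ∧ ch a b x * y = y * ch a b x := by
  decide +kernel

theorem ch_aux (a b : Bool) (x y u v : D) :
    x * y * ch a b (u * v) = x * ch a b u * (y * ch a b v) := by
  rw [(ch_mul a b u v).1, mul_assoc x (ch a b u), ← mul_assoc (ch a b u), (ch_mul a b u y).2]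
  simp only [mul_assoc]

/-- central automorphisms -/
def th (a b c d : Bool) : D × D →* D × D :=
  MonoidHom.mk' (fun x => (x.1 * ch c d x.2, x.2 * ch a b x.1)) fun _ _ =>
    Prod.ext (ch_aux _ _ _ _ _ _) (ch_aux _ _ _ _ _ _)

/-- the possible fusion patterns -/
def T0 (a b c d : Bool) : D × D → Bool
  | (r i, r j) => i = 2 ∧ j = 2
  | (sr i, r j) => xor (j = 0) (if i.val % 2 = 0 then a else b)
  | (r i, sr j) => xor (i = 2) (if j.val % 2 = 0 then c else d)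
  | (sr i, sr j) => (i + j).val % 2 = 0

theorem th_th : ∀ a b c d x, th a b c d (th a b c d x) = x := by decide +kernel
theorem th_c : ∀ a b c d, th a b c d (r 2, 1) = (r 2, 1) ∧ th a b c d (r 2, r 2) = (r 2, r 2) := by
  decide +kernel
theorem th_sg : ∀ a b c d x, x * x = 1 → T0 a b c d (th a b c d x) = sg x := by decide +kernel
theorem invol : ∀ x : D, x * x = 1 → x = r 0 ∨ x = r 2 ∨ ∃ i, x = sr i := by decide +kernel
theorem four : ∀ i : ZMod 4, i = 0 ∨ i = 1 ∨ i = 0 + 2 ∨ i = 1 + 2 := by decide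

theorem sigA (T : D × D → Prop) (c1 : ∀ i y, T (sr (i + 2), y) ↔ T (sr i, y))
    (c2 : ∀ x j, T (x, sr (j + 2)) ↔ T (x, sr j)) (o1 : ∀ i, T (sr (i + 2), r 2) ↔ ¬ T (sr i, r 0))
    (o2 : ∀ j, T (r 2, sr (j + 2)) ↔ ¬ T (r 0, sr j)) (z0 : ¬ T (r 0, r 0)) (z1 : ¬ T (r 2, r 0))
    (z2 : ¬ T (r 0, r 2)) (z3 : T (r 2, r 2)) (ss : ∀ i j, T (sr i, sr j) ↔ (i + j).val % 2 = 0) :
    ∃ a b c d, ∀ x, x * x = 1 → (T x ↔ T0 a b c d x = true) := by
  have k : ∀ P : Prop, ∃ a : Bool, P ↔ a = true := fun P => by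
    classical exact ⟨decide P, decide_eq_true_iff.symm⟩
  obtain ⟨a, ha⟩ := k (T (sr 0, r 0))
  obtain ⟨b, hb⟩ := k (T (sr 1, r 0))
  obtain ⟨c, hc⟩ := k (T (r 0, sr 0))
  obtain ⟨d, hd⟩ := k (T (r 0, sr 1))
  refine ⟨!a, !b, c, d, fun ⟨x, y⟩ h => ?_⟩
  have v : (0 : ZMod 4).val % 2 = 0 ∧ (1 : ZMod 4).val % 2 ≠ 0 ∧ (0 + 2 : ZMod 4).val % 2 = 0 ∧
    (1 + 2 : ZMod 4).val % 2 ≠ 0 ∧ (0 : ZMod 4) ≠ 2 ∧ (2 : ZMod 4) ≠ 0 := by decide
  have o1' : ∀ i, T (sr i, r 2) ↔ ¬ T (sr i, r 0) := fun i => (c1 i _).symm.trans (o1 i)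
  have o2' : ∀ j, T (r 2, sr j) ↔ ¬ T (r 0, sr j) := fun j => (c2 _ j).symm.trans (o2 j)
  rcases invol x (congrArg Prod.fst h) with rfl | rfl | ⟨i, rfl⟩ <;>
    rcases invol y (congrArg Prod.snd h) with rfl | rfl | ⟨j, rfl⟩
  · simp only [z0, T0, v, false_and, decide_false, Bool.false_eq_true]
  · simp only [z2, T0, v, false_and, decide_false, Bool.false_eq_true]
  · rcases four j with rfl | rfl | rfl | rfl <;> simp only [c2, T0, v, if_true, if_false, hc, hd] <;> simp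
  · simp only [z1, T0, v, and_false, decide_false, Bool.false_eq_true]
  · simp only [z3, T0, and_self, decide_true]
  · rcases four j with rfl | rfl | rfl | rfl <;> simp only [o2', c2, T0, v, if_true, if_false, hc, hd] <;>
      simp
  · rcases four i with rfl | rfl | rfl | rfl <;> simp only [c1, T0, v, if_true, if_false, ha, hb] <;> simp
  · rcases four i with rfl | rfl | rfl | rfl <;> simp only [o1', c1, T0, v, if_true, if_false, ha, hb] <;>
      simp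
  · simp only [ss, T0, decide_eq_true_eq]

end H20.L4.Q3B
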