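import Cfsg.Agent.Lib.L4Q.FrT
import Cfsg.Agent.Lib.L4Q.Q3A
import Cfsg.Agent.Lib.L4Q.Q3B0

/-! L4Q package Q3B: `q = 3`: the centralizer of an involution of type `TZ 1`. -/

set_option autoImplicit false
set_option linter.unusedSectionVars false

open Matrix H24
open H52.FW (M2 wS dS Act)
open scoped MatrixGroups

namespace H20.L4.Q3B

open DihedralGroup

variable {G : Type*} [Group G]

section Map

variable {F F' : Type*} [Field F] [Fintype F] [Field F'] [Fintype F'] (ι : F' ≃+* F)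

theorem map_det {a b : M2 F'} : (ι.mapMatrix a).det * (ι.mapMatrix b).det = 1 ↔ a.det * b.det = 1 := by
  rw [← ι.map_det, ← ι.map_det, ← map_mul, EmbeddingLike.map_eq_one_iff]

theorem map_sc (l : F') : ι.mapMatrix (l • (1 : M2 F')) = ι l • 1 := by
  ext i j; fin_cases i <;> fin_cases j <;> simp

/-- change of the field -/
def map (B : Bs G F) : Bs G F' where
  ρ a b := B.ρ (ι.mapMatrix a) (ι.mapMatrix b)
  σ := B.σ
  odd := Fintype.card_congr ι.toEquiv ▸ B.odd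
  mul h h' := by rw [map_mul, map_mul, B.mul ((map_det ι).2 h) ((map_det ι).2 h')]
  ker h := by
    rw [B.ker ((map_det ι).2 h), ι.surjective.exists]
    simp only [← map_sc, EmbeddingLike.apply_eq_iff_eq]
  σσ := B.σσ
  sw h := B.sw ((map_det ι).2 h)
  out h := B.out ((map_det ι).2 h)
  cen c hc := by
    rw [map_neg, map_one] at hc
    obtain ⟨a, b, h, e⟩ := B.cen c hc
    obtain ⟨a, rfl⟩ := ι.mapMatrix.surjective a
    obtain ⟨b, rfl⟩ := ι.mapMatrix.surjective b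
    exact ⟨a, b, (map_det ι).1 h, e⟩

variable (B : Bs G F)

theorem map_t : (map ι B).t = B.t := by
  show B.ρ (ι.mapMatrix (-1)) (ι.mapMatrix 1) = _
  rw [map_neg, map_one]
  rfl

theorem map_u : (map ι B).u = B.u := by
  have : ι.mapMatrix (DD F') = DD F := by ext i j; fin_cases i <;> fin_cases j <;> simp [DD]
  show B.ρ (ι.mapMatrix (DD F')) (ι.mapMatrix (DD F')) = _
  rw [this]
  rfl

theorem map_w : (map ι B).w = B.w := by
  have : ι.mapMatrix (wS F').1 = (wS F).1 := by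
    ext i j; fin_cases i <;> fin_cases j <;> simp [wS, H64.SL2.mk]
  rw [Bs.w_eq, Bs.w_eq, ← this]
  rfl

theorem map_out {c : G} (h : (map ι B).Out c) : B.Out c :=
  let ⟨_, _, h, e⟩ := h
  ⟨_, _, (map_det ι).2 h, e⟩

theorem map_tz {c : G} (h : (map ι B).TZ 1 c) : B.TZ 1 c := by
  obtain ⟨-, a, b, h1, h2, h3, h4, e⟩ := h
  have k : ∀ a : M2 F', (ι.mapMatrix a).trace = ι a.trace := fun a => by simp [trace_fin_two]
  exact ⟨mul_one 1, _, _, by rw [k, h1, map_zero], by rw [k, h2, map_zero],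
    by rw [← ι.map_det, h3, map_one], by rw [← ι.map_det, h4, map_one], e⟩

end Map

variable (B : Bs G Z)

/-- evaluation of the finite model -/
def ev (x : E) : G := B.ρ (mat x.1) (mat x.2.1) * bif x.2.2 then B.σ else 1

theorem ev_in (a b : Q) : ev B (a, b, false) = B.ρ (mat a) (mat b) := mul_one _
theorem ev_out (a b : Q) : ev B (a, b, true) = B.ρ (mat a) (mat b) * B.σ := rfl
theorem ev_one : ev B (q1, q1, false) = 1 := by rw [ev_in, mat_one, B.ρ_one]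

theorem qd_mul (a b : Q) : qd (qm a b) = qd a * qd b := by simp only [qd, qm]; ring

theorem ok_em : ∀ {x y : E}, ok x → ok y → ok (em x y)
  | (a, b, false), (c, d, _), h, h' => by
    show qd (qm a c) * qd (qm b d) = 1
    rw [qd_mul, qd_mul, mul_mul_mul_comm, h, h', one_mul]
  | (a, b, true), (c, d, _), h, h' => by
    show qd (qm a d) * qd (qm b c) = 1
    rw [qd_mul, qd_mul, mul_mul_mul_comm, h, mul_comm (qd d), h', one_mul]

theorem ev_mul : ∀ {x y : E}, ok x → ok y → ev B (em x y) = ev B x * ev B y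
  | (a, b, false), (c, d, e), h, h' => by
    show B.ρ (mat (qm a c)) (mat (qm b d)) * _ = _
    rw [mat_mul, mat_mul, B.mul (ok_mat h) (ok_mat h'), ev_in, mul_assoc]
    rfl
  | (a, b, true), (c, d, false), h, h' => by
    rw [ev_in, ev_out, B.out_mul_ρ (ok_mat h) (ok_mat h'), ← mat_mul, ← mat_mul]
    rfl
  | (a, b, true), (c, d, true), h, h' => by
    rw [ev_out, ev_out, B.out_mul_out (ok_mat h) (ok_mat h'), ← mat_mul, ← mat_mul, ← ev_in]
    rfl

theorem ev_eq {x y : E} (h : ok x) (e : eqv x y) : ev B x = ev B y := by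
  rcases e with rfl | rfl
  · rfl
  · rw [ev, ev, mat_neg, mat_neg, B.neg_neg (ok_mat h)]

theorem ρ_inj {a b c d : Q} (h : qd a * qd b = 1) (h' : qd c * qd d = 1)
    (e : B.ρ (mat a) (mat b) = B.ρ (mat c) (mat d)) : (c = a ∧ d = b) ∨ (c = -a ∧ d = -b) := by
  obtain ⟨l, hl, e1, e2⟩ := (B.eq_iff (ok_mat (x := (a, b, true)) h) (ok_mat (x := (c, d, true)) h')).1 e
  rcases (by decide : ∀ l : Z, l ^ 4 = 1 → l = 1 ∨ l = -1) l hl with rfl | rfl
  · rw [one_smul] at e1 e2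
    exact Or.inl ⟨mat_inj e1, mat_inj e2⟩
  · rw [neg_one_smul, ← mat_neg] at e1 e2
    exact Or.inr ⟨mat_inj e1, mat_inj e2⟩

theorem ev_inj : ∀ {x y : E}, ok x → ok y → ev B x = ev B y → eqv x y
  | (a, b, false), (c, d, false), h, h', e => by
    rcases ρ_inj B h h' (mul_right_cancel e) with ⟨rfl, rfl⟩ | ⟨rfl, rfl⟩
    exacts [Or.inl rfl, Or.inr rfl]
  | (a, b, true), (c, d, true), h, h', e => by
    rcases ρ_inj B h h' (mul_right_cancel e) with ⟨rfl, rfl⟩ | ⟨rfl, rfl⟩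
    exacts [Or.inl rfl, Or.inr rfl]
  | (a, b, false), (c, d, true), h, h', e =>
    (Bs.In.not_out ⟨_, _, ok_mat h, ev_in B a b⟩ ⟨_, _, ok_mat h', e⟩).elim
  | (a, b, true), (c, d, false), h, h', e =>
    (Bs.In.not_out ⟨_, _, ok_mat h', ev_in B c d⟩ ⟨_, _, ok_mat h, e.symm⟩).elim

theorem ev_surj {c : G} (h : B.C c) : ∃ x, ok x ∧ c = ev B x := by
  rcases B.C_iff.1 h with ⟨a, b, h, e⟩ | ⟨a, b, h, e⟩ <;> obtain ⟨a, rfl⟩ := mat_surj a <;>
    obtain ⟨b, rfl⟩ := mat_surj b <;> rw [mat_det, mat_det] at h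
  exacts [⟨(a, b, false), h, e.trans (ev_in B a b).symm⟩, ⟨(a, b, true), h, e⟩]

theorem nsq : ¬ IsSquare (-1 : Z) := by decide

/-- an element of order three permuting the four-group -/
theorem thr {s x : G} (hs : B.C s) (s2 : s * s = 1) (s1 : s ≠ 1) (n : ¬ IsConj B.t s)
    (k : IsConj B.t (B.t * s)) (hx : B.C x) (xs : x * s = s * x) (x4 : x * x * (x * x) = 1) (x2 : x * x ≠ 1) :
    ∃ y, y ^ 3 = 1 ∧ y * s = s * y ∧ y * B.t = B.t * y ∧ y * (x * x) * y⁻¹ ≠ x * x ∧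
      y * (x * x) * y⁻¹ * (x * x) = x * x * (y * (x * x) * y⁻¹) := by
  rcases hs.invol s2 s1 with rfl | ⟨d, h⟩ | h | h
  · exact (n (IsConj.refl _)).elim
  · obtain ⟨y, -, e⟩ := h.exists_w
    exact (n (k.trans (isConj_iff.2 ⟨_, e⟩).symm)).elim
  · exact (nsq h.isSquare).elim
  obtain ⟨B', S, e⟩ := h.std s2
  rw [← S.t]
  replace hx := S.C.2 hx
  have xσ : x * B'.σ = B'.σ * x := by
    rcases e with rfl | rfl
    · exact xs
    · rw [← mul_assoc, hx, mul_assoc, mul_assoc] at xs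
      exact mul_left_cancel xs
  obtain ⟨a, ha, ex⟩ := hx.cen_σ xσ
  obtain ⟨a, rfl⟩ := mat_surj a
  have e2 : x * x = B'.ρ (mat (qm a a)) (mat (qm a a)) := by
    have k : ∀ z, B'.C z → B'.t * z * (B'.t * z) = z * z := fun z hz => by
      rw [mul_assoc, ← mul_assoc z, hz, ← mul_assoc, ← mul_assoc, B'.tt, one_mul]
    rw [mat_mul]
    rcases ex with rfl | rfl | rfl | rfl
    · exact (B'.mul ha ha).symm
    · rw [k _ (B'.C_ρ ha), B'.mul ha ha]
    · exact B'.out_mul_out ha ha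
    · rw [k _ ((B'.C_ρ ha).mul B'.C_σ), B'.out_mul_out ha ha]
  rw [mat_det] at ha
  have o : ok (qm a a, qm a a, false) := ok_em (x := (a, a, false)) (y := (a, a, false)) ha ha
  rw [e2] at x4 x2 ⊢
  obtain ⟨d1, n, n1, n2, n3, n4, n5⟩ := q8 a ha _ rfl (by
      rw [← B'.mul (ok_mat o) (ok_mat o), ← mat_mul, ← B'.ρ_one, ← mat_one] at x4
      exact (ρ_inj B' (by decide) (ok_em o o) x4.symm).imp And.left And.left)
    (fun e => x2 (by rw [e, mat_one, B'.ρ_one]))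
    fun e => x2 (by rw [e, mat_neg, mat_one, B'.neg_neg (by simp), B'.ρ_one])
  have oU : ok (qU, qU, false) := by decide
  have on : ok (n, n, false) := by show qd n * qd n = 1; rw [n4, one_mul]
  have n1' : mat qU * mat (qm a a) = mat n * mat qU := by rw [← mat_mul, ← mat_mul, n1]
  have n5' : mat n * mat (qm a a) = -(mat (qm a a) * mat n) := by rw [← mat_mul, ← mat_mul, n5, mat_neg]
  have c := B'.C_ρ (ok_mat oU)
  have cσ := (B'.sw (ok_mat oU)).symm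
  refine ⟨B'.ρ (mat qU) (mat qU), ?_, ?_, c, ?_⟩
  · rw [pow_three, ← ev_in, ← ev_mul B' oU oU, ← ev_mul B' oU (ok_em oU oU), ← ev_one B']
    exact congrArg _ (by decide)
  · rcases e with rfl | rfl
    · exact cσ
    · rw [← mul_assoc, c, mul_assoc, cσ, mul_assoc]
  · rw [B'.conj_ρ (ok_mat oU) (ok_mat o) n1' n1']
    exact ⟨fun e => (ρ_inj B' o on e.symm).elim (fun e => n2 e.1) fun e => n3 e.1,
      (B'.comm_iff (ok_mat on) (ok_mat o)).2 (Or.inr ⟨n5', n5'⟩)⟩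

/-- the centralizer of `t` and `w` -/
def φ0 : D × D →* G :=
  (MonoidHom.mk' (fun x => ev B (p1 x)) fun x y =>
    (ev_eq B (ok1 _) (mul1 x y)).trans (ev_mul B (ok1 x) (ok1 y))).noncommCoprod
  (MonoidHom.mk' (fun x => ev B (p2 x)) fun x y =>
    (ev_eq B (ok2 _) (mul2 x y)).trans (ev_mul B (ok2 x) (ok2 y))) fun x y =>
    (ev_mul B (ok1 x) (ok2 y)).symm.trans ((ev_eq B (ok12 x y) (cm12 x y)).trans (ev_mul B (ok2 y) (ok1 x)))

theorem φ0_eq (x y : D) : φ0 B (x, y) = ev B (em (p1 x) (p2 y)) := (ev_mul B (ok1 x) (ok2 y)).symm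

theorem φ0_inj : Function.Injective (φ0 B) := (injective_iff_map_eq_one _).2 fun ⟨x, y⟩ e => by
  rw [φ0_eq, ← ev_one B] at e
  obtain ⟨rfl, rfl⟩ := inj12 x y (ev_inj B (ok12 x y) (by decide) e)
  rfl

theorem w_ev : B.w = ev B (qJ, qJ, false) := B.w_eq.trans (ev_in B qJ qJ).symm

theorem φ0_w : φ0 B (r 2, 1) = B.w := by
  rw [φ0_eq, w_ev]
  exact ev_eq B (ok12 _ _) (by decide +kernel)

theorem φ0_t : φ0 B (r 2, r 2) = B.t := by
  rw [φ0_eq, ev_eq B (y := (-q1, q1, false)) (ok12 _ _) (by decide +kernel), ev_in, mat_neg, mat_one]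
  rfl

theorem φ0_cen {c : G} (h : B.C c) (e : c * B.w = B.w * c) : ∃ d, φ0 B d = c := by
  obtain ⟨⟨a, b, k⟩, o, rfl⟩ := ev_surj B h
  have oJ : ok (qJ, qJ, false) := by decide
  rw [w_ev, ← ev_mul B o oJ, ← ev_mul B oJ o] at e
  have : ∃ x y, eqv (a, b, k) (em (p1 x) (p2 y)) := by
    rcases ev_inj B (ok_em o oJ) (ok_em oJ o) e with e | e <;> cases k
    · exact cen1 a (congrArg (·.1) e).symm b (congrArg (·.2.1) e).symm _ o
    · exact cen1 a (congrArg (·.1) e).symm b (congrArg (·.2.1) e).symm _ o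
    · exact cen2 a (congrArg (·.1) e) b (congrArg (·.2.1) e) _ o
    · exact cen2 a (congrArg (·.1) e) b (congrArg (·.2.1) e) _ o
  obtain ⟨x, y, e⟩ := this
  exact ⟨(x, y), (φ0_eq B x y).trans (ev_eq B o e).symm⟩

theorem ev_Out : ∀ {x : E}, ok x → x.2.2 = true → B.Out (ev B x)
  | (_, _, true), h, _ => ⟨_, _, ok_mat h, rfl⟩

theorem φ0_sig (hu : IsConj B.t B.u) (h0 : ∀ c, B.TZ 1 c → ¬ IsConj B.t c)
    (ho : ∀ c, B.Out c → c * c = 1 → (IsConj B.t (B.t * c) ↔ ¬ IsConj B.t c)) :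
    ∃ a b c d, ∀ x, x * x = 1 → (IsConj B.t (φ0 B x) ↔ T0 a b c d x = true) := by
  have cj : ∀ g x y, g * x * g⁻¹ = y → (IsConj B.t (φ0 B y) ↔ IsConj B.t (φ0 B x)) := fun g x y e => by
    have : IsConj (φ0 B x) (φ0 B y) := isConj_iff.2 ⟨φ0 B g, by rw [← e, map_mul, map_mul, map_inv]⟩
    exact ⟨fun a => a.trans this.symm, fun a => a.trans this⟩
  have ot : ∀ x y, em (p1 x.1) (p2 x.2)|>.2.2 = true → x * x = 1 → (r 2, r 2) * x = y →
      (IsConj B.t (φ0 B y) ↔ ¬ IsConj B.t (φ0 B x)) := fun x y o x2 e => by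
    rw [← e, map_mul, φ0_t]
    exact ho _ (φ0_eq B x.1 x.2 ▸ ev_Out B (ok12 _ _) o) (by rw [← map_mul, x2, map_one])
  refine sigA _ (fun i y => cj (r 1, 1) _ _ ?_) (fun x j => cj (1, r 1) _ _ ?_)
    (fun i => ot _ _ (out12 i).1 ?_ ?_) (fun i => ot _ _ (out12 i).2 ?_ ?_) (fun e => ?_)
    (h0 _ (φ0_w B ▸ B.w_TZ)) (h0 _ ?_) (φ0_t B ▸ IsConj.refl _) fun i j => ?_
  · revert i y; decide +kernel
  · revert x j; decide +kernel
  · revert i; decide +kernel
  · revert i; decide +kernel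
  · revert i; decide +kernel
  · revert i; decide +kernel
  · exact B.t_ne (isConj_one_left.1 (map_one (φ0 B) ▸ e))
  · rw [show ((r 0, r 2) : D × D) = (r 2, r 2) * (r 2, 1) by decide, map_mul, φ0_t, φ0_w]
    exact B.w_TZ.t_mul
  · obtain ⟨a, b, e, h1, h2, h3, h4⟩ := tz12 i j
    have k : ∀ d, d * d = 1 → qd a = d → B.TZ d (φ0 B (sr i, sr j)) := fun d d2 e' =>
      ⟨d2, mat a, mat b, (mat_tr a).trans h1, (mat_tr b).trans h2, (mat_det a).trans e',
        (mat_det b).trans (h3.trans e'), by rw [φ0_eq, e, ev_in]⟩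
    split_ifs at h4 with h
    · obtain ⟨x, y, e'⟩ := B.u_TZ.conj (k _ (by decide) h4)
      exact iff_of_true (hu.trans (isConj_iff.2 ⟨_, e'⟩)) h
    · exact iff_of_false (h0 _ (k _ (by decide) h4)) h

theorem thr_tab : ∀ i : ZMod 4, ((sr i, 1) : D × D) * (sr i, 1) = 1 ∧ sg (sr i, 1) = true ∧
    ((sr i, 1) : D × D) * (r 2, 1) * ((sr i, 1) * (r 2, 1)) = 1 ∧ sg ((sr i, 1) * (r 2, 1)) = true ∧
    ((r 2, 1) : D × D) * (sr i, 1) = (sr i, 1) * (r 2, 1) ∧
    ((1, r 1) : D × D) * (sr i, 1) = (sr i, 1) * (1, r 1) := by decide +kernel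

theorem core [Finite G] (hu : IsConj B.t B.u) (h0 : ∀ c, B.TZ 1 c → ¬ IsConj B.t c)
    (ho : ∀ c, B.Out c → c * c = 1 → (IsConj B.t (B.t * c) ↔ ¬ IsConj B.t c)) {s : G} (hs : s = B.w) :
    ∃ M : Subgroup G, (∀ c ∈ M, c * s = s * c) ∧ (∀ c, c * s = s * c → ∀ m ∈ M, c * m * c⁻¹ ∈ M) ∧
      (∀ y, y * s = s * y → y ^ 3 = 1 → y ∈ M) ∧ 9 ∣ Nat.card M ∧
      ∀ j ∈ M, j * j = 1 → j ≠ 1 → ∀ y ∈ M, y * j = j * y → y ^ 4 = 1 := by
  obtain ⟨a, b, c, d, h⟩ := φ0_sig B hu h0 ho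
  obtain ⟨φ, hφ⟩ : ∃ φ, φ = (φ0 B).comp (th a b c d) := ⟨_, rfl⟩
  have inj : Function.Injective φ := hφ ▸ (φ0_inj B).comp (Function.LeftInverse.injective (th_th a b c d))
  have es : s = φ (r 2, 1) := by rw [hφ, MonoidHom.comp_apply, (th_c a b c d).1, φ0_w, hs]
  have sig : ∀ x, x * x = 1 → (IsConj B.t (φ x) ↔ sg x = true) := fun x x2 => by
    rw [← th_sg a b c d x x2, hφ]
    exact h _ (by rw [← map_mul, x2, map_one])
  refine k3_abs φ inj es (by rw [hφ, MonoidHom.comp_apply, (th_c a b c d).2, φ0_t]) (fun g h1 h2 => ?_) sig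
    fun i => ?_
  · obtain ⟨x, rfl⟩ := φ0_cen B h1 (hs ▸ h2)
    exact ⟨th a b c d x, by rw [hφ, MonoidHom.comp_apply, th_th]⟩
  · obtain ⟨v1, v2, v3, v4, v5, v6⟩ := thr_tab i
    have k1 := (sig _ v1).2 v2
    have k2 := (sig _ v3).2 v4
    have k3 : ¬ IsConj B.t (φ (r 2, 1)) := fun e => absurd ((sig _ (by decide)).1 e) (by decide)
    have cm : ∀ x y, x * y = y * x → φ x * φ y = φ y * φ x := fun x y e => by rw [← map_mul, e, map_mul]
    obtain ⟨g, hg⟩ := B.exists_at k1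
    have := thr (B.conj g) (s := φ (r 2, 1)) (x := φ (1, r 1))
      (by rw [Bs.C, hg]; exact cm _ _ v5) (by rw [← map_mul, ← map_one φ]; rfl)
      (fun e => absurd (inj (e.trans (map_one φ).symm)) (by decide)) (fun e => k3 (k1.trans (hg ▸ e)))
      (by rw [hg, ← map_mul]; exact k1.symm.trans k2)
      (by rw [Bs.C, hg]; exact cm _ _ v6) (cm _ _ (by decide))
      (by rw [← map_mul, ← map_mul, ← map_one φ]; rfl)
      (fun e => absurd (inj ((map_mul φ _ _).trans (e.trans (map_one φ).symm))) (by decide))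
    rwa [hg, ← map_mul φ (1, r 1), ← es] at this

end H20.L4.Q3B

namespace H20.L4.Bs

variable {G F : Type*} [Group G] [Finite G] [Field F] [Fintype F] (B : Bs G F)

set_option linter.unusedVariables false in
theorem hall (R : B.Fr) (hF : B.Fus) (s : ¬ IsSquare (-1 : F)) (h3 : Fintype.card F = 3) {c : G}
    (h : B.Out c) (e : c * c = 1) : IsConj B.t c ∨ IsConj B.t (B.t * c) := by
  obtain ⟨x, hx, h1, -⟩ := R.tab3
  have k : ∀ y, (R.at' 0 2).TZ (-1) y → IsConj B.t y := fun y hy => by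
    obtain ⟨a, b, e⟩ := (R.at' 0 2).u_TZ.conj hy
    exact (hF.u.trans (isConj_iff.2 ⟨R.r 0 2, rfl⟩)).trans (isConj_iff.2 ⟨_, e⟩)
  have tt : ∀ y, B.t * (B.t * y) = y := fun y => by rw [← mul_assoc, B.tt, one_mul]
  have k1 : IsConj B.t B.σ ∨ IsConj B.t (B.t * B.σ) := by
    rcases hx with rfl | rfl
    exacts [Or.inl (k _ h1), Or.inr (k _ h1)]
  have k2 : IsConj B.t (B.u * B.σ) ∨ IsConj B.t (B.t * (B.u * B.σ)) := by
    have := k _ h1.t_mul
    rw [R.at_t] at this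
    have ut : B.u * (B.t * B.σ) = B.t * (B.u * B.σ) := by rw [← mul_assoc, ← B.tu_comm, mul_assoc]
    rcases R.tt02 with ⟨a, -⟩ | ⟨a, -⟩ <;> rcases hx with rfl | rfl <;> rw [a] at this
    · exact Or.inl this
    · exact Or.inr (ut ▸ this)
    · exact Or.inr (mul_assoc B.t _ _ ▸ this)
    · exact Or.inl (by rwa [mul_assoc, ut, tt] at this)
  obtain ⟨g, hg, e⟩ := h.classes e s
  have eu : B.ρ !![-1, 0; 0, 1] !![(-1)⁻¹, 0; 0, 1] = B.u := by
    rw [u, ← B.neg_neg (a := DD F) (by simp [DD, det_fin_two])]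
    congr 1 <;> ext i j <;> fin_cases i <;> fin_cases j <;> simp [DD]
  have k3 : IsConj B.t (g * c * g⁻¹) ∨ IsConj B.t (B.t * (g * c * g⁻¹)) := by
    rcases e with e | e | e | e <;> rw [e]
    · exact k1
    · rw [tt]; exact k1.symm
    · rwa [eu]
    · rw [eu, tt]; exact k2.symm
  refine k3.imp (fun a => a.trans (isConj_iff.2 ⟨g, rfl⟩).symm) fun a =>
    a.trans (isConj_iff.2 ⟨g, ?_⟩).symm
  rw [← conj_mul, hg.C.conj_t]

theorem k3 (R : B.Fr) (hF : ∀ B' : Bs G F, B'.Fus) (h3 : Fintype.card F = 3) {s : G} (hs : B.TZ 1 s) :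
    ∃ M : Subgroup G, (∀ c ∈ M, c * s = s * c) ∧ (∀ c, c * s = s * c → ∀ m ∈ M, c * m * c⁻¹ ∈ M) ∧
      (∀ y, y * s = s * y → y ^ 3 = 1 → y ∈ M) ∧ 9 ∣ Nat.card M ∧
      ∀ j ∈ M, j * j = 1 → j ≠ 1 → ∀ y ∈ M, y * j = j * y → y ^ 4 = 1 := by
  let ι : ZMod 3 ≃+* F := ZMod.ringEquivOfPrime F Nat.prime_three h3
  have ns : ¬ IsSquare (-1 : F) := fun h => Q3B.nsq (by simpa using h.map ι.symm)
  obtain ⟨x, y, e⟩ := B.w_TZ.conj hs
  have hg := ((B.in_f1 x).mul (B.in_f2 y)).C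
  generalize B.f1 x * B.f2 y = g at e hg
  have et : (B.conj g).t = B.t := hg.conj_t
  have F1 := hF (B.conj g)
  refine Q3B.core (Q3B.map ι (B.conj g)) ?_ (fun c hc => ?_) (fun c hc c2 => ?_) ?_
  · rw [Q3B.map_t, Q3B.map_u]
    exact F1.u
  · rw [Q3B.map_t]
    exact F1.s0 ns c (Q3B.map_tz _ _ hc)
  · rw [Q3B.map_t]
    replace hc := Q3B.map_out _ _ hc
    refine ⟨fun a b => F1.out ns c hc c2 b a, fun a => ?_⟩
    rw [et] at a ⊢
    exact (B.hall R (hF B) ns h3 (by simpa [mul_assoc] using (B.conj_Out.1 hc).conj hg) c2).resolve_left a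
  · rw [Q3B.map_w, ← e, w, w, conj_f1, conj_f2, conj_mul]

end H20.L4.Bs
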