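import Cfsg.Agent.Lib.L4Q.FrT
import Cfsg.Agent.Lib.L4Q.Big5
import Cfsg.Agent.Lib.Core.CoprimeSylow
import Cfsg.Agent.Lib.Core.Frobenius

/-! L4Q package Q3E: `q = 3`: two elements of order three. -/

set_option autoImplicit false
set_option linter.unusedSectionVars false

open Matrix H24
open H52.FW (M2 wS dS Act)
open scoped MatrixGroups

namespace H20.L4.Q3E

open Subgroup H68

variable {G : Type*} [Group G] [Finite G]

theorem nrm_of {K : Subgroup G} {a : G} (aa : a * a = 1) (h : ∀ k ∈ K, a * k * a⁻¹ ∈ K) :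
    a ∈ normalizer (K : Set G) := mem_normalizer_iff.2 fun k => ⟨h k, fun hk => by
  have := h _ hk
  rwa [show a * (a * k * a⁻¹) * a⁻¹ = (a * a) * k * (a * a)⁻¹ by group, aa, one_mul, inv_one, mul_one] at this⟩

theorem core {t v x y y' : G} {M : Subgroup G} (tt : t * t = 1) (vv : v * v = 1) (tv : Commute t v)
    (tx : Commute t x) (vx : Commute v x) (y3 : y ^ 3 = 1) (y1 : y ≠ 1) (ty : Commute t y) (xy : Commute x y)
    (vy : v * y * v⁻¹ = y⁻¹) (y3' : y' ^ 3 = 1) (ty' : Commute t y') (xy' : x * y' * x⁻¹ = y'⁻¹)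
    (m1 : ∀ c ∈ M, c * (t * x) = t * x * c) (m2 : ∀ c, c * (t * x) = t * x * c → ∀ m ∈ M, c * m * c⁻¹ ∈ M)
    (m3 : ∀ y, y * (t * x) = t * x * y → y ^ 3 = 1 → y ∈ M) (m4 : 9 ∣ Nat.card M)
    (m5 : ∀ j ∈ M, j * j = 1 → j ≠ 1 → ∀ y ∈ M, y * j = j * y → y ^ 4 = 1)
    (nop : ∀ g k, g * v = v * g → g * (t * x) = t * x * g → g ^ 3 ^ k = 1 → g = 1)
    (hU : ∀ g k, g * t = t * g → g * y = y * g → g ^ 3 ^ k = 1 → ∃ i j : ℕ, g = y ^ i * y' ^ j) :
    ∃ e, e ≠ 1 ∧ e ^ 3 = 1 ∧ t * e * t⁻¹ = e⁻¹ ∧ v * e * v⁻¹ = e⁻¹ ∧ x * e * x⁻¹ = e⁻¹ ∧ Commute e y := by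
  have : Fact (Nat.Prime 3) := ⟨Nat.prime_three⟩
  have yM : y ∈ M := m3 y (ty.symm.mul_right xy.symm) y3
  have oy : orderOf y = 3 := orderOf_eq_prime y3 y1
  let E := M ⊓ centralizer {y}
  have mE : ∀ {g}, g ∈ E ↔ g ∈ M ∧ g * y = y * g := fun {g} => by
    simp only [E, mem_inf, mem_centralizer_singleton_iff]
  have odd : ¬ 2 ∣ Nat.card E := fun h => by
    obtain ⟨j, hj⟩ := exists_prime_orderOf_dvd_card' 2 h
    have := m5 j (mE.1 j.2).1 (congrArg Subtype.val ((pow_two j).symm.trans (hj ▸ pow_orderOf_eq_one j)))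
      (fun e => by rw [show j = 1 from Subtype.ext e] at hj; simp at hj) y yM (mE.1 j.2).2.symm
    rw [pow_succ, y3, one_mul] at this
    exact y1 this
  have tE : t ∈ normalizer (E : Set G) := nrm_of tt fun k hk => mE.2 ⟨m2 t ((Commute.refl t).mul_right tx) k (mE.1 hk).1,
    ((ty.mul_left (mE.1 hk).2).mul_left ty.inv_left).eq⟩
  have vE : v ∈ normalizer (E : Set G) := nrm_of vv fun k hk => mE.2 ⟨m2 v (tv.symm.mul_right vx) k (mE.1 hk).1, by
    have : Commute (v * k * v⁻¹) (v * y * v⁻¹) := Commute.conj (mE.1 hk).2 v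
    rw [vy] at this
    exact (Commute.inv_right_iff.1 this).eq⟩
  have pz : ∀ a : G, a * a = 1 → IsPGroup 2 (zpowers a) := fun a aa => by
    rintro ⟨_, k, rfl⟩
    exact ⟨1, Subtype.ext (by
      simp only [pow_one, SubmonoidClass.coe_pow, OneMemClass.coe_one]
      rw [← zpow_natCast, ← _root_.zpow_mul, mul_comm, _root_.zpow_mul, zpow_natCast, pow_two, aa, _root_.one_zpow])⟩
  have pA : IsPGroup 2 (zpowers t ⊔ zpowers v : Subgroup G) := (pz t tt).to_sup_of_normal_right' (pz v vv)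
    (zpowers_le.2 (nrm_of tt (by
      rintro _ ⟨k, rfl⟩
      rw [(tv.zpow_right k).eq, mul_inv_cancel_right]
      exact ⟨k, rfl⟩)))
  obtain ⟨P, hP, nP⟩ := H2.exists_invariant_sylowIn (A := zpowers t ⊔ zpowers v) (K := E)
    (sup_le (zpowers_le.2 tE) (zpowers_le.2 vE)) (by
      obtain ⟨n, hn⟩ := pA.exists_card_eq
      rw [hn]
      exact ((Nat.prime_two.coprime_iff_not_dvd).2 odd).pow_left n)
    (Or.inl (by have := pA.isNilpotent; infer_instance)) 3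
  have tP := nP (mem_sup_left (mem_zpowers t))
  have vP := nP (mem_sup_right (mem_zpowers v))
  have p3 : ∀ g ∈ P, ∃ k, g ^ 3 ^ k = 1 := fun g hg => (hP.isPGroup ⟨g, hg⟩).imp fun _ e => congrArg Subtype.val e
  have inv : ∀ g ∈ P, v * g * v⁻¹ = g⁻¹ := fun g hg => by
    obtain ⟨c, -, rfl⟩ := H2.exists_commutator_eq_of_fpf vP (eq_bot_iff.2 fun g hg => by
      obtain ⟨k, e⟩ := p3 g hg.1
      exact nop g k (mem_centralizer_singleton_iff.1 hg.2) (m1 g (mE.1 (hP.le hg.1)).1) e) hg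
    rw [inv_eq_of_mul_eq_one_right vv]
    simp only [_root_.mul_inv_rev, inv_inv, inv_eq_of_mul_eq_one_right vv, mul_assoc, vv, mul_one]
  obtain ⟨g, hg, gt⟩ : ∃ g ∈ P, g * t ≠ t * g := by
    by_contra! hc
    have le : P ≤ zpowers y := fun g hg => by
      obtain ⟨k, e⟩ := p3 g hg
      obtain ⟨i, j, rfl⟩ := hU g k (hc g hg) (mE.1 (hP.le hg)).2 e
      have c1 : Commute (t * x) (y ^ i * y' ^ j) := (m1 _ (mE.1 (hP.le hg)).1).symm
      have c2 : Commute x (y' ^ j) := by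
        have := (((ty.pow_right i).mul_right (ty'.pow_right j)).inv_left.mul_left c1)
        rw [inv_mul_cancel_left] at this
        simpa using (xy.pow_right i).inv_right.mul_right this
      have e2 : (y' ^ j)⁻¹ = y' ^ j := by rw [← inv_pow, ← xy', conj_pow, c2.eq, mul_inv_cancel_right]
      have e3 : (y' ^ j) ^ 3 = 1 := by rw [← pow_mul, mul_comm, pow_mul, y3', one_pow]
      rw [pow_succ, pow_two, ← eq_inv_iff_mul_eq_one, e2, mul_eq_left] at e3
      rw [e3, mul_one]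
      exact pow_mem (mem_zpowers y) i
    have cy : Nat.card (zpowers y) = 3 := by rw [Nat.card_zpowers, oy]
    obtain ⟨S, hS, yS⟩ := exists_sylowIn_ge (IsPGroup.of_card (p := 3) (n := 1) (by rw [cy]; rfl)) (zpowers_le.2 yM)
    have hD : zpowers y = S ⊓ centralizer {y} := eq_of_le_of_card_ge
      (le_inf yS (zpowers_le.2 (mem_centralizer_singleton_iff.2 rfl)))
      ((hP.card_le hS.isPGroup.to_inf_left (inf_le_inf_right _ hS.le)).trans (card_le_of_le le))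
    have : Nontrivial S := ⟨⟨y, yS (mem_zpowers y)⟩, 1, fun e => y1 (congrArg Subtype.val e)⟩
    obtain ⟨⟨z, hz⟩, z1⟩ := @exists_ne _ hS.isPGroup.center_nontrivial 1
    have zc : ∀ s ∈ S, s * z = z * s := fun s hs => congrArg Subtype.val (mem_center_iff.1 hz ⟨s, hs⟩)
    have zy : (z : G) ∈ zpowers y := hD ▸ ⟨z.2, mem_centralizer_singleton_iff.2 (zc y (yS (mem_zpowers y))).symm⟩
    have e : zpowers (z : G) = zpowers y := by
      have := (Subgroup.eq_bot_or_eq_top_of_prime_card (G := zpowers y) (hp := ⟨cy ▸ Nat.prime_three⟩)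
        ((zpowers (z : G)).subgroupOf (zpowers y))).resolve_left fun e => z1 (by
          have := (eq_bot_iff.1 e) (show (⟨z, zy⟩ : zpowers y) ∈ _ from mem_subgroupOf.2 (mem_zpowers _))
          exact Subtype.ext (Subtype.ext (congrArg (fun u : zpowers y => (u : G)) (mem_bot.1 this))))
      exact le_antisymm (zpowers_le.2 zy) (subgroupOf_eq_top.1 this)
    have le' : S ≤ zpowers y := hD ▸ le_inf le_rfl fun s hs => by
      obtain ⟨k, hk⟩ := e ▸ mem_zpowers y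
      exact mem_centralizer_singleton_iff.2 (hk ▸ ((show Commute s z from zc s hs).zpow_right k).eq)
    have h9 := card_le_of_le le'
    rw [cy, hS.card_eq] at h9
    have := (Nat.prime_three.pow_dvd_iff_le_factorization (k := 2) (Nat.card_pos (α := M)).ne').1 m4
    have := Nat.pow_le_pow_right (show 0 < 3 by norm_num) this
    omega
  have e0P : g * t * g⁻¹ * t⁻¹ ∈ P := by
    simpa only [mul_assoc] using mul_mem hg ((mem_normalizer_iff.1 tP _).1 (inv_mem hg))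
  have e0t : t * (g * t * g⁻¹ * t⁻¹) * t⁻¹ = (g * t * g⁻¹ * t⁻¹)⁻¹ := by
    simp only [_root_.mul_inv_rev, inv_inv, inv_eq_of_mul_eq_one_right tt, mul_assoc, tt, mul_one]
  have e01 : g * t * g⁻¹ * t⁻¹ ≠ 1 := fun e => gt (by rwa [mul_inv_eq_one, mul_inv_eq_iff_eq_mul] at e)
  generalize g * t * g⁻¹ * t⁻¹ = c at e0P e0t e01
  obtain ⟨n, e1, e3⟩ : ∃ n, c ^ n ≠ 1 ∧ (c ^ n) ^ 3 = 1 := by
    classical
    have hk := p3 c e0P
    obtain ⟨k, hk'⟩ := Nat.exists_eq_succ_of_ne_zero (n := Nat.find hk) fun e => e01 (by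
      simpa [e] using Nat.find_spec hk)
    exact ⟨3 ^ k, Nat.find_min hk (by omega), by rw [← pow_mul, ← pow_succ, ← Nat.succ_eq_add_one, ← hk']; exact Nat.find_spec hk⟩
  have eP := pow_mem e0P n
  have et : t * c ^ n * t⁻¹ = (c ^ n)⁻¹ := by rw [← conj_pow, e0t, inv_pow]
  refine ⟨c ^ n, e1, e3, et, inv _ eP, ?_, (mE.1 (hP.le eP)).2⟩
  have := m1 _ (mE.1 (hP.le eP)).1
  calc _ = t⁻¹ * (t * x * c ^ n) * x⁻¹ := by group
    _ = (t⁻¹ * (c ^ n)⁻¹ * t)⁻¹ := by rw [← this]; group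
    _ = _ := by
      rw [show t⁻¹ * (c ^ n)⁻¹ * t = c ^ n by rw [← et]; simp only [mul_assoc, inv_mul_cancel_left, inv_mul_cancel, mul_one]]

variable {F : Type*} [Field F] [Fintype F] (B : Bs G F)

/-- pairs of upper transvections -/
def U (a b : F) : G := B.f1 (upT a) * B.f2 (upT b)

theorem f_mul (x y x' y' : SL(2, F)) : B.f1 x * B.f2 y * (B.f1 x' * B.f2 y') = B.f1 (x * x') * B.f2 (y * y') := by
  rw [map_mul, map_mul, mul_assoc, ← mul_assoc (B.f2 y), ← B.f12_comm]; simp only [mul_assoc]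

theorem U_mul (a b a' b' : F) : U B a b * U B a' b' = U B (a + a') (b + b') := by
  rw [U, U, f_mul, ← upT_add, ← upT_add, U]
theorem U_zero : U B 0 0 = 1 := by rw [U, upT_zero, map_one, map_one, mul_one]
theorem U_inv (a b : F) : (U B a b)⁻¹ = U B (-a) (-b) :=
  inv_eq_of_mul_eq_one_right (by rw [U_mul, add_neg_cancel, add_neg_cancel, U_zero])
theorem U_pow (a b : F) : ∀ n : ℕ, U B a b ^ n = U B (n * a) (n * b)
  | 0 => by simp [U_zero]
  | n + 1 => by rw [pow_succ, U_pow a b n, U_mul]; congr 1 <;> push_cast <;> ring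
theorem U_comm (a b a' b' : F) : Commute (U B a b) (U B a' b') := by
  rw [Commute, SemiconjBy, U_mul, U_mul, add_comm a, add_comm b]
theorem t_U (a b : F) : Commute B.t (U B a b) := Eq.symm ((B.in_f1 _).mul (B.in_f2 _)).C
theorem σ_U (a b : F) : B.σ * U B a b * B.σ⁻¹ = U B b a := by
  rw [U, ← conj_mul, B.σ_f1, B.σ_f2, ← B.f12_comm, U]
theorem u_U (a b : F) : B.u * U B a b * B.u⁻¹ = U B (-a) (-b) := by
  rw [U, ← conj_mul]
  exact congrArg₂ (· * ·) (B.u_rt1 true a) (B.u_rt2 true b)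
theorem t_conj {x c c' : G} (e : x * c * x⁻¹ = c') (h : Commute B.t c') : B.t * x * c * (B.t * x)⁻¹ = c' := by
  rw [show B.t * x * c * (B.t * x)⁻¹ = B.t * (x * c * x⁻¹) * B.t⁻¹ by group, e, h.eq, mul_inv_cancel_right]

theorem U_ne (b : F) : U B 1 b ≠ 1 := fun e => by
  rcases B.f12_eq (x' := 1) (y' := 1) (e.trans (by simp)) with e | e
  all_goals simpa using congrArg (fun g : SL(2, F) => g 0 1) e.1

theorem eq_up (h2 : (2 : F) ≠ 0) {x : SL(2, F)} (tr : x.1.trace = 2) {a : F} (ha : a ≠ 0)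
    (e : x * upT a = upT a * x) : ∃ k, x = upT k := by
  have e1 := congrArg (fun g : SL(2, F) => g 0 0) e
  have e2 := congrArg (fun g : SL(2, F) => g 0 1) e
  simp [Matrix.mul_apply, Fin.sum_univ_two, ha] at e1 e2
  rw [trace_fin_two] at tr
  have e3 : x.1 0 0 = x.1 1 1 := mul_left_cancel₀ ha (by linear_combination e2)
  have e4 : x.1 0 0 = 1 := mul_left_cancel₀ h2 (by linear_combination tr + e3)
  refine ⟨x.1 0 1, ?_⟩
  ext i j
  fin_cases i <;> fin_cases j <;> simp [← e3, e4, e1]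

theorem not_anti (h2 : (2 : F) ≠ 0) {x : SL(2, F)} (e : x * upT 1 = -(upT 1 * x)) : False := by
  have e1 := congrArg (fun g : SL(2, F) => g 0 0) e
  have e2 := congrArg (fun g : SL(2, F) => g 1 0) e
  simp [Matrix.mul_apply, Fin.sum_univ_two] at e1 e2
  have e3 : x.1 1 0 = 0 := mul_left_cancel₀ h2 (by linear_combination e2)
  have e4 : x.1 0 0 = 0 := mul_left_cancel₀ h2 (by linear_combination e1 - e3)
  have := x.2
  rw [det_fin_two, e3, e4] at this
  simp at this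

theorem exists_U {g : G} (c : B.C g) {k : ℕ} (e : g ^ ringChar F ^ k = 1) {b : F} (hb : b ≠ 0)
    (h : g * U B 1 b = U B 1 b * g) : ∃ a b, g = U B a b := by
  obtain ⟨x, y, rfl, t1, t2⟩ := c.unip e
  rw [U, f_mul, f_mul] at h
  rcases B.f12_eq h with h | h
  · obtain ⟨a, rfl⟩ := eq_up B.two t1 one_ne_zero h.1
    obtain ⟨b, rfl⟩ := eq_up B.two t2 hb h.2
    exact ⟨a, b, rfl⟩
  · exact (not_anti B.two h.1).elim

end H20.L4.Q3E

namespace H20.L4.Bs.Fr

open Q3E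

variable {G F : Type*} [Group G] [Finite G] [Field F] [Fintype F] {B : Bs G F} (R : B.Fr)

theorem exists_e (hF : ∀ B' : Bs G F, B'.Fus) (h3 : Fintype.card F = 3)
    (hk : ∀ s, (R.at' 0 2).TZ 1 s → ∃ M : Subgroup G, (∀ c ∈ M, c * s = s * c) ∧
      (∀ c, c * s = s * c → ∀ m ∈ M, c * m * c⁻¹ ∈ M) ∧ (∀ y, y * s = s * y → y ^ 3 = 1 → y ∈ M) ∧
      9 ∣ Nat.card M ∧ ∀ j ∈ M, j * j = 1 → j ≠ 1 → ∀ y ∈ M, y * j = j * y → y ^ 4 = 1) :
    ∃ e e' : G, e ≠ 1 ∧ e' ∉ Subgroup.zpowers e ∧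
      ∀ y, y = e ∨ y = e' → y ^ 3 = 1 ∧ B.t * y * B.t⁻¹ = y⁻¹ ∧ y * R.tt 0 3 = R.tt 0 3 * y ∧
        (∀ a, y * R.x 0 1 a = R.x 0 1 a * y) ∧ ∀ a, y * R.x 2 3 a = R.x 2 3 a * y := by
  have three : (3 : F) = 0 := by exact_mod_cast h3 ▸ FiniteField.cast_card_eq_zero F
  have hp : ringChar F = 3 := (Nat.prime_dvd_prime_iff_eq (p_prime (F := F)) Nat.prime_three).1
    (ringChar.dvd (by exact_mod_cast three))
  have nat : ∀ a : F, ∃ n : ℕ, a = n := fun a => by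
    have := FiniteField.pow_card a
    rw [h3] at this
    rcases mul_eq_zero.1 (show a * ((a - 1) * (a - 2)) = 0 by linear_combination this + (a - a ^ 2) * three) with e | e
    · exact ⟨0, by simpa using e⟩
    · rcases mul_eq_zero.1 e with e | e
      exacts [⟨1, by simpa using sub_eq_zero.1 e⟩, ⟨2, by simpa using sub_eq_zero.1 e⟩]
  have U3 : ∀ a b, U B a b ^ 3 = 1 := fun a b => by rw [U_pow, Nat.cast_ofNat, three, zero_mul, zero_mul, U_zero]
  have span : ∀ {ε : F}, ε * ε = 1 → ∀ a b, ∃ i j : ℕ, U B a b = U B 1 ε ^ i * U B 1 (-ε) ^ j := fun {ε} hε a b => by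
    obtain ⟨i, hi⟩ := nat (2 * (a + ε * b))
    obtain ⟨j, hj⟩ := nat (2 * (a - ε * b))
    refine ⟨i, j, ?_⟩
    rw [U_pow, U_pow, U_mul, ← hi, ← hj]
    congr 1
    exacts [by linear_combination -a * three, by linear_combination -b * three - 4 * b * hε]
  obtain ⟨v, hv⟩ : ∃ v, v = R.tt 0 2 := ⟨_, rfl⟩
  have vv : v * v = 1 := hv ▸ R.tt_sq
  have v0 : (R.at' 0 2).t = v := hv ▸ R.at_t
  obtain ⟨tv, vσ, vU, v3⟩ : Commute B.t v ∧ Commute v B.σ ∧ (∀ a b, v * U B a b * v⁻¹ = U B (-a) (-b)) ∧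
      R.tt 0 3 = B.t * v := by
    rcases R.tt02 with ⟨e, e'⟩ | ⟨e, e'⟩ <;> rw [hv, e, e']
    · exact ⟨B.tu_comm, B.uσ_comm, u_U B, rfl⟩
    · exact ⟨(Commute.refl _).mul_right B.tu_comm, Commute.mul_left (Eq.symm B.C_σ) B.uσ_comm,
        fun a b => t_conj B (u_U B a b) (t_U B _ _), by rw [← mul_assoc, B.tt, one_mul]⟩
  have key : ∀ x (ε : F), ε * ε = 1 → (R.at' 0 2).TZ 1 (B.t * x) → IsConj B.t (x * v) → Commute B.t x → Commute v x →
      Commute x (U B 1 ε) → x * U B 1 (-ε) * x⁻¹ = (U B 1 (-ε))⁻¹ →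
      ∃ e, e ≠ 1 ∧ x * e * x⁻¹ = e⁻¹ ∧ Commute (x * v) e ∧ e ^ 3 = 1 ∧ B.t * e * B.t⁻¹ = e⁻¹ ∧
        e * R.tt 0 3 = R.tt 0 3 * e ∧ (∀ a, e * R.x 0 1 a = R.x 0 1 a * e) ∧ ∀ a, e * R.x 2 3 a = R.x 2 3 a * e :=
    fun x ε hε hs hc tx vx xy xy' => by
    obtain ⟨M, m1, m2, m3, m4, m5⟩ := hk _ hs
    obtain ⟨e, e1, e3, te, ve, xe, ey⟩ := core B.tt vv tv tx vx (U3 _ _) (U_ne B _) (t_U B _ _) xy
      (by rw [vU, U_inv]) (U3 _ _) (t_U B _ _) xy' m1 m2 m3 m4 m5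
      (fun g k c c' e => hs.no_p (by rw [Bs.C, v0]; exact c) c' (hp ▸ e)) fun g k c c' e => by
        obtain ⟨a, b, rfl⟩ := exists_U B c (hp ▸ e) (left_ne_zero_of_mul_eq_one hε) c'
        exact span hε a b
    have two : ∀ {a b c : G}, a * c * a⁻¹ = c⁻¹ → b * c * b⁻¹ = c⁻¹ → Commute (a * b) c := fun {a b c} h1 h2 =>
      mul_inv_eq_iff_eq_mul.1 (by
        rw [show a * b * c * (a * b)⁻¹ = a * (b * c * b⁻¹) * a⁻¹ by group, h2,
          show a * c⁻¹ * a⁻¹ = (a * c * a⁻¹)⁻¹ by group, h1, inv_inv])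
    obtain ⟨g, hg⟩ := B.exists_at hc
    have ey' : Commute e (U B 1 (-ε)) := by
      rcases (B.conj g).comm35 (Or.inl h3) (y := U B 1 (-ε)) (e := e) (a := B.t)
        (by rw [Bs.C, hg]; exact (two xy' (by rw [vU, U_inv])).symm) (by rw [Bs.C, hg]; exact (two xe ve).symm)
        (by rw [Bs.C, hg]; exact tx.mul_right tv) (h3 ▸ U3 _ _) (h3 ▸ e3) B.tt
        (by rw [(t_U B _ _).eq, mul_inv_cancel_right]) te with c | ⟨k, c⟩
      · exact c.symm
      · have c1 : Commute (U B 1 ε) (x * v) := hg ▸ c ▸ (((U_comm B _ _ _ _).pow_right k).mul_right ey.symm).pow_right 6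
        have c2 : Commute v (U B 1 ε) := by simpa using (xy.symm.inv_right.mul_right c1).symm
        have c3 := vU 1 ε
        have c4 := U3 1 ε
        rw [c2.eq, mul_inv_cancel_right, ← U_inv, eq_inv_iff_mul_eq_one] at c3
        rw [pow_succ, pow_two, c3, one_mul] at c4
        exact absurd c4 (U_ne B _)
    have eU : ∀ a b, Commute e (U B a b) := fun a b => by
      obtain ⟨i, j, h⟩ := span hε a b
      exact h ▸ (ey.pow_right i).mul_right (ey'.pow_right j)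
    refine ⟨e, e1, xe, two xe ve, e3, te, v3 ▸ (two te ve).symm, fun a => ?_, fun a => ?_⟩
    · simpa [U, upT_zero, R.x01] using (eU a 0).eq
    · obtain ⟨c, -, hc, -⟩ := R.f23
      simpa [U, upT_zero, Fr.x, hc] using (eU 0 (c * a)).eq
  obtain ⟨x, hx, z1, z2⟩ := R.tab3
  obtain ⟨tx, vx, xU⟩ : Commute B.t x ∧ Commute v x ∧ ∀ a b, x * U B a b * x⁻¹ = U B b a := by
    rcases hx with rfl | rfl
    · exact ⟨Eq.symm B.C_σ, vσ, σ_U B⟩
    · exact ⟨(Commute.refl _).mul_right (Eq.symm B.C_σ), tv.symm.mul_right vσ,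
        fun a b => t_conj B (σ_U B a b) (t_U B _ _)⟩
  have cls : ∀ {c}, (R.at' 0 2).TZ (-1) c → IsConj B.t c := fun {c} hc => by
    obtain ⟨a, b, e⟩ := ((R.at' 0 2).u_TZ).conj hc
    exact ((R.tt_isConj (i := 0) (j := 2)).trans (R.at_t ▸ (hF (R.at' 0 2)).u)).trans (isConj_iff.2 ⟨_, e⟩)
  have xv : ∀ a b, x * v * U B a b * (x * v)⁻¹ = U B (-b) (-a) := fun a b => by
    rw [show x * v * U B a b * (x * v)⁻¹ = x * (v * U B a b * v⁻¹) * x⁻¹ by group, vU, xU]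
  obtain ⟨e, e1, xe, -, he⟩ := key x 1 (one_mul 1) z2 (by rw [← vx.eq, ← v0]; exact cls z1.t_mul) tx vx
    (mul_inv_eq_iff_eq_mul.1 (xU 1 1)) (by rw [xU, U_inv, _root_.neg_neg])
  obtain ⟨e', e1', -, xe', he'⟩ := key (x * v) (-1) (by simp)
    (by rw [← mul_assoc, ← (tv.symm.mul_right vx).eq, ← v0]; exact z2.t_mul)
    (by rw [mul_assoc, vv, mul_one]; exact cls z1) (tx.mul_right tv) (vx.mul_right (Commute.refl v))
    (mul_inv_eq_iff_eq_mul.1 (by rw [xv, _root_.neg_neg])) (by rw [xv, U_inv, _root_.neg_neg])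
  refine ⟨e, e', e1, ?_, by rintro _ (rfl | rfl) <;> assumption⟩
  rintro ⟨k, rfl⟩
  rw [mul_assoc, vv, mul_one] at xe'
  have c : x * e ^ k * x⁻¹ = (e ^ k)⁻¹ := by rw [← conj_zpow, xe, _root_.inv_zpow]
  have c4 := he'.1
  rw [xe'.eq, mul_inv_cancel_right, eq_inv_iff_mul_eq_one] at c
  rw [pow_succ, pow_two, c, one_mul] at c4
  exact e1' c4

end H20.L4.Bs.Fr
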