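import Cfsg.Agent.Lib.L4Q.FrT

/-! L4Q package Chr: the characters of `H`; odd order subgroups normalized by `H`. -/

set_option autoImplicit false
set_option linter.unusedSectionVars false

open Matrix H24
open H52.FW (M2 wS dS Act)
open scoped MatrixGroups

namespace H20.L4.Chr

open Bs Bs.Fr

variable {G F : Type*} [Group G] [Finite G] [Field F] [Fintype F] {B : Bs G F} (R : B.Fr)
  {i j k : Fin 4}

theorem dS_mul {a b : F} (ha : a ≠ 0) (hb : b ≠ 0) : dS (a * b) (mul_ne_zero ha hb) = dS a ha * dS b hb := by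
  refine Subtype.ext ?_
  change !![a * b, 0; 0, (a * b)⁻¹] = !![a, 0; 0, a⁻¹] * !![b, 0; 0, b⁻¹]
  simp [mul_comm]

theorem dS_neg_one : dS (-1 : F) (neg_ne_zero.2 one_ne_zero) = -1 := by
  ext i j
  fin_cases i <;> fin_cases j <;> simp [dS, H64.SL2.mk, inv_neg]

theorem dS_inv {a : F} (ha : a ≠ 0) : dS a⁻¹ (inv_ne_zero ha) = (dS a ha)⁻¹ := by
  refine eq_inv_of_mul_eq_one_left (Subtype.ext ?_)
  change !![a⁻¹, 0; 0, a⁻¹⁻¹] * !![a, 0; 0, a⁻¹] = 1
  simp [ha, one_fin_two]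

/-- `dS a` of the root `(i, j)` acts on the root subgroup `(i, k)` as `c`. -/
def P (a c : F) : Prop := ∀ (ha : a ≠ 0) (i j k : Fin 4), i ≠ j → i ≠ k → j ≠ k → R.Ac (R.f i j (dS a ha)) i k c

theorem eqns_P : True := by
  have := @P.eq_1.{0, 0}
  trivial

theorem exists_P {a : F} (ha : a ≠ 0) : ∃ c, c ≠ 0 ∧ P R a c := by
  obtain ⟨c, c0, hc⟩ := R.exists_ac (R.dS_H (i := 0) (j := 1) (by decide) a ha) (i := 0) (j := 2) (by decide)
  refine ⟨c, c0, fun _ i j k hij hik hjk => ?_⟩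
  obtain ⟨p, rfl, rfl, rfl⟩ := (by decide : ∀ i j k : Fin 4, i ≠ j → i ≠ k → j ≠ k →
    ∃ p : Equiv.Perm (Fin 4), p 0 = i ∧ p 1 = j ∧ p 2 = k) i j k hij hik hjk
  obtain ⟨g, rfl⟩ := R.surj p
  rw [← R.conj_dS g (by decide)]
  exact hc.conj (by decide) g

variable {R}

theorem P.mul {a b c d : F} (ha : a ≠ 0) (hb : b ≠ 0) (h : P R a c) (h' : P R b d) : P R (a * b) (c * d) :=
  fun _ i j k hij hik hjk => by
    rw [dS_mul ha hb, map_mul]
    exact (h ha i j k hij hik hjk).mul (h' hb i j k hij hik hjk)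

theorem P.inv {a c : F} (ha : a ≠ 0) (h : P R a c) : P R a⁻¹ c⁻¹ := fun _ i j k hij hik hjk => by
  rw [dS_inv ha, map_inv]
  exact (h ha i j k hij hik hjk).inv

theorem P.uniq {a c d : F} (ha : a ≠ 0) (h : P R a c) (h' : P R a d) : c = d :=
  (h ha 0 1 2 (by decide) (by decide) (by decide)).unique (h' ha 0 1 2 (by decide) (by decide) (by decide))

theorem P_neg : P R (-1) (-1) := fun _ i j k hij hik hjk => by
  rw [dS_neg_one]
  exact R.ac_tt_row hij hik hjk

theorem star {h : G} (hh : h ∈ B.H) (hij : i ≠ j) (hik : i ≠ k) (hjk : j ≠ k) {a b c : F}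
    (h1 : R.Ac h i j a) (h2 : R.Ac h j k b) (p : P R a c) : R.Ac h i k (b * c) := by
  have h3 := h2.conj hjk ⟨_, R.refl_NV hij⟩
  rw [R.refl_π hij, Equiv.swap_apply_right, Equiv.swap_apply_of_ne_of_ne hik.symm hjk.symm] at h3
  have h4 := h3.mul (p h1.ne_zero i j k hij hik hjk)
  rwa [h1.refl hh hij, inv_mul_cancel_right] at h4

theorem P_self {a : F} (ha : a ≠ 0) : P R a a := by
  obtain ⟨c, c0, p⟩ := exists_P R ha
  obtain ⟨d, -, q⟩ := exists_P R c0
  have e1 : c = 1 * d := (p ha 0 3 2 (by decide) (by decide) (by decide)).unique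
    (star (j := 1) (R.dS_H (by decide) a ha) (by decide) (by decide) (by decide)
      (p ha 0 3 1 (by decide) (by decide) (by decide))
      (R.ac_disj (by decide) (by decide) (by decide) (by decide) (by decide) (by decide) _) q)
  rw [one_mul] at e1
  subst e1
  have hH := R.dS_H (i := 1) (j := 2) (by decide) a ha
  have h1 : R.Ac (R.f 1 2 (dS a ha)) 2 0 c⁻¹ := by
    rw [R.dS_symm (by decide)]
    exact p.inv ha _ 2 1 0 (by decide) (by decide) (by decide)
  have e2 := (h1.opp hH (by decide)).unique (star (j := 1) hH (by decide) (by decide) (by decide)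
    ((p ha 1 2 0 (by decide) (by decide) (by decide)).opp hH (by decide))
    (R.ac_dS_same (by decide) a ha) (q.inv c0))
  rw [inv_inv, eq_mul_inv_iff_mul_eq₀ c0, ← sq, sq_eq_sq_iff_eq_or_eq_neg] at e2
  rcases e2 with rfl | rfl
  · exact p
  · have := (P_neg.mul (neg_ne_zero.2 one_ne_zero) ha p)
    rw [neg_one_mul] at this
    have e := this.uniq c0 q
    exact absurd (mul_eq_zero.1 (show 2 * a = 0 by linear_combination e)) (not_or.2 ⟨B.two, ha⟩)

end H20.L4.Chr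

namespace H20.L4.Bs.Fr

variable {G F : Type*} [Group G] [Finite G] [Field F] [Fintype F] {B : Bs G F} (R : B.Fr)
  {i j k : Fin 4}

theorem ac_dS (hij : i ≠ j) (hik : i ≠ k) (hjk : j ≠ k) (a : F) (ha : a ≠ 0) :
    R.Ac (R.f i j (dS a ha)) i k a := Chr.P_self ha ha i j k hij hik hjk
theorem ac_dS' (hij : i ≠ j) (hik : i ≠ k) (hjk : j ≠ k) (a : F) (ha : a ≠ 0) :
    R.Ac (R.f i j (dS a ha)) j k a⁻¹ := by
  rw [R.dS_symm hij.symm]
  exact R.ac_dS hij.symm hjk hik _ _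
theorem ac_trans {h : G} (hh : h ∈ B.H) (hij : i ≠ j) (hik : i ≠ k) (hjk : j ≠ k) {a b : F}
    (h1 : R.Ac h i j a) (h2 : R.Ac h j k b) : R.Ac h i k (a * b) :=
  mul_comm b a ▸ Chr.star hh hij hik hjk h1 h2 (Chr.P_self h1.ne_zero)
theorem exists_H (hij : i ≠ j) (hik : i ≠ k) (hjk : j ≠ k) {a b : F} (ha : a ≠ 0) (hb : b ≠ 0) :
    ∃ h ∈ B.H, R.Ac h i j a ∧ R.Ac h j k b := by
  obtain ⟨l, h1, h2, h3⟩ := (by decide : ∀ i j k : Fin 4, ∃ l, i ≠ l ∧ j ≠ l ∧ k ≠ l) i j k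
  have hH := R.dS_H h3 _ (inv_ne_zero hb)
  refine ⟨_, mul_mem (R.dS_H h1 a ha) hH, ?_, ?_⟩
  · simpa using (R.ac_dS h1 hij h2.symm a ha).mul (R.ac_disj h3 hij hik h1 hjk h2 _)
  · simpa using (R.ac_disj h1 hjk hij.symm h2 hik.symm h3 _).mul
      ((R.ac_dS h3 hjk.symm h2.symm _ _).opp hH hjk.symm)
theorem exists_z {a : F} (ha : a ≠ 0) :
    ∃ z ∈ B.H, R.Ac z 0 1 1 ∧ R.Ac z 1 2 1 ∧ R.Ac z 2 3 (a ^ 4) := by
  have h1 := R.dS_H (i := 0) (j := 1) (by decide) a ha
  have h2 := R.dS_H (i := 1) (j := 2) (by decide) _ (pow_ne_zero 2 ha)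
  have h3 := R.dS_H (i := 2) (j := 3) (by decide) _ (pow_ne_zero 3 ha)
  refine ⟨_, mul_mem (mul_mem h1 h2) h3, ?_, ?_, ?_⟩
  · convert ((R.ac_dS_same (by decide) a ha).mul ((R.ac_dS (k := 0) (by decide) (by decide) (by decide) _ _).opp h2
      (by decide))).mul
      (R.ac_disj (i := 2) (j := 3) (by decide) (by decide) (by decide) (by decide) (by decide) (by decide) _) using 1
    field_simp
  · convert ((R.ac_dS' (i := 0) (by decide) (by decide) (by decide) a ha).mul (R.ac_dS_same (by decide) _ _)).mul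
      ((R.ac_dS (k := 1) (by decide) (by decide) (by decide) _ _).opp h3 (by decide)) using 1
    field_simp
  · convert ((R.ac_disj (i := 0) (j := 1) (k := 2) (l := 3) (by decide) (by decide) (by decide) (by decide)
      (by decide) (by decide) _).mul (R.ac_dS' (i := 1) (by decide) (by decide) (by decide) _ _)).mul
      (R.ac_dS_same (by decide) _ _) using 1
    field_simp

end H20.L4.Bs.Fr
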