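import Cfsg.Agent.Lib.L4Q.Inv
import Cfsg.Agent.Lib.L4Q.Chr

/-! L4Q package RG: commutation of the root subgroups. -/

set_option autoImplicit false
set_option linter.unusedSectionVars false

open Matrix H24
open H52.FW (M2 wS dS Act)
open scoped MatrixGroups

namespace H20.L4.RG

open Subgroup

variable {G : Type*} [Group G]

theorem cm_fix {t g q x : G} (h1 : g * t = t * g) (h2 : x * t = t * x) (e : g * q * g⁻¹ = q * x) :
    q * t * q⁻¹ * t⁻¹ * g = g * (q * t * q⁻¹ * t⁻¹) := by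
  have e1 : g * t * g⁻¹ = t := by rw [h1]; simp
  have e2 : x * t * x⁻¹ = t := by rw [h2]; simp
  refine (mul_inv_eq_iff_eq_mul.1 ?_).symm
  calc g * (q * t * q⁻¹ * t⁻¹) * g⁻¹
      = g * q * g⁻¹ * (g * t * g⁻¹) * (g * q * g⁻¹)⁻¹ * (g * t * g⁻¹)⁻¹ := by group
    _ = q * (x * t * x⁻¹) * q⁻¹ * t⁻¹ := by rw [e, e1]; group
    _ = _ := by rw [e2]

theorem cm_inv {t q : G} (h : t * t = 1) : t * (q * t * q⁻¹ * t⁻¹) * t⁻¹ = (q * t * q⁻¹ * t⁻¹)⁻¹ := by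
  have e : t⁻¹ = t := inv_eq_of_mul_eq_one_right h
  calc _ = t * q * t * q⁻¹ * (t * t)⁻¹ := by group
    _ = t * q * t⁻¹ * q⁻¹ := by rw [h, e]; simp
    _ = _ := by group

/-- a `p`-group normalizing `Q` and centralizing `t` fixes another `Q`-conjugate of `t` -/
theorem exists_fix [Finite G] {p : ℕ} [Fact p.Prime] {Q A : Subgroup G} (hQ : IsPGroup p Q) (hA : IsPGroup p A)
    (n : A ≤ normalizer (Q : Set G)) {t : G} (c : ∀ a ∈ A, a * t = t * a) {y : G} (hy : y ∈ Q) (ny : y * t ≠ t * y) :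
    ∃ q ∈ Q, q * t ≠ t * q ∧ ∀ a ∈ A, q * t * q⁻¹ * t⁻¹ * a = a * (q * t * q⁻¹ * t⁻¹) := by
  have := (hQ.to_sup_of_normal_left' hA n).isNilpotent
  obtain ⟨⟨g, hg⟩, h1, h2⟩ := SetLike.exists_of_lt (Group.normalizerCondition_of_isNilpotent
    ((centralizer {t}).subgroupOf (Q ⊔ A)) (lt_top_iff_ne_top.2 fun e =>
      ny (mem_centralizer_singleton_iff.1 (e.ge (mem_top (⟨y, mem_sup_left hy⟩ : ↥(Q ⊔ A)))))))
  obtain ⟨q, hq, a, ha, rfl⟩ := (Set.ext_iff.1 (coe_mul_of_right_le_normalizer_left Q A n) g).1 hg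
  beta_reduce at h1 h2
  have e : q * a * t * (q * a)⁻¹ = q * t * q⁻¹ := by rw [mul_assoc q, c a ha]; group
  refine ⟨q, hq, fun e => h2 (mem_centralizer_singleton_iff.2 ?_), fun b hb => ?_⟩
  · change q * a * t = t * (q * a)
    rw [mul_assoc, c a ha, ← mul_assoc, e, mul_assoc]
  · have k : (q * a)⁻¹ * b * (q * a)⁻¹⁻¹ * t = t * ((q * a)⁻¹ * b * (q * a)⁻¹⁻¹) := mem_centralizer_singleton_iff.1
      ((mem_normalizer_iff.1 (inv_mem h1) ⟨b, mem_sup_right hb⟩).1 (mem_centralizer_singleton_iff.2 (c b hb)))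
    have k' : Commute b (q * a * t * (q * a)⁻¹) := by
      calc b * (q * a * t * (q * a)⁻¹) = q * a * ((q * a)⁻¹ * b * (q * a)⁻¹⁻¹ * t) * (q * a)⁻¹ := by group
        _ = _ := by rw [k]; group
    exact (((e ▸ k').mul_right (show Commute b t from c b hb).inv_right).symm :)

theorem perm3 : ∀ i j k : Fin 4, i ≠ j → i ≠ k → j ≠ k → ∃ p : Equiv.Perm (Fin 4), p 0 = i ∧ p 1 = j ∧ p 2 = k := by
  decide

theorem third : ∀ i j : Fin 4, ∃ k, i ≠ k ∧ j ≠ k := by decide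

end H20.L4.RG

namespace H20.L4.Bs.Fr

open RG

variable {G F : Type*} [Group G] [Finite G] [Field F] [Fintype F] {B : Bs G F} (R : B.Fr) {Q : Subgroup G}

namespace RG

/-- The elements of `Q` commuting with `X₂₃`. -/
def Q1 (Q : Subgroup G) : Subgroup G := Q ⊓ Subgroup.centralizer (R.X 2 3 : Set G)

theorem mem_Q1 {y : G} : y ∈ Q1 R Q ↔ y ∈ Q ∧ ∀ a, y * R.x 2 3 a = R.x 2 3 a * y :=
  ⟨fun h => ⟨h.1, fun a => (h.2 _ ⟨a, rfl⟩).symm⟩, fun h => ⟨h.1, by rintro _ ⟨a, rfl⟩; exact (h.2 a).symm⟩⟩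

theorem force_eq : True := by
  have := @Q1.eq_1.{0, 0}
  trivial

variable {R}

theorem H_Q (hQ : R.KL Q) {h y : G} (hh : h ∈ B.H) (hy : y ∈ Q) : h * y * h⁻¹ ∈ Q :=
  let ⟨_, _, e⟩ := R.exists_ac hh (show (0 : Fin 4) ≠ 1 by decide)
  hQ.nrm h (fun a => ⟨_, e a⟩) y hy

theorem H_Q1 (hQ : R.KL Q) {h y : G} (hh : h ∈ B.H) (hy : y ∈ Q1 R Q) : h * y * h⁻¹ ∈ Q1 R Q := by
  obtain ⟨c, -, e⟩ := R.exists_ac (inv_mem hh) (show (2 : Fin 4) ≠ 3 by decide)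
  refine (mem_Q1 R).2 ⟨H_Q hQ hh hy.1, fun a => ?_⟩
  calc h * y * h⁻¹ * R.x 2 3 a = h * (y * (h⁻¹ * R.x 2 3 a * h⁻¹⁻¹)) * h⁻¹ := by group
    _ = h * ((h⁻¹ * R.x 2 3 a * h⁻¹⁻¹) * y) * h⁻¹ := by rw [e, ((mem_Q1 R).1 hy).2]
    _ = _ := by group

theorem odd_of_le (hQ : R.KL Q) {W : Subgroup G} (h : W ≤ Q) : Odd (Nat.card W) := by
  have : Fact (ringChar F).Prime := ⟨p_prime⟩
  obtain ⟨n, e⟩ := IsPGroup.iff_card.1 (hQ.pgrp.to_le h)
  exact e ▸ B.p_odd.pow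

theorem X_C {x : G} (h : x ∈ R.X 0 1) : x * B.t = B.t * x := by
  obtain ⟨a, rfl⟩ := h
  exact R.x01 a ▸ (B.in_f1 _).C

theorem key_of (hQ : R.KL Q) {i j : Fin 4} (m : i.1 < 2 ↔ ¬ j.1 < 2) {c : F} (hc : c ≠ 0)
    (h : R.x i j c ∈ Q1 R Q) : R.Key := by
  have ij : i ≠ j := fun e => by subst e; exact iff_not_self m
  have all : ∀ d, R.x i j d ∈ Q1 R Q := fun d => by
    by_cases hd : d = 0
    · rw [hd, R.x_zero]; exact one_mem _
    obtain ⟨k, ik, jk⟩ := third i j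
    obtain ⟨g, hg, e, -⟩ := R.exists_H ij ik jk (div_ne_zero hd hc) one_ne_zero
    have := H_Q1 hQ hg h
    rwa [e, div_mul_cancel₀ d hc] at this
  exact ⟨i, j, m, fun a b => (hQ.cen _ (all b).1 a).symm, fun a b => (((mem_Q1 R).1 (all b)).2 a).symm⟩

theorem coords (hQ : R.KL Q) {k : Fin 4} (hk : k = 2 ∨ k = 3) : ∃ i j m n : Fin 4,
    (i.1 < 2 ↔ ¬ j.1 < 2) ∧ (m.1 < 2 ↔ ¬ n.1 < 2) ∧ m ≠ i ∧ m ≠ j ∧ n ≠ i ∧ n ≠ j ∧
      ∀ y ∈ Q1 R Q, y * R.tt 0 k = R.tt 0 k * y → B.t * y * B.t⁻¹ = y⁻¹ → ∃ a b, y = R.x i j a * R.x m n b := by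
  have hv : R.tt 0 k ∈ B.H := R.tt_H (by rcases hk with rfl | rfl <;> decide)
  obtain ⟨i, j, m, n, h1, h2, h3, h4, h5, h6, h⟩ := R.inv_odd hk (W := Q1 R Q ⊓ Subgroup.centralizer {R.tt 0 k})
    (fun y hy => Subgroup.mem_centralizer_singleton_iff.1 hy.2) (odd_of_le hQ (inf_le_left.trans inf_le_left))
    fun g hg y hy => ⟨H_Q1 hQ hg hy.1, by
      have : g ∈ Subgroup.centralizer {R.tt 0 k} := Subgroup.mem_centralizer_singleton_iff.2 (B.H_comm hg hv)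
      exact (Subgroup.centralizer _).mul_mem (mul_mem this hy.2) (inv_mem this)⟩
  exact ⟨i, j, m, n, h1, h2, h3, h4, h5, h6, fun y hy e =>
    h y ⟨hy, Subgroup.mem_centralizer_singleton_iff.2 e⟩⟩

theorem t_inv {k l : Fin 4} (m : k.1 < 2 ↔ ¬ l.1 < 2) : R.Ac B.t k l (-1) := by
  have e0 := R.tt01
  have e1 : R.tt 1 0 = B.t := (R.tt_symm (by decide)).trans e0
  rcases (by decide : ∀ k l : Fin 4, (k.1 < 2 ↔ ¬ l.1 < 2) → (k = 0 ∧ 0 ≠ l ∧ 1 ≠ l) ∨ (k = 1 ∧ 0 ≠ l ∧ 1 ≠ l) ∨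
    (l = 0 ∧ 0 ≠ k ∧ 1 ≠ k) ∨ (l = 1 ∧ 0 ≠ k ∧ 1 ≠ k)) k l m with ⟨rfl, a, b⟩ | ⟨rfl, a, b⟩ | ⟨rfl, a, b⟩ | ⟨rfl, a, b⟩
  exacts [e0 ▸ R.ac_tt_row (by decide) a b, e1 ▸ R.ac_tt_row (by decide) b a,
    e0 ▸ R.ac_tt_col (by decide) a b, e1 ▸ R.ac_tt_col (by decide) b a]

theorem com (hQ : R.KL Q) {k l m n : Fin 4} (h1 : k.1 < 2 ↔ ¬ l.1 < 2) (h2 : m.1 < 2 ↔ ¬ n.1 < 2)
    (c1 : R.Cm 0 1 k l) (c2 : R.Cm 0 1 m n) (p : Equiv.Perm (Fin 4)) (a b : F) : ∃ c,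
    R.x (p k) (p l) a * R.x (p m) (p n) b * (R.x (p k) (p l) a)⁻¹ * (R.x (p m) (p n) b)⁻¹ = R.x (p 0) (p 1) c := by
  have mem : ∀ {k l : Fin 4}, (k.1 < 2 ↔ ¬ l.1 < 2) → R.Cm 0 1 k l → ∀ a, R.x k l a ∈ Q := fun h c a =>
    hQ.inv _ (fun b => (c b a).symm) (R.x_pow a) (by rw [t_inv h a, neg_one_mul, R.x_neg])
  obtain ⟨g, rfl⟩ := R.surj p
  obtain ⟨c, hc, e⟩ := R.conj_x g (show k ≠ l from fun e => by subst e; exact iff_not_self h1)
  obtain ⟨d, hd, e'⟩ := R.conj_x g (show m ≠ n from fun e => by subst e; exact iff_not_self h2)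
  obtain ⟨f, -, e''⟩ := R.conj_x g (show (0 : Fin 4) ≠ 1 by decide)
  obtain ⟨s, hs⟩ := hQ.com _ (mem h1 c1 (c⁻¹ * a)) _ (mem h2 c2 (d⁻¹ * b))
  refine ⟨f * s, ?_⟩
  rw [← e'', ← hs, ← mul_inv_cancel_left₀ hc a, ← mul_inv_cancel_left₀ hd b, ← e, ← e',
    mul_inv_cancel_left₀ hc, mul_inv_cancel_left₀ hd]
  group

theorem not_C (hQ : R.KL Q) (C : ∀ i j k, i ≠ j → j ≠ k → i ≠ k → R.Cm i j j k) : False := by
  let E : Subgroup G :=
    { carrier := {g | ∃ a b, g = R.x 2 0 a * R.x 1 2 b}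
      one_mem' := ⟨0, 0, by rw [R.x_zero, R.x_zero, mul_one]⟩
      mul_mem' := by
        rintro _ _ ⟨a, b, rfl⟩ ⟨a', b', rfl⟩
        refine ⟨a + a', b + b', ?_⟩
        rw [R.x_add, R.x_add, mul_assoc, ← mul_assoc (R.x 1 2 b), C 1 2 0 (by decide) (by decide) (by decide)]
        simp only [mul_assoc]
      inv_mem' := by
        rintro _ ⟨a, b, rfl⟩
        exact ⟨-a, -b, by rw [← C 1 2 0 (by decide) (by decide) (by decide), R.x_neg, R.x_neg, _root_.mul_inv_rev]⟩ }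
  have n1 : ∀ s, R.x 2 3 s ∈ Subgroup.normalizer (E : Set G) := fun s => Subgroup.mem_normalizer_fintype <| by
    rintro _ ⟨a, b, rfl⟩
    obtain ⟨p, p0, p1, p2⟩ := perm3 1 2 3 (by decide) (by decide) (by decide)
    have p3 : p 3 = 0 := by revert p0 p1 p2 p; decide
    obtain ⟨c, e⟩ := com hQ (k := 1) (l := 2) (m := 1) (n := 3) (by decide) (by decide)
      (C _ _ _ (by decide) (by decide) (by decide)) (C _ _ _ (by decide) (by decide) (by decide)) p s a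
    rw [p0, p1, p2, p3] at e
    refine ⟨a, c + b, ?_⟩
    rw [R.x_add, ← mul_assoc (R.x 2 0 a), ← C 1 2 0 (by decide) (by decide) (by decide) c a, ← e, ← conj_mul,
      ← C 1 2 3 (by decide) (by decide) (by decide) b s]
    group
  have n2 : ∀ s, R.x 3 2 s ∈ Subgroup.normalizer (E : Set G) := fun s => Subgroup.mem_normalizer_fintype <| by
    rintro _ ⟨a, b, rfl⟩
    obtain ⟨p, p0, p1, p2⟩ := perm3 2 0 3 (by decide) (by decide) (by decide)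
    have p3 : p 3 = 1 := by revert p0 p1 p2 p; decide
    obtain ⟨c, e⟩ := com hQ (k := 2) (l := 0) (m := 3) (n := 0) (by decide) (by decide)
      (C _ _ _ (by decide) (by decide) (by decide)).symm (C _ _ _ (by decide) (by decide) (by decide)).symm p s b
    rw [p0, p2, p3, p1] at e
    refine ⟨a + c, b, ?_⟩
    rw [R.x_add, ← e, ← mul_assoc (R.x 3 2 s), C 3 2 0 (by decide) (by decide) (by decide)]
    group
  obtain ⟨d, hd, lo⟩ := R.lo (show (2 : Fin 4) ≠ 3 by decide)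
  have n := mem_of_up_lo (R.f 2 3) n1 (fun a => lo a ▸ n2 _) (wS F)
  obtain ⟨c, hc, e⟩ := R.conj_x ⟨_, R.refl_NV (show (2 : Fin 4) ≠ 3 by decide)⟩ (show (2 : Fin 4) ≠ 0 by decide)
  obtain ⟨a, b, e'⟩ := (Subgroup.mem_normalizer_iff.1 n (R.x 2 0 1)).1 ⟨1, 0, by rw [R.x_zero, mul_one]⟩
  rw [R.refl_π (by decide), show Equiv.swap (2 : Fin 4) 3 2 = 3 by decide, show Equiv.swap (2 : Fin 4) 3 0 = 0 by decide] at e
  have e1 : R.x 3 0 c = R.x 2 0 a * R.x 1 2 b := by rw [← e', e, mul_one]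
  have a1 := R.ac_tt_same (show (3 : Fin 4) ≠ 0 by decide) c
  have a3 := R.ac_tt_col (i := 0) (j := 3) (k := 2) (by decide) (by decide) (by decide) a
  have a4 := R.ac_tt_same (show (1 : Fin 4) ≠ 2 by decide) b
  rw [R.tt_symm (show (3 : Fin 4) ≠ 0 by decide), one_mul, e1, ← conj_mul, a3,
    R.tt_compl (i := 0) (j := 3) (k := 1) (l := 2) (by decide) (by decide) (by decide) (by decide) (by decide)
      (by decide), a4, one_mul, mul_left_inj] at a1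
  have a0 : a = 0 := (mul_eq_zero.1 (by linear_combination -R.x_inj a1 : 2 * a = 0)).resolve_left B.two
  rw [a0, R.x_zero, one_mul] at e1
  exact hc (R.x_indep (by decide) (by decide) (by decide) (by decide) (by decide) (by decide) e1).1

end RG

open RG

theorem key_big (hQ : R.KL Q) (h3 : Fintype.card F ≠ 3) (hy : ∃ y ∈ Q, ¬ B.C y) : R.Key := by
  have : Fact (ringChar F).Prime := ⟨p_prime⟩
  obtain ⟨y, hy, ny⟩ := hy
  have tH := B.t_H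
  have cmQ : ∀ q ∈ Q1 R Q, q * B.t * q⁻¹ * B.t⁻¹ ∈ Q1 R Q := fun q hq => by
    simpa only [mul_assoc] using mul_mem hq (H_Q1 hQ tH (inv_mem hq))
  obtain ⟨q, hq, nq, cq⟩ := exists_fix hQ.pgrp (A := R.X 2 3)
    (by rintro ⟨_, a, rfl⟩; exact ⟨1, Subtype.ext (by simpa using R.x_pow a)⟩)
    (by
      rintro _ ⟨a, rfl⟩
      exact Subgroup.mem_normalizer_fintype (hQ.nrm _ fun b => ⟨b, by
        rw [← R.Cm_disj (by decide) (by decide) (by decide) (by decide) (by decide) (by decide) b a]; simp⟩))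
    (by
      rintro _ ⟨a, rfl⟩
      have := R.ac_disj (i := 0) (j := 1) (k := 2) (l := 3) (by decide) (by decide) (by decide) (by decide)
        (by decide) (by decide) (-1) a
      rw [one_mul, mul_inv_eq_iff_eq_mul] at this
      exact R.tt01 ▸ this.symm) hy ny
  set z := q * B.t * q⁻¹ * B.t⁻¹ with hz
  have zQ : z ∈ Q1 R Q := (mem_Q1 R).2 ⟨by simpa only [hz, mul_assoc] using mul_mem hq (H_Q hQ tH (inv_mem hq)),
    fun a => cq _ ⟨a, rfl⟩⟩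
  have zi : B.t * z * B.t⁻¹ = z⁻¹ := cm_inv B.tt
  have nz : z * B.t ≠ B.t * z := fun e => nq <| by
    have e2 : z ^ 2 = 1 := by rw [pow_two, ← eq_inv_iff_mul_eq_one, ← zi, ← e]; simp
    have := (odd_of_le hQ le_rfl).of_dvd_nat (Q.orderOf_dvd_natCard zQ.1)
    have : z = 1 := orderOf_eq_one_iff.1 (Nat.eq_one_of_dvd_coprimes (Nat.coprime_two_right.2 this) dvd_rfl
      (orderOf_dvd_of_pow_eq_one e2))
    rwa [hz, mul_inv_eq_one, mul_inv_eq_iff_eq_mul] at this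
  have vH : ∀ k : Fin 4, 0 ≠ k → R.tt 0 k ∈ B.H := fun k => R.tt_H
  obtain ⟨k, hk, w, wQ, nw, cw⟩ : ∃ k : Fin 4, (k = 2 ∨ k = 3) ∧ ∃ w ∈ Q1 R Q, w * B.t ≠ B.t * w ∧
      ∃ x ∈ R.X 0 1, R.tt 0 k * w * (R.tt 0 k)⁻¹ = w * x := by
    have z' := H_Q1 hQ (vH 2 (by decide)) zQ
    by_cases c : B.C (z * (R.tt 0 2 * z * (R.tt 0 2)⁻¹))
    · refine ⟨3, Or.inr rfl, z, zQ, nz, _, hQ.fix _ (mul_mem zQ z').1 c, ?_⟩
      rw [← R.tt_mul (i := 0) (j := 1) (k := 2) (by decide) (by decide) (by decide) (by decide) (by decide)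
        (by decide), R.tt01]
      calc _ = B.t * z⁻¹ * B.t⁻¹ * (B.t * (z * (R.tt 0 2 * z * (R.tt 0 2)⁻¹)) * B.t⁻¹) := by group
        _ = _ := by rw [← c, mul_inv_cancel_right, ← conj_inv, zi, inv_inv]
    · refine ⟨2, Or.inl rfl, _, mul_mem zQ z', c, _, hQ.com _ (inv_mem z'.1) _ (inv_mem zQ.1), ?_⟩
      have e : R.tt 0 2 * (R.tt 0 2 * z * (R.tt 0 2)⁻¹) * (R.tt 0 2)⁻¹ = z := by
        calc _ = R.tt 0 2 * R.tt 0 2 * z * (R.tt 0 2 * R.tt 0 2)⁻¹ := by group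
          _ = z := by rw [R.tt_sq]; simp
      rw [← conj_mul, e]
      group
  obtain ⟨x, hx, e⟩ := cw
  obtain ⟨i, j, m, n, h1, h2, h3', h4, h5, h6, h⟩ := coords hQ hk
  obtain ⟨a, b, ey⟩ := h _ (cmQ w wQ)
    (cm_fix (B.H_comm (vH k (by rcases hk with rfl | rfl <;> decide)) tH) (X_C hx) e) (cm_inv B.tt)
  have yQ := ey ▸ cmQ w wQ
  have ij : i ≠ j := fun e => by subst e; exact iff_not_self h1
  have mn : m ≠ n := fun e => by subst e; exact iff_not_self h2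
  obtain ⟨s, s0, s1⟩ : ∃ s : F, s ≠ 0 ∧ s ^ 2 - 1 ≠ 0 := by
    classical
    have o := B.odd
    have := Fintype.one_lt_card (α := F)
    obtain ⟨s, -, hs⟩ := Finset.exists_mem_notMem_of_card_lt_card (s := ({0, 1, -1} : Finset F)) (t := Finset.univ)
      (Finset.card_le_three.trans_lt (by rw [Finset.card_univ]; obtain ⟨r, hr⟩ := o; omega))
    simp only [Finset.mem_insert, Finset.mem_singleton, not_or] at hs
    exact ⟨s, hs.1, fun e => (mul_self_eq_one_iff.1 (by linear_combination e)).elim hs.2.1 hs.2.2⟩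
  have main : ∀ {i j m n : Fin 4} {a b : F}, (i.1 < 2 ↔ ¬ j.1 < 2) → i ≠ j → m ≠ n → m ≠ i → m ≠ j → n ≠ i →
      n ≠ j → a ≠ 0 → R.x i j a * R.x m n b ∈ Q1 R Q → R.Key := fun {i j m n a b} h1 ij mn h3 h4 h5 h6 ha hy => by
    have := mul_mem (H_Q1 hQ (R.dS_H ij s s0) hy) (inv_mem hy)
    rw [← conj_mul, R.ac_dS_same ij, R.ac_disj ij mn h3 h4 h5 h6, one_mul, _root_.mul_inv_rev,
      mul_assoc, mul_inv_cancel_left, ← R.x_neg, ← R.x_add] at this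
    exact key_of hQ h1 (by rw [← sub_eq_add_neg, ← sub_one_mul]; exact mul_ne_zero s1 ha) this
  by_cases ha : a = 0
  · refine main h2 mn ij h3'.symm h5.symm h4.symm h6.symm (fun hb => nw ?_)
      (R.Cm_disj ij mn h3' h4 h5 h6 a b ▸ yQ)
    rwa [ha, hb, R.x_zero, R.x_zero, mul_one, mul_inv_eq_one, mul_inv_eq_iff_eq_mul] at ey
  · exact main h1 ij mn h3' h4 h5 h6 ha yQ

theorem key_three (hQ : R.KL Q) (h3 : Fintype.card F = 3) {k : Fin 4} (hk : k = 2 ∨ k = 3) {e e' : G}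
    (e1 : e ≠ 1) (e2 : e' ∉ Subgroup.zpowers e)
    (h : ∀ y, y = e ∨ y = e' → y ^ 3 = 1 ∧ B.t * y * B.t⁻¹ = y⁻¹ ∧ y * R.tt 0 k = R.tt 0 k * y ∧
      (∀ a, y * R.x 0 1 a = R.x 0 1 a * y) ∧ ∀ a, y * R.x 2 3 a = R.x 2 3 a * y) : R.Key := by
  have p3 : ringChar F = 3 := (Nat.prime_dvd_prime_iff_eq p_prime Nat.prime_three).1
    ((ringChar.spec F 3).1 (h3 ▸ FiniteField.cast_card_eq_zero F))
  obtain ⟨i, j, m, n, h1, h2, h3', h4, h5, h6, hc⟩ := coords hQ hk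
  have ij : i ≠ j := fun e => by subst e; exact iff_not_self h1
  have mn : m ≠ n := fun e => by subst e; exact iff_not_self h2
  have k : ∀ y, y = e ∨ y = e' → y ∈ Q1 R Q ∧ ∃ a b, y = R.x i j a * R.x m n b := fun y hy => by
    obtain ⟨a1, a2, a3, a4, a5⟩ := h y hy
    have := (mem_Q1 R).2 ⟨hQ.inv y a4 (p3 ▸ a1) a2, a5⟩
    exact ⟨this, hc y this a3 a2⟩
  obtain ⟨m1, a, b, rfl⟩ := k e (Or.inl rfl)
  obtain ⟨m2, a', b', rfl⟩ := k e' (Or.inr rfl)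
  have cm := R.Cm_disj ij mn h3' h4 h5 h6
  by_cases hb : b = 0
  · rw [hb, R.x_zero, mul_one] at e1 m1
    exact key_of hQ h1 (fun ha => e1 (by rw [ha, R.x_zero])) m1
  have f1 := FiniteField.pow_card b'
  have f2 := FiniteField.pow_card_sub_one_eq_one b hb
  rw [h3] at f1 f2
  rcases mul_eq_zero.1 (by linear_combination f1 - b' * f2 : b' * ((b' - b) * (b' + b)) = 0) with c | c
  · rw [c, R.x_zero, mul_one] at e2 m2
    exact key_of hQ h1 (fun ha => e2 (by rw [ha, R.x_zero]; exact one_mem _)) m2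
  rcases mul_eq_zero.1 c with c | c
  · obtain rfl := sub_eq_zero.1 c
    have := mul_mem m2 (inv_mem m1)
    rw [_root_.mul_inv_rev, mul_assoc, mul_inv_cancel_left, ← R.x_neg, ← R.x_add] at this
    exact key_of hQ h1 (fun ha => e2 (by rw [add_neg_eq_zero.1 ha]; exact Subgroup.mem_zpowers _)) this
  · obtain rfl := add_eq_zero_iff_eq_neg.1 c
    have := mul_mem m2 m1
    rw [cm a b, R.x_neg, mul_assoc, inv_mul_cancel_left, ← R.x_add] at this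
    refine key_of hQ h1 (fun ha => e2 ?_) this
    rw [add_eq_zero_iff_eq_neg.1 ha, cm (-a), R.x_neg, R.x_neg, ← _root_.mul_inv_rev]
    exact inv_mem (Subgroup.mem_zpowers _)

theorem rel_of_key (hQ : R.KL Q) (hK : R.Key) : R.Rel := by
  have mv : ∀ {i j k : Fin 4}, i ≠ j → i ≠ k → j ≠ k → ∀ {i' j' k' : Fin 4}, i' ≠ j' → i' ≠ k' → j' ≠ k' →
      ∃ p : Equiv.Perm (Fin 4), p i = i' ∧ p j = j' ∧ p k = k' := fun a b c _ _ _ a' b' c' => by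
    obtain ⟨p, rfl, rfl, rfl⟩ := perm3 _ _ _ a b c
    obtain ⟨q, rfl, rfl, rfl⟩ := perm3 _ _ _ a' b' c'
    exact ⟨q * p⁻¹, by simp, by simp, by simp⟩
  have nC : ∀ i j k, i ≠ j → j ≠ k → i ≠ k → ¬ R.Cm i j j k := fun i j k a b c h =>
    not_C hQ fun i' j' k' a' b' c' => by
      obtain ⟨p, rfl, rfl, rfl⟩ := mv a c b a' c' b'
      exact R.Cm_perm p a b h
  have hA : ∀ i j k, i ≠ j → i ≠ k → j ≠ k → R.Cm i j i k → ∀ i j k, i ≠ j → i ≠ k → R.Cm i j i k :=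
    fun i j k a b c h i' j' k' a' b' => by
      by_cases c' : j' = k'
      · exact c' ▸ R.Cm_self
      obtain ⟨p, rfl, rfl, rfl⟩ := mv a b c a' b' c'
      exact R.Cm_perm p a b h
  have hB : ∀ i j k, i ≠ j → i ≠ k → j ≠ k → R.Cm i k j k → ∀ i j k, i ≠ k → j ≠ k → R.Cm i k j k :=
    fun i j k a b c h i' j' k' b' c' => by
      by_cases a' : i' = j'
      · exact a' ▸ R.Cm_self
      obtain ⟨p, rfl, rfl, rfl⟩ := mv a b c a' b' c'
      exact R.Cm_perm p b c h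
  have AB : (∀ i j k, i ≠ j → i ≠ k → R.Cm i j i k) ∧ ∀ i j k, i ≠ k → j ≠ k → R.Cm i k j k := by
    obtain ⟨i, j, m, c1, c2⟩ := hK
    rcases (by decide : ∀ i j : Fin 4, (i.1 < 2 ↔ ¬ j.1 < 2) → (i = 1 ∧ 1 ≠ j ∧ 0 ≠ j) ∨ (j = 0 ∧ i ≠ 0 ∧ i ≠ 1) ∨
      (i = 0 ∧ j = 2) ∨ (i = 3 ∧ j = 1) ∨ (i = 0 ∧ j = 3) ∨ (i = 2 ∧ j = 1)) i j m with
      ⟨rfl, a, b⟩ | ⟨rfl, a, b⟩ | ⟨rfl, rfl⟩ | ⟨rfl, rfl⟩ | ⟨rfl, rfl⟩ | ⟨rfl, rfl⟩
    exacts [absurd c1 (nC 0 1 j (by decide) a b), absurd c1.symm (nC i 0 1 a (by decide) b),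
      absurd c2.symm (nC 0 2 3 (by decide) (by decide) (by decide)),
      absurd c2 (nC 2 3 1 (by decide) (by decide) (by decide)),
      ⟨hA 0 1 3 (by decide) (by decide) (by decide) c1, hB 2 0 3 (by decide) (by decide) (by decide) c2⟩,
      ⟨hA 2 3 1 (by decide) (by decide) (by decide) c2, hB 0 2 1 (by decide) (by decide) (by decide) c1⟩]
  refine ⟨AB.1, AB.2, nC, fun i j k a b c s t => ?_⟩
  obtain ⟨p, rfl, rfl, rfl⟩ := perm3 i k j c a b.symm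
  exact com hQ (by decide) (by decide) (AB.1 _ _ _ (by decide) (by decide)) (AB.2 _ _ _ (by decide) (by decide)) p s t

end H20.L4.Bs.Fr
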