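import Cfsg.Agent.Lib.L4Q.Chr
import Cfsg.Agent.Lib.Stein.SLPres

/-! L4Q package Stb: the Steinberg relations. -/

set_option autoImplicit false
set_option linter.unusedSectionVars false

open Matrix H24
open H52.FW (M2 wS dS Act)
open scoped MatrixGroups

namespace H20.L4.Stb

open Bs Bs.Fr

variable {G F : Type*} [Group G] [Field F]

/-- the action of `A B A` on the plane spanned by `u` and `v` -/
theorem plane {u v : F → G} {A B : G} {α β s : F} (ua : ∀ a b, u (a + b) = u a * u b)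
    (va : ∀ a b, v (a + b) = v a * v b) (vi : ∀ a, v a = 1 → a = 0) (uv : ∀ a b, u a * v b = v b * u a)
    (hα : α ≠ 0) (Au : ∀ a, A * u a * A⁻¹ = v (α * a) * u a) (Av : ∀ a, A * v a * A⁻¹ = v a)
    (Bu : ∀ a, B * u a * B⁻¹ = u a) (Bv : ∀ a, B * v a * B⁻¹ = u (β * a) * v a)
    (e : A * B * A * u 1 * (A * B * A)⁻¹ = v s) : 1 + α * β = 0 := by
  have e1 : B * (A * u 1 * A⁻¹) * B⁻¹ = v α * u (1 + α * β) := by
    rw [Au, ← conj_mul, Bu, Bv, mul_one, uv, mul_assoc, ← ua, add_comm, mul_comm β]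
  have e2 : v α * u (1 + α * β) = v s := by
    rw [← e1, ← mul_right_inj A, ← mul_left_inj A⁻¹, Av, ← e]; group
  have e3 : u (1 + α * β) = v (-α + s) := by
    have : v (-α) * v α = 1 := by rw [← va, neg_add_cancel]; simpa using va 0 0
    rw [va, ← e2, ← mul_assoc, this, one_mul]
  have e4 := Au (1 + α * β)
  rw [e3, Av, right_eq_mul] at e4
  exact (mul_eq_zero.1 (vi _ e4)).resolve_left hα

variable [Finite G] [Fintype F] {B : Bs G F} {R : B.Fr} {i j k l : Fin 4}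

/-- the structure constants -/
theorem const (h : R.Rel) (hij : i ≠ j) (hjk : j ≠ k) (hik : i ≠ k) : ∃ c : F, c ≠ 0 ∧ ∀ a b,
    R.x i j a * R.x j k b * (R.x i j a)⁻¹ * (R.x j k b)⁻¹ = R.x i k (c * a * b) := by
  obtain ⟨c, e⟩ := h.com i j k hij hjk hik 1 1
  have k1 : ∀ a b, R.x i j a * R.x j k b * (R.x i j a)⁻¹ * (R.x j k b)⁻¹ = R.x i k (c * a * b) := fun a b => by
    by_cases ha : a = 0
    · simp [ha, R.x_zero]
    by_cases hb : b = 0
    · simp [hb, R.x_zero]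
    obtain ⟨g, hg, a1, a2⟩ := R.exists_H hij hik hjk ha hb
    have e1 := a1 1
    have e2 := a2 1
    rw [mul_one] at e1 e2
    rw [show c * a * b = a * b * c by ring, ← R.ac_trans hg hij hik hjk a1 a2 c, ← e, ← e1, ← e2]
    group
  refine ⟨c, fun z => h.ncm i j k hij hjk hik fun a b => ?_, k1⟩
  have := k1 a b
  rwa [z, zero_mul, zero_mul, R.x_zero, mul_inv_eq_one, mul_inv_eq_iff_eq_mul] at this

theorem cj {a b : G} (e : a * b = b * a) : a * b * a⁻¹ = b := by rw [e, mul_inv_cancel_right]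

theorem refl_eq {m : F} (hm : ∀ a, R.f i j (loT a) = R.x j i (m * a)) :
    R.f i j (wS F) = R.x i j 1 * R.x j i (-m) * R.x i j 1 := by
  rw [← mul_neg_one, ← hm, x, ← map_mul, ← map_mul]
  congr 1
  ext a b
  fin_cases a <;> fin_cases b <;> simp [wS, H64.SL2.mk, Matrix.mul_apply, Fin.sum_univ_two]

theorem relA (h : R.Rel) (hij : i ≠ j) (hjk : j ≠ k) (hik : i ≠ k) {m c d : F}
    (hm : ∀ a, R.f i j (loT a) = R.x j i (m * a)) (c0 : c ≠ 0)
    (hc : ∀ a b, R.x i j a * R.x j k b * (R.x i j a)⁻¹ * (R.x j k b)⁻¹ = R.x i k (c * a * b))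
    (hd : ∀ a b, R.x j i a * R.x i k b * (R.x j i a)⁻¹ * (R.x i k b)⁻¹ = R.x j k (d * a * b)) :
    m * c * d = 1 := by
  obtain ⟨s, -, e⟩ := R.conj_x ⟨_, R.refl_NV hij⟩ hjk
  have e := e 1
  rw [R.refl_π hij, Equiv.swap_apply_right, Equiv.swap_apply_of_ne_of_ne hik.symm hjk.symm] at e
  simp only [refl_eq hm] at e
  have := plane (β := d * -m) R.x_add R.x_add (fun a e => R.x_inj (e.trans R.x_zero.symm)) (h.col j i k hjk hik) c0
    (fun a => by rw [← mul_one c, ← hc, inv_mul_cancel_right]) (fun a => cj (h.row i j k hij hik 1 a))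
    (fun a => cj (h.row j i k hij.symm hjk _ a)) (fun a => by rw [← hd, inv_mul_cancel_right]) e
  linear_combination -this

theorem cj_of {c : F} (hc : ∀ a b, R.x k i a * R.x i j b * (R.x k i a)⁻¹ * (R.x i j b)⁻¹ = R.x k j (c * a * b))
    (a b : F) : R.x i j b * R.x k i a * (R.x i j b)⁻¹ = R.x k j (-(c * b) * a) * R.x k i a := by
  rw [show -(c * b) * a = -(c * a * b) by ring, R.x_neg, ← hc]; group

theorem relB (h : R.Rel) (hij : i ≠ j) (hjk : j ≠ k) (hik : i ≠ k) {m c d : F}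
    (hm : ∀ a, R.f i j (loT a) = R.x j i (m * a)) (c0 : c ≠ 0)
    (hc : ∀ a b, R.x k i a * R.x i j b * (R.x k i a)⁻¹ * (R.x i j b)⁻¹ = R.x k j (c * a * b))
    (hd : ∀ a b, R.x k j a * R.x j i b * (R.x k j a)⁻¹ * (R.x j i b)⁻¹ = R.x k i (d * a * b)) :
    m * c * d = 1 := by
  obtain ⟨s, -, e⟩ := R.conj_x ⟨_, R.refl_NV hij⟩ hik.symm
  have e := e 1
  rw [R.refl_π hij, Equiv.swap_apply_left, Equiv.swap_apply_of_ne_of_ne hik.symm hjk.symm] at e
  simp only [refl_eq hm] at e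
  have := plane R.x_add R.x_add (fun a e => R.x_inj (e.trans R.x_zero.symm)) (h.row k i j hik.symm hjk.symm)
    (by simpa using c0) (cj_of hc · 1) (fun a => cj (h.col i k j hij hjk.symm 1 a))
    (fun a => cj (h.col j k i hij.symm hik.symm _ a)) (cj_of hd · (-m)) e
  linear_combination -this

theorem jacobi (hij : i ≠ j) (hik : i ≠ k) (hil : i ≠ l) (hjk : j ≠ k) (hjl : j ≠ l) (hkl : k ≠ l) (h : R.Rel)
    {c d e f : F}
    (hc : ∀ a b, R.x i j a * R.x j k b * (R.x i j a)⁻¹ * (R.x j k b)⁻¹ = R.x i k (c * a * b))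
    (hd : ∀ a b, R.x i j a * R.x j l b * (R.x i j a)⁻¹ * (R.x j l b)⁻¹ = R.x i l (d * a * b))
    (he : ∀ a b, R.x i k a * R.x k l b * (R.x i k a)⁻¹ * (R.x k l b)⁻¹ = R.x i l (e * a * b))
    (hf : ∀ a b, R.x j k a * R.x k l b * (R.x j k a)⁻¹ * (R.x k l b)⁻¹ = R.x j l (f * a * b)) :
    d * f = e * c := by
  have e1 := hc 1 1
  have e2 := hd 1 f
  have e3 := he c 1
  have e4 := hf 1 1
  have e5 := cj (R.Cm_disj hij hkl hik.symm hjk.symm hil.symm hjl.symm 1 1)
  have e6 := cj (R.Cm_disj hik hjl hij.symm hjk hil.symm hkl.symm c f)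
  have e7 := h.col i j l hil hjl (e * c) f
  simp only [mul_one] at e1 e2 e3 e4
  rw [mul_inv_eq_iff_eq_mul] at e1 e2
  refine R.x_inj (i := i) (j := l) (mul_right_cancel (b := R.x j l f) ?_)
  rw [← e2, e7, ← e3]
  conv_rhs => rw [← e6]
  rw [← e4]
  generalize R.x i j 1 = A at *
  generalize R.x j k 1 = u at *
  generalize R.x k l 1 = v at *
  generalize R.x i k c = w at *
  calc _ = (A * u * A⁻¹) * (A * v * A⁻¹) * (A * u * A⁻¹)⁻¹ * (A * v * A⁻¹)⁻¹ := by group
    _ = _ := by rw [e1, e5]; group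

end H20.L4.Stb

namespace H20.L4.Bs.Fr

open Stb

variable {G F : Type*} [Group G] [Finite G] [Field F] [Fintype F] {B : Bs G F} (R : B.Fr)

theorem exists_hom (h : R.Rel) : ∃ (ψ : SL(4, F) →* G) (c : F), c ≠ 0 ∧ ∀ a,
    ψ (H63.St.SL.tv 0 1 a) = B.f1 (upT a) ∧ ψ (H63.St.SL.tv 1 0 a) = B.f1 (loT a) ∧
    ψ (H63.St.SL.tv 2 3 a) = B.f2 (upT (c * a)) ∧ ψ (H63.St.SL.tv 3 2 a) = B.f2 (loT (c⁻¹ * a)) := by
  choose! c c0 hc using fun i j k (hij : i ≠ j) (hjk : j ≠ k) (hik : i ≠ k) => const h hij hjk hik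
  choose! m m0 hm using fun i j (hij : i ≠ j) => R.lo hij
  have hA : ∀ i j k, i ≠ j → j ≠ k → i ≠ k → m i j * c i j k * c j i k = 1 := fun i j k hij hjk hik =>
    relA h hij hjk hik (hm i j hij) (c0 i j k hij hjk hik) (hc i j k hij hjk hik) (hc j i k hij.symm hik hjk)
  have hB : ∀ i j k, i ≠ j → j ≠ k → i ≠ k → m i j * c k i j * c k j i = 1 := fun i j k hij hjk hik =>
    relB h hij hjk hik (hm i j hij) (c0 k i j hik.symm hij hjk.symm) (hc k i j hik.symm hij hjk.symm)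
      (hc k j i hjk.symm hij.symm hik.symm)
  let n : Fin 4 → Fin 4 → F := fun i j => if i = 0 then 1 else if j = 0 then m 0 i else c i 0 j * m 0 i
  have hn : ∀ i j k, i ≠ j → j ≠ k → i ≠ k → c i j k * n i j * n j k = n i k := fun i j k hij hjk hik => by
    by_cases hi : i = 0
    · subst hi
      simp only [n, if_true, if_neg hij.symm, if_neg hik.symm]
      linear_combination hA 0 j k hij hjk hik
    by_cases hj : j = 0
    · subst hj
      simp only [n, if_true, if_neg hi, if_neg hjk.symm, mul_one]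
    by_cases hk : k = 0
    · subst hk
      simp only [n, if_true, if_neg hi, if_neg hj]
      linear_combination m 0 i * hB 0 j i hjk.symm hij.symm hik.symm
    simp only [n, if_neg hi, if_neg hj, if_neg hk]
    have e := jacobi hi hij hik (Ne.symm hj) (Ne.symm hk) hjk h (hc _ _ _ hi (Ne.symm hj) hij)
      (hc _ _ _ hi (Ne.symm hk) hik) (hc _ _ _ hij hjk hik) (hc _ _ _ (Ne.symm hj) hjk (Ne.symm hk))
    linear_combination c i 0 k * m 0 i * hA 0 j k (Ne.symm hj) hjk (Ne.symm hk) - m 0 i * c j 0 k * m 0 j * e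
  let S : H63.St.PreStA (Fin 4) F G :=
    { x i j a := R.x i j (n i j * a)
      add _ a b := by rw [mul_add, R.x_add]
      c0 {i j k l} hij hkl hil hjk t u := by
        by_cases hik : i = k
        · subst hik
          by_cases hjl : j = l
          · subst hjl; exact R.Cm_self _ _
          · exact h.row i j l hij hil _ _
        by_cases hjl : j = l
        · subst hjl; exact h.col i k j hij hkl _ _
        · exact R.Cm_disj hij hkl (Ne.symm hik) hjk.symm hil.symm (Ne.symm hjl) _ _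
      c1 {i j k} hij hjk hik t u := by
        rw [commutatorElement_def, hc i j k hij hjk hik, ← hn i j k hij hjk hik]
        congr 1; ring }
  obtain ⟨ψ, hψ⟩ := H63.St.SL.exists_hom (by norm_num) S
  obtain ⟨d, d0, e1, e2⟩ := R.f23
  have k : n 2 3 * n 3 2 = m 2 3 := by
    have a1 := hA 2 3 0 (by decide) (by decide) (by decide)
    have a2 := hB 0 3 2 (by decide) (by decide) (by decide)
    have a3 := hB 0 2 3 (by decide) (by decide) (by decide)
    show c 2 0 3 * m 0 2 * (c 3 0 2 * m 0 3) = m 2 3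
    linear_combination -(c 2 0 3 * m 0 2 * (c 3 0 2 * m 0 3)) * a1 +
      m 2 3 * (m 0 2 * c 3 0 2 * c 3 2 0) * a2 + m 2 3 * a3
  have n0 : n 2 3 ≠ 0 := left_ne_zero_of_mul (k ▸ m0 2 3 (by decide))
  refine ⟨ψ, d * n 2 3, mul_ne_zero d0 n0, fun a => ⟨?_, ?_, ?_, ?_⟩⟩ <;> rw [hψ _ _ (by decide)]
  · exact (congrArg _ (one_mul a)).trans (R.x01 a)
  · exact (hm 0 1 (by decide) a).symm.trans (R.f01 _)
  · rw [mul_assoc]; exact e1 _
  · rw [mul_inv, mul_assoc, ← e2, hm 2 3 (by decide), ← k]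
    show R.x 3 2 (n 3 2 * a) = _
    congr 1; field_simp

end H20.L4.Bs.Fr
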