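import Mathlib
import Cfsg.Agent.Base
import Cfsg.Agent.Lib.FW.Tools

/-! `L₄(q)` from the centralizer of `diag(-1,-1,1,1)`: vocabulary (see blueprint/L4Q/README.md). -/

set_option autoImplicit false
set_option linter.unusedSectionVars false

open Matrix H24
open H52.FW (M2 wS dS Act)
open scoped MatrixGroups

namespace H20.L4

/-- The matrix `diag(1, -1)`. -/
def DD (F : Type*) [Field F] : M2 F := !![1, 0; 0, -1]

/-- Upper or lower transvections. -/
def rt {F : Type*} [Field F] (e : Bool) (a : F) : SL(2, F) := if e then upT a else loT a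

/-- Coordinates for `C(t)`: `ρ a b` is the image of the block matrix `diag(a, b)`, `σ` exchanges the
two blocks, `t = ρ (-1) 1`. -/
structure Bs (G F : Type*) [Group G] [Field F] [Fintype F] where
  ρ : M2 F → M2 F → G
  σ : G
  odd : Odd (Fintype.card F)
  mul : ∀ {a b a' b' : M2 F}, a.det * b.det = 1 → a'.det * b'.det = 1 →
    ρ (a * a') (b * b') = ρ a b * ρ a' b'
  ker : ∀ {a b : M2 F}, a.det * b.det = 1 → (ρ a b = 1 ↔ ∃ l : F, a = l • 1 ∧ b = l • 1)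
  σσ : σ * σ = 1
  sw : ∀ {a b : M2 F}, a.det * b.det = 1 → σ * ρ a b = ρ b a * σ
  out : ∀ {a b : M2 F}, a.det * b.det = 1 → ρ a b ≠ σ
  cen : ∀ c, c * ρ (-1) 1 = ρ (-1) 1 * c →
    ∃ a b : M2 F, a.det * b.det = 1 ∧ (c = ρ a b ∨ c = ρ a b * σ)

namespace Bs

variable {G F : Type*} [Group G] [Field F] [Fintype F] (B : Bs G F)

/-- The involution. -/
def t : G := B.ρ (-1) 1

/-- The second involution of the four-group `V = {1, t, u, t u}`. -/
def u : G := B.ρ (DD F) (DD F)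

/-- Membership in `C(t)`. -/
def C (c : G) : Prop := c * B.t = B.t * c

/-- Elements of `C(t)` fixing both blocks. -/
def In (c : G) : Prop := ∃ a b : M2 F, a.det * b.det = 1 ∧ c = B.ρ a b

/-- Elements of `C(t)` exchanging the blocks. -/
def Out (c : G) : Prop := ∃ a b : M2 F, a.det * b.det = 1 ∧ c = B.ρ a b * B.σ

/-- Involutions with both blocks of trace zero and determinant `d = ±1`. -/
def TZ (d : F) (c : G) : Prop :=
  d * d = 1 ∧ ∃ a b : M2 F, a.trace = 0 ∧ b.trace = 0 ∧ a.det = d ∧ b.det = d ∧ c = B.ρ a b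

/-- Involutions with one scalar block and one block of trace zero. -/
def S1 (c : G) : Prop := ∃ (l : F) (b : M2 F), l ^ 4 = -1 ∧ b.trace = 0 ∧ b.det = -l ^ 2 ∧
  (c = B.ρ (l • 1) b ∨ c = B.ρ b (l • 1))

/-- The first factor `SL₂(q)`. -/
def f1 : SL(2, F) →* G := MonoidHom.mk' (fun x => B.ρ x.1 1) fun x y => by
  simpa using B.mul (a := x.1) (b := 1) (a' := y.1) (b' := 1) (by simp) (by simp)

/-- The second factor `SL₂(q)`. -/
def f2 : SL(2, F) →* G := MonoidHom.mk' (fun x => B.ρ 1 x.1) fun x y => by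
  simpa using B.mul (a := 1) (b := x.1) (a' := 1) (b' := y.1) (by simp) (by simp)

/-- Membership in `Y = L₁ L₂`. -/
def Y (c : G) : Prop := ∃ x y, c = B.f1 x * B.f2 y

theorem ρ_one : B.ρ 1 1 = 1 := (B.ker (by simp)).2 ⟨1, by simp⟩

/-- The diagonal torus. -/
def H : Subgroup G where
  carrier := {g | ∃ a b c d : F, a * b * (c * d) = 1 ∧ g = B.ρ !![a, 0; 0, b] !![c, 0; 0, d]}
  one_mem' := ⟨1, 1, 1, 1, by simp, by rw [← one_fin_two, B.ρ_one]⟩
  mul_mem' := by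
    rintro _ _ ⟨a, b, c, d, h, rfl⟩ ⟨a', b', c', d', h', rfl⟩
    refine ⟨a * a', b * b', c * c', d * d', by linear_combination a' * b' * (c' * d') * h + h', ?_⟩
    rw [← B.mul (by simpa [det_fin_two] using h) (by simpa [det_fin_two] using h')]
    simp
  inv_mem' := by
    rintro _ ⟨a, b, c, d, h, rfl⟩
    refine ⟨b * (c * d), a * (c * d), a * b * d, a * b * c, by
      linear_combination ((a * b * (c * d)) ^ 2 + a * b * (c * d) + 1) * h, ?_⟩
    refine inv_eq_of_mul_eq_one_right ?_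
    rw [← B.mul (by simpa [det_fin_two] using h) (by
      simp only [det_fin_two_of]
      linear_combination ((a * b * (c * d)) ^ 2 + a * b * (c * d) + 1) * h), ← B.ρ_one]
    congr 1 <;> ext i j <;> fin_cases i <;> fin_cases j <;> simp <;> linear_combination h

/-- The normalizer of `V = {1, t, u, t u}`. -/
def NV : Subgroup G := Subgroup.normalizer ({1, B.t, B.u, B.t * B.u} : Set G)

/-- Conjugate coordinates, at the involution `g t g⁻¹`. -/
def conj (g : G) : Bs G F where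
  ρ a b := g * B.ρ a b * g⁻¹
  σ := g * B.σ * g⁻¹
  odd := B.odd
  mul h h' := by rw [B.mul h h', conj_mul]
  ker h := by rw [conj_eq_one_iff, B.ker h]
  σσ := by rw [conj_mul, B.σσ]; simp
  sw h := by rw [conj_mul, conj_mul, B.sw h]
  out h e := B.out h (by simpa using e)
  cen c hc := by
    obtain ⟨a, b, h, e⟩ := B.cen (g⁻¹ * c * g) (by
      calc _ = g⁻¹ * (c * (g * B.ρ (-1) 1 * g⁻¹)) * g := by group
        _ = _ := by rw [hc]; group)
    refine ⟨a, b, h, e.imp (fun e => ?_) fun e => ?_⟩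
    · rw [← e]; group
    · rw [conj_mul, ← e]; group

/-- Twisted coordinates at the same involution. -/
noncomputable def twist (x y : M2 F) (hx : x.det ≠ 0) (hy : y.det ≠ 0) : Bs G F :=
  have hu : ∀ {z : M2 F}, z.det ≠ 0 → z⁻¹ * z = 1 := fun h => nonsing_inv_mul _ h.isUnit
  have hv : ∀ {z : M2 F}, z.det ≠ 0 → z * z⁻¹ = 1 := fun h => mul_nonsing_inv _ h.isUnit
  have hd : ∀ {z : M2 F}, z.det ≠ 0 → ∀ a : M2 F, (z * a * z⁻¹).det = a.det := fun {z} h a => by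
    rw [det_mul, det_mul, mul_right_comm, ← det_mul, hv h, det_one, one_mul]
  have hs : (x * y⁻¹).det * (y * x⁻¹).det = 1 := by
    rw [← det_mul, mul_assoc, ← mul_assoc y⁻¹, hu hy, one_mul, hv hx, det_one]
  have hc : ∀ {z : M2 F}, z.det ≠ 0 → ∀ a b : M2 F, z * a * z⁻¹ * (z * b) = z * (a * b) :=
    fun {z} h a b => by rw [mul_assoc, ← mul_assoc z⁻¹, hu h, one_mul, mul_assoc]
  have hk : ∀ {z : M2 F}, z.det ≠ 0 → ∀ (a : M2 F) (l : F), z * a * z⁻¹ = l • 1 ↔ a = l • 1 :=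
    fun {z} h a l => ⟨fun e => by
      have := congrArg (fun m => z⁻¹ * m * z) e
      simpa only [mul_assoc, hu h, mul_one, ← mul_assoc z⁻¹ z, one_mul, mul_smul_comm,
        smul_mul_assoc] using this, fun e => by simp [e, hv h]⟩
  have so : ∀ {a b : M2 F}, a.det * b.det = 1 → ∀ {a' b' : M2 F}, a'.det * b'.det = 1 →
      B.ρ a b * B.σ * B.ρ a' b' = B.ρ (a * b') (b * a') * B.σ := fun h _ _ h' => by
    rw [mul_assoc, B.sw h', ← mul_assoc, ← B.mul h (by rwa [mul_comm])]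
  { ρ a b := B.ρ (x * a * x⁻¹) (y * b * y⁻¹)
    σ := B.ρ (x * y⁻¹) (y * x⁻¹) * B.σ
    odd := B.odd
    mul := fun {a b a' b'} h h' => by
      rw [← B.mul (by rwa [hd hx, hd hy]) (by rwa [hd hx, hd hy]), ← mul_assoc (x * a * x⁻¹),
        ← mul_assoc (y * b * y⁻¹), hc hx, hc hy]
    ker := fun {a b} h => by
      rw [B.ker (by rwa [hd hx, hd hy])]
      simp only [hk hx, hk hy]
    σσ := by
      rw [← mul_assoc, so hs hs, mul_assoc, B.σσ, mul_one, mul_assoc, ← mul_assoc y⁻¹, hu hy, one_mul,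
        hv hx, mul_assoc, ← mul_assoc x⁻¹, hu hx, one_mul, hv hy, B.ρ_one]
    sw := fun {a b} h => by
      rw [so hs (by rwa [hd hx, hd hy]), ← mul_assoc (B.ρ (x * b * x⁻¹) _),
        ← B.mul (by rwa [hd hx, hd hy, mul_comm]) hs]
      simp only [mul_assoc, ← mul_assoc y⁻¹ y, ← mul_assoc x⁻¹ x, hu hx, hu hy, one_mul]
    out := fun {a b} h e => by
      have hs' : (x * y⁻¹).det * (y * x⁻¹).det = 1 := hs
      have := B.mul (a := x * y⁻¹) (b := y * x⁻¹) (a' := y * x⁻¹) (b' := x * y⁻¹) hs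
        (by rwa [mul_comm])
      simp only [mul_assoc, ← mul_assoc y⁻¹ y, ← mul_assoc x⁻¹ x, hu hx, hu hy, one_mul, hv hx, hv hy,
        B.ρ_one] at this
      refine B.out (a := y * x⁻¹ * (x * a * x⁻¹)) (b := x * y⁻¹ * (y * b * y⁻¹)) (by
        rw [det_mul (y * x⁻¹), det_mul (x * y⁻¹), hd hx, hd hy]
        linear_combination a.det * b.det * hs' + h) ?_
      rw [B.mul (by rwa [mul_comm]) (by rwa [hd hx, hd hy]), e, ← mul_assoc,
        mul_eq_one_comm.1 this.symm, one_mul]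
    cen := fun c hc' => by
      simp only [mul_neg, neg_mul, mul_one, hv hx, hv hy] at hc'
      obtain ⟨a, b, h, e⟩ := B.cen c hc'
      have hd' : ∀ {z w : M2 F}, z.det ≠ 0 → ∀ a : M2 F, z * (z⁻¹ * a * w) = a * w := fun {z w} h a => by
        rw [← mul_assoc, ← mul_assoc, hv h, one_mul]
      rcases e with e | e
      · refine ⟨x⁻¹ * a * x, y⁻¹ * b * y, ?_, Or.inl ?_⟩
        · rw [← hd hx (x⁻¹ * a * x), ← hd hy (y⁻¹ * b * y), hd' hx, hd' hy, mul_assoc a, hv hx,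
            mul_assoc b, hv hy, mul_one, mul_one, h]
        · rw [hd' hx, hd' hy, mul_assoc a, hv hx, mul_assoc b, hv hy, mul_one, mul_one, e]
      · have k : (x⁻¹ * a * y).det * (y⁻¹ * b * x).det = 1 := by
          have e1 := congrArg det (hu hx)
          have e2 := congrArg det (hu hy)
          simp only [det_mul, det_one] at e1 e2 ⊢
          linear_combination a.det * b.det * y⁻¹.det * y.det * e1 + a.det * b.det * e2 + h
        refine ⟨x⁻¹ * a * y, y⁻¹ * b * x, k, Or.inr ?_⟩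
        rw [← mul_assoc, ← B.mul (by rwa [hd hx, hd hy]) hs, e]
        simp only [mul_assoc, ← mul_assoc y⁻¹ y, ← mul_assoc x⁻¹ x, ← mul_assoc y y⁻¹,
          ← mul_assoc x x⁻¹, hu hx, hu hy, hv hx, hv hy, one_mul, mul_one] }

/-- Two coordinate systems at the same involution with the same blocks. -/
structure Same (B B' : Bs G F) : Prop where
  t : B'.t = B.t
  hIn : ∀ c, B'.In c ↔ B.In c
  hOut : ∀ c, B'.Out c ↔ B.Out c
  hTZ : ∀ d c, B'.TZ d c ↔ B.TZ d c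
  hS1 : ∀ c, B'.S1 c ↔ B.S1 c
  hY : ∀ c, B'.Y c ↔ B.Y c

/-- The element `diag(w, w)`, of type `TZ 1`. -/
def w : G := B.f1 (wS F) * B.f2 (wS F)

/-- The fusion of the involutions of `C(t)`. -/
structure Fus [Finite G] : Prop where
  u : IsConj B.t B.u
  s1 : ∀ c, B.S1 c → ¬ IsConj B.t c
  s0 : ¬ IsSquare (-1 : F) → ∀ c, B.TZ 1 c → ¬ IsConj B.t c
  out : ¬ IsSquare (-1 : F) → ∀ c, B.Out c → c * c = 1 → IsConj B.t c → ¬ IsConj B.t (B.t * c)
  five : Fintype.card F % 8 = 5 → ∀ c, B.C c → c * c = 1 → c ≠ 1 → IsConj B.t c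
  syl : ∃ S : Sylow 2 G, ∀ c ∈ S, B.C c

/-- The frame: `N(V) / H` is the symmetric group on four letters. -/
structure Fr where
  π : B.NV →* Equiv.Perm (Fin 4)
  surj : Function.Surjective π
  ker : ∀ g : B.NV, π g = 1 ↔ g.1 ∈ B.H
  s1 : ∀ h, π ⟨B.f1 (wS F), h⟩ = Equiv.swap 0 1
  s3 : ∀ h, π ⟨B.f2 (wS F), h⟩ = Equiv.swap 2 3
  sσ : ∀ h, π ⟨B.σ, h⟩ = Equiv.swap 0 2 * Equiv.swap 1 3

namespace Fr

variable {B} (R : B.Fr)

theorem exists_r (i j : Fin 4) : ∃ g : B.NV, (i ≠ j → R.π g 0 = i ∧ R.π g 1 = j) ∧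
    (i = 0 → j = 1 → g = 1) := by
  by_cases h : i = 0 ∧ j = 1
  · exact ⟨1, fun _ => by simp [h.1, h.2], fun _ _ => rfl⟩
  have : ∀ i j : Fin 4, ∃ p : Equiv.Perm (Fin 4), i ≠ j → p 0 = i ∧ p 1 = j := by decide
  obtain ⟨p, hp⟩ := this i j
  obtain ⟨g, rfl⟩ := R.surj p
  exact ⟨g, hp, fun a b => absurd ⟨a, b⟩ h⟩

/-- An element of `N(V)` mapping `(0, 1)` to `(i, j)`. -/
noncomputable def r (i j : Fin 4) : B.NV := (R.exists_r i j).choose

/-- The coordinates at position `(i, j)`. -/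
noncomputable def at' (i j : Fin 4) : Bs G F := B.conj (R.r i j)

/-- The subgroup `SL₂(q)` of the root `(i, j)`. -/
noncomputable def f (i j : Fin 4) : SL(2, F) →* G := (R.at' i j).f1

/-- Root elements. -/
noncomputable def x (i j : Fin 4) (a : F) : G := R.f i j (upT a)

/-- The involution of the root `(i, j)`. -/
noncomputable def tt (i j : Fin 4) : G := R.f i j (-1)

/-- Root subgroups. -/
noncomputable def X (i j : Fin 4) : Subgroup G where
  carrier := {g | ∃ a, g = R.x i j a}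
  one_mem' := ⟨0, by rw [x, upT_zero, map_one]⟩
  mul_mem' := by rintro _ _ ⟨c, rfl⟩ ⟨d, rfl⟩; exact ⟨c + d, by rw [x, x, x, upT_add, map_mul]⟩
  inv_mem' := by rintro _ ⟨c, rfl⟩; exact ⟨-c, by rw [x, x, ← upT_inv, map_inv]⟩

/-- Two root subgroups commute. -/
def Cm (i j k l : Fin 4) : Prop := ∀ a b, R.x i j a * R.x k l b = R.x k l b * R.x i j a

/-- `h` acts on the root subgroup `(i, j)` as multiplication by `c`. -/
def Ac (h : G) (i j : Fin 4) (c : F) : Prop := ∀ a, h * R.x i j a * h⁻¹ = R.x i j (c * a)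

/-- Some root subgroup outside the two blocks commutes with `X₀₁` and `X₂₃`. -/
def Key : Prop := ∃ i j : Fin 4, (i.1 < 2 ↔ ¬ j.1 < 2) ∧ R.Cm 0 1 i j ∧ R.Cm 2 3 i j

/-- The commutator relations of type `A₃` for the root subgroups. -/
structure Rel : Prop where
  row : ∀ i j k, i ≠ j → i ≠ k → R.Cm i j i k
  col : ∀ i j k, i ≠ k → j ≠ k → R.Cm i k j k
  ncm : ∀ i j k, i ≠ j → j ≠ k → i ≠ k → ¬ R.Cm i j j k
  com : ∀ i j k, i ≠ j → j ≠ k → i ≠ k → ∀ a b, ∃ c,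
    R.x i j a * R.x j k b * (R.x i j a)⁻¹ * (R.x j k b)⁻¹ = R.x i k c

/-- The properties of `Q = O_p(C(X₀₁))`. -/
structure KL (Q : Subgroup G) : Prop where
  pgrp : IsPGroup (ringChar F) Q
  le : R.X 0 1 ≤ Q
  cen : ∀ y ∈ Q, ∀ a, y * R.x 0 1 a = R.x 0 1 a * y
  nrm : ∀ g, (∀ a, ∃ b, g * R.x 0 1 a * g⁻¹ = R.x 0 1 b) → ∀ y ∈ Q, g * y * g⁻¹ ∈ Q
  com : ∀ y ∈ Q, ∀ z ∈ Q, y * z * y⁻¹ * z⁻¹ ∈ R.X 0 1
  fix : ∀ y ∈ Q, B.C y → y ∈ R.X 0 1
  inv : ∀ y, (∀ a, y * R.x 0 1 a = R.x 0 1 a * y) → y ^ ringChar F = 1 →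
    B.t * y * B.t⁻¹ = y⁻¹ → y ∈ Q
  big : (∃ c, (∀ a, c * R.x 0 1 a = R.x 0 1 a * c) ∧ ¬ B.C c) → ∃ y ∈ Q, ¬ B.C y

end Fr

end Bs

/-- Block diagonal matrices. -/
def blk {F : Type*} [Field F] (a b : M2 F) : Matrix (Fin 4) (Fin 4) F :=
  !![a 0 0, a 0 1, 0, 0; a 1 0, a 1 1, 0, 0; 0, 0, b 0 0, b 0 1; 0, 0, b 1 0, b 1 1]

/-- The matrix exchanging the two blocks. -/
def swM (F : Type*) [Field F] : Matrix (Fin 4) (Fin 4) F :=
  !![0, 0, 1, 0; 0, 0, 0, 1; 1, 0, 0, 0; 0, 1, 0, 0]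

/-- The coordinates `B` come from the homomorphism `ψ`, whose kernel is the centre. -/
structure Md {G F : Type*} [Group G] [Field F] [Fintype F] (ψ : SL(4, F) →* G) (B : Bs G F) :
    Prop where
  ker : ψ.ker = Subgroup.center _
  hρ : ∀ (g : SL(4, F)) (a b : M2 F), g.1 = blk a b → ψ g = B.ρ a b
  hσ : ∀ g : SL(4, F), g.1 = swM F → ψ g = B.σ

/-- For `q = 3`: which involutions of `C(t, s) = D₈ × D₈` are conjugate to `t = (r 2, r 2)`. -/
def sg : DihedralGroup 4 × DihedralGroup 4 → Bool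
  | (.r i, .r j) => i = 2 ∧ j = 2
  | (.sr _, .r j) => j = 0
  | (.r i, .sr _) => i = 2
  | (.sr i, .sr j) => (i + j).val % 2 = 0

theorem force_eq_defs : True := by
  have := @DD.eq_1.{0}
  have := @rt.eq_1.{0}
  have := @Bs.t.eq_1.{0, 0}
  have := @Bs.u.eq_1.{0, 0}
  have := @Bs.C.eq_1.{0, 0}
  have := @Bs.In.eq_1.{0, 0}
  have := @Bs.Out.eq_1.{0, 0}
  have := @Bs.TZ.eq_1.{0, 0}
  have := @Bs.S1.eq_1.{0, 0}
  have := @Bs.f1.eq_1.{0, 0}
  have := @Bs.f2.eq_1.{0, 0}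
  have := @Bs.Y.eq_1.{0, 0}
  have := @Bs.H.eq_1.{0, 0}
  have := @Bs.NV.eq_1.{0, 0}
  have := @Bs.conj.eq_1.{0, 0}
  have := @Bs.twist.eq_1.{0, 0}
  have := @Bs.w.eq_1.{0, 0}
  have := @sg.eq_1
  have := @Bs.Fr.Key.eq_1.{0, 0}
  have := @Bs.Fr.r.eq_1.{0, 0}
  have := @Bs.Fr.at'.eq_1.{0, 0}
  have := @Bs.Fr.f.eq_1.{0, 0}
  have := @Bs.Fr.x.eq_1.{0, 0}
  have := @Bs.Fr.tt.eq_1.{0, 0}
  have := @Bs.Fr.X.eq_1.{0, 0}
  have := @Bs.Fr.Cm.eq_1.{0, 0}
  have := @Bs.Fr.Ac.eq_1.{0, 0}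
  have := @blk.eq_1.{0}
  have := @swM.eq_1.{0}
  trivial

end H20.L4
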