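import Cfsg.Agent.Lib.L4Q.T2
import Cfsg.Agent.Lib.SL2.Poly
import Cfsg.Agent.Lib.SymSylow.SylIn

/-! L4Q package FinA: involutions of the image of `SL₄(q)`. -/

set_option autoImplicit false
set_option linter.unusedSectionVars false
set_option linter.style.haveILetI false

open Matrix H24
open H52.FW (M2 wS dS Act)
open scoped MatrixGroups

namespace H20.L4.FinA

variable {G F : Type*} [Group G] [Field F]

theorem det4 (g : Matrix (Fin 4) (Fin 4) F) : g.det =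
    (g 0 0 * g 1 1 - g 0 1 * g 1 0) * (g 2 2 * g 3 3 - g 2 3 * g 3 2) -
    (g 0 0 * g 1 2 - g 0 2 * g 1 0) * (g 2 1 * g 3 3 - g 2 3 * g 3 1) +
    (g 0 0 * g 1 3 - g 0 3 * g 1 0) * (g 2 1 * g 3 2 - g 2 2 * g 3 1) +
    (g 0 1 * g 1 2 - g 0 2 * g 1 1) * (g 2 0 * g 3 3 - g 2 3 * g 3 0) -
    (g 0 1 * g 1 3 - g 0 3 * g 1 1) * (g 2 0 * g 3 2 - g 2 2 * g 3 0) +
    (g 0 2 * g 1 3 - g 0 3 * g 1 2) * (g 2 0 * g 3 1 - g 2 1 * g 3 0) := by
  rw [det_succ_row_zero]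
  simp [Fin.sum_univ_four, det_fin_three, Fin.succAbove]
  ring

theorem det_blk (a b : M2 F) : (blk a b).det = a.det * b.det := by
  rw [det4, det_fin_two, det_fin_two]
  simp [blk]

theorem det_swM : (swM F).det = 1 := by
  rw [det4]
  simp [swM]

theorem blk_mul (a b a' b' : M2 F) : blk a b * blk a' b' = blk (a * a') (b * b') := by
  ext i j
  fin_cases i <;> fin_cases j <;> simp [blk, mul_apply, Fin.sum_univ_four, Fin.sum_univ_two]

theorem swM_blk (a b : M2 F) : swM F * blk a b = blk b a * swM F := by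
  ext i j
  fin_cases i <;> fin_cases j <;> simp [blk, swM, mul_apply, Fin.sum_univ_four]

/-- Block diagonal elements of `SL₄`. -/
def bk (a b : M2 F) (h : a.det * b.det = 1) : SL(4, F) := ⟨blk a b, by rw [det_blk, h]⟩

/-- The element exchanging the blocks. -/
def sw (F : Type*) [Field F] : SL(4, F) := ⟨swM F, det_swM⟩

theorem det_d : (-1 : M2 F).det * (1 : M2 F).det = 1 := by simp [det_neg]

/-- Conjugacy under a subgroup. -/
def Cj (K : Subgroup G) (x y : G) : Prop := ∃ k ∈ K, k * x * k⁻¹ = y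

theorem force_eq : True := by
  have := @bk.eq_1.{0}
  have := @sw.eq_1.{0}
  have := @Cj.eq_1.{0}
  trivial

theorem Cj.symm {K : Subgroup G} {x y : G} (h : Cj K x y) : Cj K y x := by
  obtain ⟨k, hk, rfl⟩ := h
  exact ⟨k⁻¹, inv_mem hk, by group⟩

theorem Cj.trans {K : Subgroup G} {x y z : G} (h : Cj K x y) (h' : Cj K y z) : Cj K x z := by
  obtain ⟨k, hk, rfl⟩ := h
  obtain ⟨k', hk', rfl⟩ := h'
  exact ⟨k' * k, mul_mem hk' hk, by group⟩

theorem cj_of (ψ : SL(4, F) →* G) (g g' : SL(4, F)) (P : Matrix (Fin 4) (Fin 4) F) (hP : P.det ≠ 0)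
    (e : g.1 * P = P * g'.1) (hc : ∀ x : F, x ≠ 0 → ∃ Q : Matrix (Fin 4) (Fin 4) F,
      Q.det = x ∧ g'.1 * Q = Q * g'.1) : Cj ψ.range (ψ g) (ψ g') := by
  obtain ⟨Q, q1, q2⟩ := hc _ (inv_ne_zero hP)
  let k : SL(4, F) := ⟨P * Q, by rw [det_mul, q1, mul_inv_cancel₀ hP]⟩
  have : g * k = k * g' := Subtype.ext (by
    change g.1 * (P * Q) = P * Q * g'.1
    rw [← mul_assoc, e, mul_assoc, q2, mul_assoc])
  refine ⟨ψ k⁻¹, ⟨_, rfl⟩, ?_⟩
  rw [← map_inv, ← map_mul, ← map_mul, inv_inv, mul_assoc, this, inv_mul_cancel_left]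

theorem cj_d (ψ : SL(4, F) →* G) (g : SL(4, F)) (P : Matrix (Fin 4) (Fin 4) F) (hP : P.det ≠ 0)
    (e : g.1 * P = P * blk (-1) 1) : Cj ψ.range (ψ g) (ψ (bk (-1) 1 det_d)) :=
  cj_of ψ g _ P hP e fun x _ => ⟨blk !![x, 0; 0, 1] 1, by simp [det_blk], by
    change blk (-1) 1 * _ = _ * blk (-1) 1
    simp [blk_mul]⟩

theorem cj_J [Finite F] (h2 : (2 : F) ≠ 0) (ψ : SL(4, F) →* G) (g : SL(4, F))
    (P : Matrix (Fin 4) (Fin 4) F) (hP : P.det ≠ 0) (e : g.1 * P = P * (blk (-1) 1 * swM F)) :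
    Cj ψ.range (ψ g) (ψ (bk (-1) 1 det_d * sw F)) :=
  cj_of ψ g _ P hP e fun x _ => by
    obtain ⟨a, b, h⟩ := H29.exists_sq_add_sq h2 x
    refine ⟨!![a, 0, -b, 0; 0, 1, 0, 0; b, 0, a, 0; 0, 0, 0, 1], ?_, ?_⟩
    · rw [det4]
      simp
      linear_combination h
    · change blk (-1) 1 * swM F * _ = _ * (blk (-1) 1 * swM F)
      ext i j
      fin_cases i <;> fin_cases j <;> simp [blk, swM, mul_apply, Fin.sum_univ_four]

end H20.L4.FinA

namespace H20.L4.Md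

open FinA

variable {G F : Type*} [Group G] [Finite G] [Field F] [Fintype F] {ψ : SL(4, F) →* G} {B : Bs G F}
  (h : Md ψ B)
include h

theorem bk_eq {a b : M2 F} (e : a.det * b.det = 1) : ψ (bk a b e) = B.ρ a b := h.hρ _ a b rfl

theorem sw_eq : ψ (sw F) = B.σ := h.hσ _ rfl

theorem C_le {c : G} (hc : B.C c) : c ∈ ψ.range := by
  rcases B.C_iff.1 hc with ⟨a, b, e, rfl⟩ | ⟨a, b, e, rfl⟩
  · exact ⟨_, h.bk_eq e⟩
  · exact mul_mem ⟨_, h.bk_eq e⟩ ⟨_, h.sw_eq⟩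

theorem t_eq (g : SL(4, F)) (e : g.1 = diagonal ![-1, -1, 1, 1]) : ψ g = B.t := by
  refine h.hρ g _ _ (e.trans ?_)
  ext i j
  fin_cases i <;> fin_cases j <;> simp [blk]

theorem eq_iff {g g' : SL(4, F)} : ψ g = ψ g' ↔ ∃ l : F, l ^ 4 = 1 ∧ g'.1 = l • g.1 := by
  rw [eq_comm, ← mul_inv_eq_one, ← map_inv, ← map_mul, ← MonoidHom.mem_ker, h.ker,
    Matrix.SpecialLinearGroup.mem_center_iff, Fintype.card_fin]
  refine exists_congr fun l => and_congr_right fun _ => ⟨fun e => ?_, fun e => ?_⟩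
  · have : (g' * g⁻¹).1 * g.1 = g'.1 := congrArg Subtype.val (inv_mul_cancel_right g' g)
    rw [← this, ← e, scalar_apply, ← smul_eq_diagonal_mul]
  · have : g.1 * (g⁻¹).1 = 1 := congrArg Subtype.val (mul_inv_cancel g)
    change _ = g'.1 * (g⁻¹).1
    rw [e, smul_mul_assoc, this, scalar_apply, smul_eq_diagonal_mul, mul_one]

/-- `t σ` is conjugate to an involution of type `TZ 1`. -/
theorem tσ_conj : ∃ g ∈ ψ.range, g * (B.t * B.σ) * g⁻¹ = B.w := by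
  have e : (wS F).1.det * (wS F).1.det = 1 := by simp
  have := cj_J B.two ψ (bk _ _ e) !![1, 0, 0, 0; 0, 0, -1, 0; 0, 1, 0, 0; 0, 0, 0, -1]
    (by rw [det4]; simp) (by
      change blk !![0, 1; -1, 0] !![0, 1; -1, 0] * _ = _
      ext i j
      fin_cases i <;> fin_cases j <;> simp [blk, swM, mul_apply, Fin.sum_univ_four])
  rw [map_mul, h.bk_eq, h.bk_eq, h.sw_eq, ← B.w_eq] at this
  exact this.symm

theorem tz_cj {d : F} {c c' : G} (k : B.TZ d c) (k' : B.TZ d c') : Cj ψ.range c c' := by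
  obtain ⟨x, y, e⟩ := k.conj k'
  exact ⟨_, h.C_le ((B.in_f1 x).mul (B.in_f2 y)).C, e⟩

theorem tz_t {c : G} (k : B.TZ (-1) c) : Cj ψ.range c B.t := by
  have e : (DD F).det * (DD F).det = 1 := by simp [DD]
  have := cj_d ψ (bk _ _ e) !![0, 0, 0, 1; 0, 1, 0, 0; 0, 0, 1, 0; 1, 0, 0, 0]
    (by rw [det4]; simp) (by
      change blk (DD F) (DD F) * _ = _
      ext i j
      fin_cases i <;> fin_cases j <;> simp [blk, DD, mul_apply, Fin.sum_univ_four])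
  rw [h.bk_eq, h.bk_eq] at this
  exact (h.tz_cj k B.u_TZ).trans this

theorem out_cj {c : G} (k : B.Out c) (e : c * c = 1) :
    Cj ψ.range c B.t ∨ Cj ψ.range c (B.t * B.σ) := by
  obtain ⟨a, b, ab, k⟩ := k.form e
  have d1 : a.det * b.det = 1 := by rw [← det_mul, ab, det_one]
  have a0 : a.det ≠ 0 := left_ne_zero_of_mul_eq_one d1
  have ba : b * a = 1 := mul_eq_one_comm.1 ab
  rcases k with rfl | rfl
  · left
    have := cj_d ψ (bk a b d1 * sw F)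
      (blk a 1 * !![1, 0, 1, 0; 0, 1, 0, 1; -1, 0, 1, 0; 0, -1, 0, 1]) (by
        rw [det_mul, det_blk, det_one, mul_one, det4]
        refine mul_ne_zero a0 ?_
        simp
        exact fun l => mul_ne_zero B.two B.two (by linear_combination l)) (by
        change blk a b * swM F * _ = _
        rw [← mul_assoc, mul_assoc (blk a b), swM_blk, ← mul_assoc, blk_mul, ba, mul_one, mul_assoc,
          mul_assoc]
        congr 1
        ext i j
        fin_cases i <;> fin_cases j <;> simp [blk, swM, mul_apply, Fin.sum_univ_four])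
    rwa [map_mul, h.bk_eq, h.bk_eq, h.sw_eq] at this
  · right
    have := cj_J B.two ψ (bk (-1) 1 det_d * (bk a b d1 * sw F)) (blk a 1) (by simpa [det_blk] using a0) (by
        change blk (-1) 1 * (blk a b * swM F) * _ = _
        rw [mul_assoc, mul_assoc, swM_blk, ← mul_assoc (blk a b), blk_mul, ← mul_assoc, ← mul_assoc,
          blk_mul, blk_mul, ba]
        simp)
    rwa [map_mul, map_mul, map_mul, h.bk_eq, h.bk_eq, h.sw_eq] at this

theorem classes (hS : ∃ S : Sylow 2 G, ∀ c ∈ S, B.C c) {j : G} (hj : j ∈ ψ.range) (e : j * j = 1)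
    (n : j ≠ 1) : ∃ g ∈ ψ.range, g * j * g⁻¹ = B.t ∨
      (¬ IsSquare (-1 : F) ∧ g * j * g⁻¹ = B.t * B.σ) ∨
      ((∃ l : F, l ^ 4 = -1) ∧ ∀ l : F, l ^ 4 = -1 → g * j * g⁻¹ = B.ρ (l • 1) (l • DD F)) := by
  haveI : Fact (Nat.Prime 2) := ⟨Nat.prime_two⟩
  obtain ⟨S, hS⟩ := hS
  obtain ⟨k, hk, kS⟩ := ((H61.SylIn.of_sylow_top S).mono (fun c hc => h.C_le (hS c hc))
    le_top).exists_conj_mem hj (k := 1) (by rwa [pow_one, pow_two])
  have c0 : Cj ψ.range j (k * j * k⁻¹) := ⟨k, hk, rfl⟩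
  have e' : k * j * k⁻¹ * (k * j * k⁻¹) = 1 := by rw [conj_mul, e]; group
  have r1 : ∀ {c}, Cj ψ.range j c → Cj ψ.range c B.t → ∃ g ∈ ψ.range, g * j * g⁻¹ = B.t ∨
      (¬ IsSquare (-1 : F) ∧ g * j * g⁻¹ = B.t * B.σ) ∨
      ((∃ l : F, l ^ 4 = -1) ∧ ∀ l : F, l ^ 4 = -1 → g * j * g⁻¹ = B.ρ (l • 1) (l • DD F)) :=
    fun a b => (a.trans b).imp fun g hg => ⟨hg.1, .inl hg.2⟩
  have r2 : ∀ {c}, Cj ψ.range j c → Cj ψ.range c (B.t * B.σ) → ∃ g ∈ ψ.range, g * j * g⁻¹ = B.t ∨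
      (¬ IsSquare (-1 : F) ∧ g * j * g⁻¹ = B.t * B.σ) ∨
      ((∃ l : F, l ^ 4 = -1) ∧ ∀ l : F, l ^ 4 = -1 → g * j * g⁻¹ = B.ρ (l • 1) (l • DD F)) :=
    fun a b => by
      by_cases s : IsSquare (-1 : F)
      · exact r1 ((a.trans b).trans h.tσ_conj) (h.tz_t (B.w_TZ.of_sq s))
      · exact (a.trans b).imp fun g hg => ⟨hg.1, .inr (.inl ⟨s, hg.2⟩)⟩
  rcases (hS _ kS).invol e' (by rwa [Ne, conj_eq_one_iff]) with a | ⟨d, a⟩ | a | a
  · exact ⟨k, hk, .inl a⟩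
  · rcases a.cases with rfl | rfl
    · exact r2 c0 ((h.tz_cj a B.w_TZ).trans (Cj.symm h.tσ_conj))
    · exact r1 c0 (h.tz_t a)
  · obtain ⟨l, -, hl, -⟩ := id a
    have dt : ∀ l : F, l ^ 4 = -1 → (l • (1 : M2 F)).det * (l • DD F).det = 1 := fun l hl => by
      simp [DD, det_fin_two]
      linear_combination -hl
    have c1 : Cj ψ.range j (B.ρ (l • 1) (l • DD F)) := by
      obtain ⟨x, y, b | b⟩ := a.std hl
      · exact c0.trans ⟨_, h.C_le ((B.in_f1 x).mul (B.in_f2 y)).C, b⟩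
      · exact (c0.trans ⟨_, h.C_le ((B.in_f1 x).mul (B.in_f2 y)).C, b⟩).trans
          ⟨_, h.C_le B.C_σ, B.σ_conj (by rw [mul_comm]; exact dt l hl)⟩
    obtain ⟨g, hg, c1⟩ := c1
    refine ⟨g, hg, .inr (.inr ⟨⟨l, hl⟩, fun m hm => c1.trans ?_⟩)⟩
    have l0 : l ≠ 0 := by
      rintro rfl
      simp at hl
    rw [← B.smul_ρ (dt l hl) (l := m / l) (by rw [div_pow, hl, hm]; simp), smul_smul, smul_smul,
      div_mul_cancel₀ _ l0]
  · rcases h.out_cj a e' with b | b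
    · exact r1 c0 b
    · exact r2 c0 b

theorem d8 : ∃ a ∈ ψ.range, ∃ b ∈ ψ.range, a * a = 1 ∧ b * b = 1 ∧
    a * b * (a * b) * (a * b * (a * b)) = 1 ∧ a * b * (a * b) ≠ 1 := by
  obtain ⟨a, ha⟩ : ∃ a : SL(4, F), a.1 = !![-1, 0, 0, 0; 0, -1, 0, 0; 0, 0, 1, 0; 0, 0, 0, 1] :=
    ⟨⟨_, by rw [det4]; simp⟩, rfl⟩
  obtain ⟨b, hb⟩ : ∃ a : SL(4, F), a.1 = !![-1, 0, 0, 0; 0, 0, 1, 0; 0, 1, 0, 0; 0, 0, 0, 1] :=
    ⟨⟨_, by rw [det4]; simp⟩, rfl⟩
  obtain ⟨c, hc⟩ : ∃ a : SL(4, F), a.1 = !![1, 0, 0, 0; 0, -1, 0, 0; 0, 0, -1, 0; 0, 0, 0, 1] :=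
    ⟨⟨_, by rw [det4]; simp⟩, rfl⟩
  have e1 : a * a = 1 := Subtype.ext (by
    change a.1 * a.1 = 1
    rw [ha]
    ext i j
    fin_cases i <;> fin_cases j <;> simp [mul_apply, Fin.sum_univ_four])
  have e2 : b * b = 1 := Subtype.ext (by
    change b.1 * b.1 = 1
    rw [hb]
    ext i j
    fin_cases i <;> fin_cases j <;> simp [mul_apply, Fin.sum_univ_four])
  have e3 : a * b * (a * b) = c := Subtype.ext (by
    change a.1 * b.1 * (a.1 * b.1) = c.1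
    rw [ha, hb, hc]
    ext i j
    fin_cases i <;> fin_cases j <;> simp [mul_apply, Fin.sum_univ_four])
  have e4 : c * c = 1 := Subtype.ext (by
    change c.1 * c.1 = 1
    rw [hc]
    ext i j
    fin_cases i <;> fin_cases j <;> simp [mul_apply, Fin.sum_univ_four])
  refine ⟨ψ a, ⟨_, rfl⟩, ψ b, ⟨_, rfl⟩, by rw [← map_mul, e1, map_one], by rw [← map_mul, e2, map_one],
    by simp only [← map_mul, e3, e4, map_one], fun e => ?_⟩
  simp only [← map_mul, e3] at e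
  obtain ⟨l, -, hl⟩ := h.eq_iff.1 (e.trans (map_one ψ).symm)
  change 1 = l • c.1 at hl
  rw [hc] at hl
  have k0 := congrFun (congrFun hl 0) 0
  have k1 := congrFun (congrFun hl 1) 1
  simp at k0 k1
  exact B.two (by linear_combination k0 + k1)

end H20.L4.Md
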