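import Cfsg.Agent.Lib.L4Q.T2

/-! L4Q package FrT: the frame API. -/

set_option autoImplicit false
set_option linter.unusedSectionVars false

open Matrix H24
open H52.FW (M2 wS dS Act)
open scoped MatrixGroups

namespace H20.L4.FrT

variable {F : Type*} [Field F]

theorem w_up (a : F) : wS F * upT (-a) * (wS F)⁻¹ = loT a := by
  rw [mul_inv_eq_iff_eq_mul]
  refine Subtype.ext ?_
  rw [H52.FW.val_mul, H52.FW.val_mul]
  ext i j; fin_cases i <;> fin_cases j <;> simp [wS, upT, loT, H64.SL2.mk, Matrix.mul_apply, Fin.sum_univ_two]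

theorem w_dS (a : F) (ha : a ≠ 0) : wS F * dS a ha * (wS F)⁻¹ = dS a⁻¹ (inv_ne_zero ha) := by
  rw [mul_inv_eq_iff_eq_mul]
  refine Subtype.ext ?_
  rw [H52.FW.val_mul, H52.FW.val_mul]
  ext i j; fin_cases i <;> fin_cases j <;> simp [wS, dS, H64.SL2.mk, Matrix.mul_apply, Fin.sum_univ_two]

theorem up_dg (c a : F) : (upT (c * a)).1 * !![c, 0; 0, 1] = !![c, 0; 0, 1] * (upT a).1 := by
  ext i j; fin_cases i <;> fin_cases j <;> simp [upT, H64.SL2.mk, Matrix.mul_apply, Fin.sum_univ_two]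

theorem lo_dg (c a : F) : (loT a).1 * !![c, 0; 0, 1] = !![c, 0; 0, 1] * (loT (c * a)).1 := by
  ext i j
  fin_cases i <;> fin_cases j <;> simp [loT, H64.SL2.mk, Matrix.mul_apply, Fin.sum_univ_two, mul_comm]

theorem dS_dg (c a : F) (ha : a ≠ 0) : (dS a ha).1 * !![c, 0; 0, 1] = !![c, 0; 0, 1] * (dS a ha).1 := by
  ext i j
  fin_cases i <;> fin_cases j <;> simp [dS, H64.SL2.mk, Matrix.mul_apply, Fin.sum_univ_two, mul_comm]

theorem dSw_dg (c : F) (hc : c ≠ 0) : (dS c hc * wS F).1 * !![c, 0; 0, 1] = !![c, 0; 0, 1] * (wS F).1 := by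
  rw [H52.FW.val_mul]
  ext i j
  fin_cases i <;> fin_cases j <;> simp [dS, wS, H64.SL2.mk, Matrix.mul_apply, Fin.sum_univ_two, hc]

theorem det_dg {c : F} (hc : c ≠ 0) : (!![c, 0; 0, 1] : M2 F).det ≠ 0 := by simpa [det_fin_two] using hc

theorem fix01 : ∀ p : Equiv.Perm (Fin 4), p 0 = 0 → p 1 = 1 → p = 1 ∨ p * (Equiv.swap 2 3)⁻¹ = 1 := by decide

theorem compl : ∀ (p : Equiv.Perm (Fin 4)) (k l : Fin 4), k ≠ l → k ≠ p 0 → k ≠ p 1 → l ≠ p 0 → l ≠ p 1 →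
    (k = p 2 ∧ l = p 3) ∨ (k = p 3 ∧ l = p 2) := by decide

theorem third : ∀ (p : Equiv.Perm (Fin 4)) (k : Fin 4), p 0 ≠ k → p 1 ≠ k → k = p 2 ∨ k = p 3 := by decide

theorem four : ∀ i j k l : Fin 4, i ≠ j → i ≠ k → i ≠ l → j ≠ k → j ≠ l → k ≠ l →
    ∃ p : Equiv.Perm (Fin 4), p 0 = i ∧ p 1 = j ∧ p 2 = k ∧ p 3 = l := by decide

theorem blocks : ∀ p : Equiv.Perm (Fin 4), p = 1 ∨ p * (Equiv.swap 0 1 * Equiv.swap 2 3) = 1 ∨
    p * (Equiv.swap 0 2 * Equiv.swap 1 3) = 1 ∨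
    p * (Equiv.swap 0 1 * Equiv.swap 2 3 * (Equiv.swap 0 2 * Equiv.swap 1 3)) = 1 →
    (p 0).1 / 2 = (p 1).1 / 2 := by decide

theorem blocks' : ∀ p : Equiv.Perm (Fin 4), ((Equiv.swap 0 1 * p : Equiv.Perm (Fin 4)) 0).1 / 2 =
    ((Equiv.swap 0 1 * p : Equiv.Perm (Fin 4)) 1).1 / 2 →
    (p 0).1 / 2 = (p 1).1 / 2 := by decide

theorem sig02 : ∀ p : Equiv.Perm (Fin 4), p 0 = 0 → p 1 = 2 →
    p⁻¹ * (Equiv.swap 0 2 * Equiv.swap 1 3) * p * (Equiv.swap 0 1 * Equiv.swap 2 3) = 1 := by decide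

end H20.L4.FrT

namespace H20.L4.Bs.Fr

open FrT

variable {G F : Type*} [Group G] [Field F] [Fintype F] {B : Bs G F} (R : B.Fr)
  {i j k l : Fin 4} {h h' : G} {c c' : F}

theorem r_zero (hij : i ≠ j) : R.π (R.r i j) 0 = i := ((R.exists_r i j).choose_spec.1 hij).1
theorem r_one (hij : i ≠ j) : R.π (R.r i j) 1 = j := ((R.exists_r i j).choose_spec.1 hij).2
theorem r01 : R.r 0 1 = 1 := (R.exists_r 0 1).choose_spec.2 rfl rfl
theorem f_eq (y : SL(2, F)) : R.f i j y = R.r i j * B.f1 y * (R.r i j : G)⁻¹ := rfl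
theorem f01 (y : SL(2, F)) : R.f 0 1 y = B.f1 y := by
  rw [f_eq, r01, OneMemClass.coe_one, one_mul, inv_one, mul_one]
theorem x01 (a : F) : R.x 0 1 a = B.f1 (upT a) := R.f01 _
theorem tt01 : R.tt 0 1 = B.t := (R.f01 _).trans B.f1_neg_one
theorem π_H (hh : h ∈ B.H) : R.π ⟨h, H_NV hh⟩ = 1 := (R.ker _).2 hh
include R in
theorem N_H {g : G} (hg : g ∈ B.NV) (hh : h ∈ B.H) : g * h * g⁻¹ ∈ B.H :=
  (R.ker (⟨g, hg⟩ * ⟨h, H_NV hh⟩ * ⟨g, hg⟩⁻¹)).1 (by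
    rw [map_mul, map_mul, map_inv, R.π_H hh, mul_one, mul_inv_cancel])
theorem at_H : (R.at' i j).H = B.H := Subgroup.ext fun c => (B.conj_H).trans
  ⟨fun e => by simpa [mul_assoc] using R.N_H (R.r i j).2 e,
    fun e => by simpa using R.N_H (inv_mem (R.r i j).2) e⟩
theorem at_t : (R.at' i j).t = R.tt i j := (R.at' i j).f1_neg_one.symm
theorem f_inj : Function.Injective (R.f i j) := (R.at' i j).f1_inj
theorem act_H (hh : h ∈ B.H) : ∃ c : F, c ≠ 0 ∧ Act B.f1 h !![c, 0; 0, 1] := by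
  obtain ⟨a, b, c, d, e, rfl⟩ := hh
  have ha : a ≠ 0 := by rintro rfl; simp at e
  have hb : b ≠ 0 := by rintro rfl; simp at e
  refine ⟨b⁻¹ * a, mul_ne_zero (inv_ne_zero hb) ha, ?_⟩
  have := (B.act1 (a := !![a, 0; 0, b]) (b := !![c, 0; 0, d]) (by simpa [det_fin_two] using e)).smul
    (inv_ne_zero hb)
  convert this using 1
  ext i j; fin_cases i <;> fin_cases j <;> simp [hb]
theorem key (n : B.NV) (h0 : R.π n 0 = 0) (h1 : R.π n 1 = 1) :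
    ∃ c : F, c ≠ 0 ∧ Act B.f1 n !![c, 0; 0, 1] := by
  rcases fix01 _ h0 h1 with e | e
  · exact act_H ((R.ker n).1 e)
  · rw [← R.s3 B.f2w_NV, ← map_inv, ← map_mul, R.ker] at e
    obtain ⟨c, hc, a⟩ := act_H e
    refine ⟨c, hc, ?_⟩
    have := a.of_comm' (d := B.f2 (wS F)) fun x => (B.f12_comm x _).symm
    simpa using this
theorem π_ne (g : B.NV) (hij : i ≠ j) : R.π g i ≠ R.π g j := (R.π g).injective.ne hij
theorem conj_f (g : B.NV) (hij : i ≠ j) : ∃ c : F, c ≠ 0 ∧ ∀ y y' : SL(2, F),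
    y'.1 * !![c, 0; 0, 1] = !![c, 0; 0, 1] * y.1 →
      g * R.f i j y * (g : G)⁻¹ = R.f (R.π g i) (R.π g j) y' := by
  obtain ⟨c, hc, a⟩ := R.key ((R.r (R.π g i) (R.π g j))⁻¹ * g * R.r i j)
    (by rw [map_mul, map_mul, map_inv, Equiv.Perm.mul_apply, Equiv.Perm.mul_apply, R.r_zero hij,
      Equiv.Perm.inv_eq_iff_eq, R.r_zero (R.π_ne g hij)])
    (by rw [map_mul, map_mul, map_inv, Equiv.Perm.mul_apply, Equiv.Perm.mul_apply, R.r_one hij,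
      Equiv.Perm.inv_eq_iff_eq, R.r_one (R.π_ne g hij)])
  refine ⟨c, hc, fun y y' e => ?_⟩
  rw [f_eq, f_eq, ← a.2 y y' e]
  simp only [Subgroup.coe_mul, Subgroup.coe_inv]
  group
theorem conj_x (g : B.NV) (hij : i ≠ j) : ∃ c : F, c ≠ 0 ∧ ∀ a,
    g * R.x i j a * (g : G)⁻¹ = R.x (R.π g i) (R.π g j) (c * a) :=
  (R.conj_f g hij).imp fun c e => ⟨e.1, fun a => e.2 _ _ (up_dg c a)⟩
theorem conj_dS (g : B.NV) (hij : i ≠ j) (a : F) (ha : a ≠ 0) :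
    g * R.f i j (dS a ha) * (g : G)⁻¹ = R.f (R.π g i) (R.π g j) (dS a ha) :=
  (R.conj_f g hij).elim fun c e => e.2 _ _ (dS_dg c a ha)
theorem conj_tt (g : B.NV) (hij : i ≠ j) :
    g * R.tt i j * (g : G)⁻¹ = R.tt (R.π g i) (R.π g j) :=
  (R.conj_f g hij).elim fun c e => e.2 _ _ (by
    rw [H52.FW.val_neg, H52.FW.val_one, neg_mul, mul_neg, one_mul, mul_one])
theorem refl_NV (hij : i ≠ j) : R.f i j (wS F) ∈ B.NV :=
  have _ := hij
  mul_mem (mul_mem (R.r i j).2 B.f1w_NV) (inv_mem (R.r i j).2)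
theorem refl_π (hij : i ≠ j) : R.π ⟨R.f i j (wS F), R.refl_NV hij⟩ = Equiv.swap i j := by
  have : R.π ⟨R.f i j (wS F), R.refl_NV hij⟩ = R.π (R.r i j * ⟨_, B.f1w_NV⟩ * (R.r i j)⁻¹) := rfl
  rw [this, map_mul, map_mul, map_inv, R.s1, ← Equiv.swap_apply_apply, R.r_zero hij, R.r_one hij]
theorem refl_conj (y : SL(2, F)) :
    R.f i j (wS F) * R.f i j y * (R.f i j (wS F))⁻¹ = R.f i j (wS F * y * (wS F)⁻¹) := by
  rw [map_mul, map_mul, map_inv]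
theorem lo (hij : i ≠ j) : ∃ c : F, c ≠ 0 ∧ ∀ a, R.f i j (loT a) = R.x j i (c * a) := by
  obtain ⟨c, hc, e⟩ := R.conj_x ⟨_, R.refl_NV hij⟩ hij
  rw [R.refl_π hij, Equiv.swap_apply_left, Equiv.swap_apply_right] at e
  refine ⟨-c, neg_ne_zero.2 hc, fun a => ?_⟩
  rw [← w_up, ← refl_conj, neg_mul_comm]
  exact e _
theorem dS_symm (hij : i ≠ j) (a : F) (ha : a ≠ 0) :
    R.f j i (dS a ha) = R.f i j (dS a⁻¹ (inv_ne_zero ha)) := by
  have e := R.conj_dS ⟨_, R.refl_NV hij⟩ hij a ha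
  rw [R.refl_π hij, Equiv.swap_apply_left, Equiv.swap_apply_right] at e
  rw [← e, ← w_dS a ha, ← refl_conj]
theorem conj_f' (g : B.NV) (hij : i ≠ j) (y : SL(2, F)) :
    ∃ y', R.f (R.π g i) (R.π g j) y = g * R.f i j y' * (g : G)⁻¹ := by
  obtain ⟨c, hc, e⟩ := R.conj_f g hij
  obtain ⟨y', hy⟩ := H52.FW.exists_cj' (det_dg hc) y
  exact ⟨y', (e _ _ hy).symm⟩
theorem f_symm (hij : i ≠ j) (y : SL(2, F)) : ∃ y', R.f j i y = R.f i j y' := by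
  obtain ⟨y', e⟩ := R.conj_f' ⟨_, R.refl_NV hij⟩ hij y
  rw [R.refl_π hij, Equiv.swap_apply_left, Equiv.swap_apply_right] at e
  exact ⟨_, e.trans (R.refl_conj y')⟩
theorem πσ0 : R.π ⟨B.σ, B.σ_NV⟩ 0 = 2 := by rw [R.sσ]; decide
theorem πσ1 : R.π ⟨B.σ, B.σ_NV⟩ 1 = 3 := by rw [R.sσ]; decide
theorem f23 : ∃ c : F, c ≠ 0 ∧ (∀ a, R.f 2 3 (upT a) = B.f2 (upT (c * a))) ∧
    ∀ a, R.f 2 3 (loT a) = B.f2 (loT (c⁻¹ * a)) := by
  obtain ⟨c, hc, e⟩ := R.conj_f ⟨_, B.σ_NV⟩ (i := 0) (j := 1) (by decide)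
  simp only [πσ0, πσ1, f01, σ_f1] at e
  refine ⟨c⁻¹, inv_ne_zero hc, fun a => (e _ _ ?_).symm, fun a => (e _ _ ?_).symm⟩
  · rw [← up_dg, mul_inv_cancel_left₀ hc]
  · rw [inv_inv, lo_dg]
theorem f23' (y : SL(2, F)) : ∃ y', R.f 2 3 y = B.f2 y' := by
  obtain ⟨y', e⟩ := R.conj_f' ⟨_, B.σ_NV⟩ (i := 0) (j := 1) (by decide) y
  simp only [πσ0, πσ1, f01, σ_f1] at e
  exact ⟨y', e⟩
/-- The first factor of the coordinates at `(i, j)`. -/
theorem at_rt1 (hij : i ≠ j) (e : Bool) : ∃ c : F, c ≠ 0 ∧ ∀ a,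
    (R.at' i j).f1 (rt e a) = if e then R.x i j (c * a) else R.x j i (c * a) := by
  cases e
  · exact R.lo hij
  · exact ⟨1, one_ne_zero, fun a => by rw [one_mul]; rfl⟩
/-- The second factor of the coordinates at `(i, j)`. -/
theorem at_rt2 (hij : i ≠ j) (e : Bool) : ∃ (k l : Fin 4) (c : F), k ≠ l ∧ k ≠ i ∧ k ≠ j ∧ l ≠ i ∧
    l ≠ j ∧ c ≠ 0 ∧ ∀ a, (R.at' i j).f2 (rt e a) = R.x k l (c * a) := by
  obtain ⟨c, hc, e1, e2⟩ := R.f23
  have n : ∀ m : Fin 4, m ≠ 0 → m ≠ 1 → R.π (R.r i j) m ≠ i ∧ R.π (R.r i j) m ≠ j := fun m a b =>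
    ⟨(R.π_ne _ a).trans_eq (R.r_zero hij), (R.π_ne _ b).trans_eq (R.r_one hij)⟩
  obtain ⟨a2, b2⟩ := n 2 (by decide) (by decide)
  obtain ⟨a3, b3⟩ := n 3 (by decide) (by decide)
  cases e
  · obtain ⟨d, hd, e3⟩ := R.lo (i := 2) (j := 3) (by decide)
    obtain ⟨m, hm, e4⟩ := R.conj_x (R.r i j) (i := 3) (j := 2) (by decide)
    refine ⟨_, _, m * (d * c), R.π_ne _ (by decide), a3, b3, a2, b2, mul_ne_zero hm (mul_ne_zero hd hc),
      fun a => ?_⟩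
    rw [mul_assoc, ← e4, mul_assoc d, ← e3, e2, inv_mul_cancel_left₀ hc]
    rfl
  · obtain ⟨m, hm, e4⟩ := R.conj_x (R.r i j) (i := 2) (j := 3) (by decide)
    refine ⟨_, _, m * c⁻¹, R.π_ne _ (by decide), a2, b2, a3, b3, mul_ne_zero hm (inv_ne_zero hc), fun a => ?_⟩
    rw [mul_assoc, ← e4, x, e1, mul_inv_cancel_left₀ hc]
    rfl
theorem compl' (hij : i ≠ j) (hkl : k ≠ l) (h1 : k ≠ i) (h2 : k ≠ j) (h3 : l ≠ i) (h4 : l ≠ j) :
    (k = R.π (R.r i j) 2 ∧ l = R.π (R.r i j) 3) ∨ (k = R.π (R.r i j) 3 ∧ l = R.π (R.r i j) 2) :=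
  compl _ k l hkl (by rwa [R.r_zero hij]) (by rwa [R.r_one hij]) (by rwa [R.r_zero hij])
    (by rwa [R.r_one hij])
theorem at_f2 (hij : i ≠ j) (hkl : k ≠ l) (h1 : k ≠ i) (h2 : k ≠ j) (h3 : l ≠ i) (h4 : l ≠ j)
    (y : SL(2, F)) : ∃ y', R.f k l y = (R.at' i j).f2 y' := by
  have k : ∀ y, ∃ y', R.f (R.π (R.r i j) 2) (R.π (R.r i j) 3) y = (R.at' i j).f2 y' := fun y => by
    obtain ⟨y1, e1⟩ := R.conj_f' (R.r i j) (i := 2) (j := 3) (by decide) y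
    obtain ⟨y2, e2⟩ := R.f23' y1
    exact ⟨y2, by rw [e1, e2]; rfl⟩
  rcases R.compl' hij hkl h1 h2 h3 h4 with ⟨rfl, rfl⟩ | ⟨rfl, rfl⟩
  · exact k y
  · obtain ⟨y1, e⟩ := R.f_symm hkl.symm y
    rw [e]
    exact k y1
theorem dS_H (hij : i ≠ j) (a : F) (ha : a ≠ 0) : R.f i j (dS a ha) ∈ B.H :=
  have _ := hij
  R.N_H (R.r i j).2 (B.f1_dS a ha)
theorem tt_H (hij : i ≠ j) : R.tt i j ∈ B.H :=
  have _ := hij
  R.N_H (R.r i j).2 (B.f1_neg_one.symm ▸ B.t_H : B.f1 (-1) ∈ B.H)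
theorem tt_sq : R.tt i j * R.tt i j = 1 := R.at_t ▸ (R.at' i j).tt
theorem tt_ne : R.tt i j ≠ 1 := R.at_t ▸ (R.at' i j).t_ne
theorem tt_isConj : IsConj B.t (R.tt i j) := isConj_iff.2 ⟨R.r i j, R.at_t⟩
theorem tt_symm (hij : i ≠ j) : R.tt i j = R.tt j i := by
  have e := R.conj_tt ⟨_, R.refl_NV hij⟩ hij
  rw [R.refl_π hij, Equiv.swap_apply_left, Equiv.swap_apply_right] at e
  rw [← e, tt, refl_conj, mul_neg, mul_one, neg_mul, mul_inv_cancel]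
theorem tt23 : R.tt 2 3 = B.t := by
  have e := R.conj_tt ⟨_, B.σ_NV⟩ (i := 0) (j := 1) (by decide)
  rw [πσ0, πσ1, tt01] at e
  exact e.symm.trans B.C_σ.conj_t
theorem tt_compl (hij : i ≠ j) (hkl : k ≠ l) (h1 : k ≠ i) (h2 : k ≠ j) (h3 : l ≠ i) (h4 : l ≠ j) :
    R.tt i j = R.tt k l := by
  have e := R.conj_tt (R.r i j) (i := 2) (j := 3) (by decide)
  rw [tt23] at e
  replace e := R.at_t.symm.trans e
  rcases R.compl' hij hkl h1 h2 h3 h4 with ⟨rfl, rfl⟩ | ⟨rfl, rfl⟩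
  · exact e
  · exact e.trans (R.tt_symm hkl.symm)
theorem πw : R.π ⟨B.w, mul_mem B.f1w_NV B.f2w_NV⟩ = Equiv.swap 0 1 * Equiv.swap 2 3 := by
  rw [← R.s1 B.f1w_NV, ← R.s3 B.f2w_NV, ← map_mul]
  rfl
theorem π_cen (g : B.NV) (hC : B.C g) (e : g * B.u = B.u * g) : (R.π g 0).1 / 2 = (R.π g 1).1 / 2 := by
  refine blocks _ ?_
  rw [← R.πw, ← R.sσ B.σ_NV, ← map_mul, ← map_mul, ← map_mul, ← map_mul, R.ker, R.ker, R.ker, R.ker]
  exact hC.cen_V e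
theorem π_C (g : B.NV) (hC : B.C g) : (R.π g 0).1 / 2 = (R.π g 1).1 / 2 := by
  rcases NV_conj g.2 (Or.inr (Or.inl rfl)) with e | e | e
  · rw [← hC.conj_t, mul_left_inj, mul_right_inj] at e
    exact absurd e B.u_TZ.ne_t
  · exact R.π_cen g hC (mul_inv_eq_iff_eq_mul.1 e)
  · refine blocks' _ ?_
    rw [← R.s1 B.f1w_NV, ← map_mul]
    have c := (B.in_f1 (wS F)).C
    refine R.π_cen _ (c.mul hC) (mul_inv_eq_iff_eq_mul.1 ?_)
    calc _ = B.f1 (wS F) * (g * B.u * (g : G)⁻¹) * (B.f1 (wS F))⁻¹ := by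
          simp only [Subgroup.coe_mul]; group
      _ = B.f1 (wS F) * B.t * (B.f1 (wS F))⁻¹ * (B.f1 (wS F) * B.u * (B.f1 (wS F))⁻¹) := by rw [e]; group
      _ = B.u := by rw [c.conj_t, B.f1w_u, ← mul_assoc, B.tt, one_mul]
theorem tt02 : (R.tt 0 2 = B.u ∧ R.tt 0 3 = B.t * B.u) ∨ (R.tt 0 2 = B.t * B.u ∧ R.tt 0 3 = B.u) := by
  have e3 := R.conj_tt ⟨_, B.f2w_NV⟩ (i := 0) (j := 2) (by decide)
  rw [R.s3, Equiv.swap_apply_left, Equiv.swap_apply_of_ne_of_ne (by decide) (by decide)] at e3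
  rcases NV_conj (R.r 0 2).2 (Or.inl rfl) with e | e | e
  · have := R.π_C (R.r 0 2) (mul_inv_eq_iff_eq_mul.1 e)
    rw [R.r_zero (by decide), R.r_one (by decide)] at this
    exact absurd this (by decide)
  · replace e := R.at_t.symm.trans e
    exact Or.inl ⟨e, by rw [← e3, e]; exact B.f2w_u⟩
  · replace e := R.at_t.symm.trans e
    refine Or.inr ⟨e, ?_⟩
    rw [← e3, e]
    calc _ = B.f2 (wS F) * B.t * (B.f2 (wS F))⁻¹ * (B.f2 (wS F) * B.u * (B.f2 (wS F))⁻¹) := by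
          simp only []; group
      _ = B.u := by rw [(B.in_f2 (wS F)).C.conj_t, B.f2w_u, ← mul_assoc, B.tt, one_mul]
theorem tt_mul (hij : i ≠ j) (hik : i ≠ k) (hil : i ≠ l) (hjk : j ≠ k) (hjl : j ≠ l) (hkl : k ≠ l) :
    R.tt i j * R.tt i k = R.tt i l := by
  obtain ⟨p, rfl, rfl, rfl, rfl⟩ := four i j k l hij hik hil hjk hjl hkl
  obtain ⟨g, rfl⟩ := R.surj p
  rw [← R.conj_tt g (by decide), ← R.conj_tt g (by decide), ← R.conj_tt g (by decide), conj_mul, tt01]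
  rcases R.tt02 with ⟨a, b⟩ | ⟨a, b⟩ <;> rw [a, b]
  rw [← mul_assoc B.t, B.tt, one_mul]
theorem at_u (hij : i ≠ j) (hik : i ≠ k) (hjk : j ≠ k) :
    (R.at' i j).u = R.tt i k ∨ (R.at' i j).u = R.tt i j * R.tt i k := by
  have k0 : ∀ m : Fin 4, m = 2 ∨ m = 3 → B.u = R.tt 0 m ∨ B.u = B.t * R.tt 0 m := by
    rintro m (rfl | rfl) <;> rcases R.tt02 with ⟨a, b⟩ | ⟨a, b⟩
    · exact Or.inl a.symm
    · exact Or.inr (by rw [a, ← mul_assoc, B.tt, one_mul])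
    · exact Or.inr (by rw [b, ← mul_assoc, B.tt, one_mul])
    · exact Or.inl b.symm
  have k1 : ∀ m : Fin 4, m = 2 ∨ m = 3 → (R.at' i j).u = R.tt i (R.π (R.r i j) m) ∨
      (R.at' i j).u = R.tt i j * R.tt i (R.π (R.r i j) m) := fun m hm => by
    have e := R.conj_tt (R.r i j) (i := 0) (j := m) (by rcases hm with rfl | rfl <;> decide)
    rw [R.r_zero hij] at e
    rw [← e, ← R.at_t (i := i) (j := j), at', conj_u, conj_t, conj_mul]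
    exact (k0 m hm).imp (fun a => by rw [← a]) fun a => by rw [← a]
  rcases third (R.π (R.r i j)) k (by rwa [R.r_zero hij]) (by rwa [R.r_one hij]) with rfl | rfl
  exacts [k1 2 (Or.inl rfl), k1 3 (Or.inr rfl)]
theorem x_add (a b : F) : R.x i j (a + b) = R.x i j a * R.x i j b := by rw [x, x, x, upT_add, map_mul]
theorem x_zero : R.x i j 0 = 1 := by rw [x, upT_zero, map_one]
theorem x_neg (a : F) : R.x i j (-a) = (R.x i j a)⁻¹ := by rw [x, x, ← upT_inv, map_inv]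
theorem x_inj {a b : F} (e : R.x i j a = R.x i j b) : a = b :=
  congrArg (fun g : SL(2, F) => g 0 1) (R.f_inj e)
theorem x_pow (a : F) : R.x i j a ^ ringChar F = 1 := up_pow (R.f i j) true a
theorem mem_X {g : G} : g ∈ R.X i j ↔ ∃ a, g = R.x i j a := Iff.rfl
/-- Root elements of complementary roots are independent. -/
theorem x_indep (hij : i ≠ j) (hkl : k ≠ l) (h1 : k ≠ i) (h2 : k ≠ j) (h3 : l ≠ i) (h4 : l ≠ j)
    {a b : F} (e : R.x i j a = R.x k l b) : a = 0 ∧ b = 0 := by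
  obtain ⟨y, hy⟩ := R.at_f2 hij hkl h1 h2 h3 h4 (upT b)
  have a0 : a = 0 := by
    rcases (R.at' i j).f1_eq_f2 (e.trans hy) with ⟨e', -⟩ | ⟨e', -⟩ <;>
      simpa using congrArg (fun g : SL(2, F) => g 0 1) e'
  subst a0
  exact ⟨rfl, R.x_inj (e.symm.trans (R.x_zero.trans R.x_zero.symm))⟩
theorem f_disj (hij : i ≠ j) (hkl : k ≠ l) (h1 : k ≠ i) (h2 : k ≠ j) (h3 : l ≠ i) (h4 : l ≠ j)
    (y z : SL(2, F)) : R.f i j y * R.f k l z = R.f k l z * R.f i j y := by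
  obtain ⟨z', e⟩ := R.at_f2 hij hkl h1 h2 h3 h4 z
  rw [e]
  exact (R.at' i j).f12_comm y z'
theorem Cm_self : R.Cm i j i j := fun a b => by rw [← x_add, ← x_add, add_comm]
theorem Cm_disj (hij : i ≠ j) (hkl : k ≠ l) (h1 : k ≠ i) (h2 : k ≠ j) (h3 : l ≠ i) (h4 : l ≠ j) :
    R.Cm i j k l := fun _ _ => R.f_disj hij hkl h1 h2 h3 h4 _ _
theorem Cm_perm (p : Equiv.Perm (Fin 4)) (hij : i ≠ j) (hkl : k ≠ l) (h : R.Cm i j k l) :
    R.Cm (p i) (p j) (p k) (p l) := fun a b => by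
  obtain ⟨g, rfl⟩ := R.surj p
  obtain ⟨c, hc, e⟩ := R.conj_x g hij
  obtain ⟨d, hd, e'⟩ := R.conj_x g hkl
  rw [← mul_inv_cancel_left₀ hc a, ← mul_inv_cancel_left₀ hd b, ← e, ← e', conj_mul, conj_mul, h]
theorem exists_ac (hh : h ∈ B.H) (hij : i ≠ j) : ∃ c, c ≠ 0 ∧ R.Ac h i j c := by
  have := R.conj_x ⟨h, H_NV hh⟩ hij
  rwa [R.π_H hh] at this
theorem ac_one : R.Ac 1 i j 1 := fun a => by rw [one_mul, one_mul, inv_one, mul_one]
theorem ac_tt_same (hij : i ≠ j) : R.Ac (R.tt i j) i j 1 := fun a => by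
  have _ := hij
  rw [one_mul, tt, x, ← map_inv, ← map_mul, ← map_mul, neg_mul, one_mul, neg_mul, inv_neg, inv_one, mul_neg,
    mul_one, _root_.neg_neg]
theorem ac_dS_same (hij : i ≠ j) (a : F) (ha : a ≠ 0) : R.Ac (R.f i j (dS a ha)) i j (a ^ 2) := fun s => by
  have _ := hij
  have := H52.FW.Act.upT (a := a) (b := a⁻¹) (H52.FW.act_self (R.f i j) (dS a ha)) s
  rwa [div_inv_eq_mul, ← pow_two] at this
theorem ac_disj (hij : i ≠ j) (hkl : k ≠ l) (h1 : k ≠ i) (h2 : k ≠ j) (h3 : l ≠ i) (h4 : l ≠ j)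
    (y : SL(2, F)) : R.Ac (R.f i j y) k l 1 := fun a => by
  rw [one_mul, x, R.f_disj hij hkl h1 h2 h3 h4, mul_inv_cancel_right]
variable {R}
theorem Cm.symm (h : R.Cm i j k l) : R.Cm k l i j := fun a b => (h b a).symm
theorem Ac.unique (h1 : R.Ac h i j c) (h2 : R.Ac h i j c') : c = c' := by
  simpa using R.x_inj ((h1 1).symm.trans (h2 1))
theorem Ac.ne_zero (h1 : R.Ac h i j c) : c ≠ 0 := by
  rintro rfl
  have := h1 1
  rw [zero_mul, x_zero, conj_eq_one_iff] at this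
  exact one_ne_zero (R.x_inj (this.trans R.x_zero.symm))
theorem Ac.mul (h1 : R.Ac h i j c) (h2 : R.Ac h' i j c') : R.Ac (h * h') i j (c * c') := fun a => by
  rw [mul_assoc c, ← h1, ← h2]; group
theorem Ac.inv (h1 : R.Ac h i j c) : R.Ac h⁻¹ i j c⁻¹ := fun a => by
  rw [← mul_inv_cancel_left₀ h1.ne_zero a, ← h1, inv_mul_cancel_left₀ h1.ne_zero]; group
theorem Ac.conj (h1 : R.Ac h i j c) (hij : i ≠ j) (g : B.NV) :
    R.Ac (g * h * (g : G)⁻¹) (R.π g i) (R.π g j) c := fun a => by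
  obtain ⟨d, hd, e⟩ := R.conj_x g hij
  rw [← mul_inv_cancel_left₀ hd a, mul_left_comm c, ← e, ← e, ← h1]; group
theorem Ac.act (h1 : R.Ac h i j c) (hh : h ∈ B.H) (hij : i ≠ j) :
    Act (R.f i j) h !![c, 0; 0, 1] := by
  obtain ⟨d, hd, e⟩ := R.conj_f ⟨h, H_NV hh⟩ hij
  rw [R.π_H hh] at e
  obtain rfl : c = d := h1.unique fun a => e _ _ (up_dg d a)
  exact ⟨det_dg hd, e⟩
theorem Ac.opp (h1 : R.Ac h i j c) (hh : h ∈ B.H) (hij : i ≠ j) : R.Ac h j i c⁻¹ := fun a => by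
  obtain ⟨d, hd, e⟩ := R.lo hij
  rw [← mul_inv_cancel_left₀ hd a, mul_left_comm c⁻¹, ← e, ← e, (h1.act hh hij).loT, one_div]
theorem Ac.refl (h1 : R.Ac h i j c) (hh : h ∈ B.H) (hij : i ≠ j) :
    R.f i j (wS F) * h * (R.f i j (wS F))⁻¹ = h * (R.f i j (dS c h1.ne_zero))⁻¹ := by
  have e := (h1.act hh hij).2 _ _ (dSw_dg c h1.ne_zero)
  rw [map_mul] at e
  rw [H_comm hh (inv_mem (R.dS_H hij c h1.ne_zero)), eq_inv_mul_iff_mul_eq, ← mul_assoc, ← mul_assoc, ← e]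
  group
variable (R)
theorem ac_tt_row (hij : i ≠ j) (hik : i ≠ k) (hjk : j ≠ k) : R.Ac (R.tt i j) i k (-1) := by
  have e : R.Ac (R.at' i k).u i k (-1) := fun a => by
    rw [neg_one_mul]
    exact (R.at' i k).u_rt1 true a
  rcases R.at_u hik hij hjk.symm with e' | e' <;> rw [e'] at e
  · exact e
  · have := (R.ac_tt_same hik).mul e
    rwa [← mul_assoc, tt_sq, one_mul, one_mul] at this
theorem ac_tt_col (hij : i ≠ j) (hik : i ≠ k) (hjk : j ≠ k) : R.Ac (R.tt i j) k i (-1) := by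
  have := (R.ac_tt_row hij hik hjk).opp (R.tt_H hij) hik
  rwa [inv_neg, inv_one] at this
variable {R}
/-- An element commuting with `X i j` and `X j i` commutes with `L i j`. -/
theorem comm_f {g : G} (hij : i ≠ j) (h1 : ∀ a, g * R.x i j a = R.x i j a * g)
    (h2 : ∀ a, g * R.x j i a = R.x j i a * g) (y : SL(2, F)) :
    g * R.f i j y = R.f i j y * g := by
  obtain ⟨c, -, e⟩ := R.lo hij
  exact (Subgroup.mem_centralizer_singleton_iff.1 (mem_of_up_lo (R.f i j) (K := Subgroup.centralizer {g})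
    (fun a => Subgroup.mem_centralizer_singleton_iff.2 (h1 a).symm)
    (fun a => Subgroup.mem_centralizer_singleton_iff.2 (e a ▸ (h2 _).symm)) y)).symm
/-- For `-1` a nonsquare: which of `σ`, `t σ` is conjugate to `t`. -/
theorem tab3 (R : B.Fr) : ∃ x, (x = B.σ ∨ x = B.t * B.σ) ∧ (R.at' 0 2).TZ (-1) x ∧
    (R.at' 0 2).TZ 1 (B.t * x) := by
  have hw : ((R.r 0 2 : G)⁻¹ * B.σ * R.r 0 2) * B.w ∈ B.H :=
    (R.ker ((R.r 0 2)⁻¹ * ⟨_, B.σ_NV⟩ * R.r 0 2 * ⟨B.w, mul_mem B.f1w_NV B.f2w_NV⟩)).1 (by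
      rw [map_mul, map_mul, map_mul, map_inv, πw, R.sσ]
      exact sig02 _ (R.r_zero (by decide)) (R.r_one (by decide)))
  obtain ⟨d, h1, h2⟩ := B.Hw_invol hw (by
    calc _ = (R.r 0 2 : G)⁻¹ * (B.σ * B.σ) * R.r 0 2 := by group
      _ = 1 := by rw [B.σσ, mul_one, inv_mul_cancel])
  replace h1 : (R.at' 0 2).TZ d B.σ := B.conj_TZ.2 h1
  replace h2 : (R.at' 0 2).TZ (-d) (B.σ * (R.at' 0 2).u) := B.conj_TZ.2 (by
    convert h2 using 1
    rw [at', conj_u]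
    group)
  have h3 : (R.at' 0 2).TZ (-d) (B.t * B.σ) := by
    rcases R.at_u (i := 0) (j := 2) (k := 1) (by decide) (by decide) (by decide) with e | e <;>
      rw [e, tt01] at h2
    · rwa [B.C_σ] at h2
    · have := h2.t_mul
      rwa [← R.at_t, ← mul_assoc B.σ, h1.In.C, ← mul_assoc, ← mul_assoc, (R.at' 0 2).tt, one_mul, B.C_σ]
        at this
  rcases h1.cases with rfl | rfl
  · exact ⟨_, Or.inr rfl, h3, by rwa [← mul_assoc, B.tt, one_mul]⟩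
  · exact ⟨_, Or.inl rfl, h1, by rwa [_root_.neg_neg] at h3⟩

end H20.L4.Bs.Fr
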