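import Cfsg.Agent.Lib.L4Q.Fus1

/-! L4Q package Fus2: fusion, part 2 (`-1` a nonsquare). -/

set_option autoImplicit false
set_option linter.unusedSectionVars false

open Matrix H24
open H52.FW (M2 wS dS Act)
open scoped MatrixGroups

namespace H20.L4.Fus2

open Subgroup H69 Fus1 Bs H52.FW

variable {G F : Type*} [Group G] [Finite G] [Field F] [Fintype F] (B : Bs G F) {c : G}

theorem sq_one (s : ¬ IsSquare (-1 : F)) {l : F} (h : l ^ 4 = 1) : l * l = 1 := by
  have : (l * l - 1) * (l * l + 1) = 0 := by linear_combination h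
  rcases mul_eq_zero.1 this with e | e
  · linear_combination e
  · exact (s ⟨l, by linear_combination -e⟩).elim

theorem J_tr : (wS F).1.trace = 0 := by simp [wS_val]

theorem J_det : (wS F).1.det = 1 := (wS F).2

theorem d_t : (-1 : M2 F).det * (1 : M2 F).det = 1 := by simp [det_neg]

/-- Square roots of `t` in `C(t, w)`. -/
theorem root_t (s : ¬ IsSquare (-1 : F)) {y : G} (h : B.C y) (hw : y * B.w = B.w * y)
    (e : y * y = B.t) : ∃ a b : M2 F, a.det * b.det = 1 ∧ y = B.ρ a b ∧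
      a * (wS F).1 = (wS F).1 * a ∧ b * (wS F).1 = (wS F).1 * b := by
  have h2 := B.two
  rcases B.C_iff.1 h with ⟨a, b, hd, rfl⟩ | ⟨a, b, hd, rfl⟩
  · rw [B.w_eq, B.comm_iff hd (by simp)] at hw
    rcases hw with ⟨e1, e2⟩ | ⟨e1, e2⟩
    · exact ⟨a, b, hd, rfl, e1, e2⟩
    have ta := tr_of_anti h2 (g := (wS F).1) (h := a) (by simp) (by rw [e1, _root_.neg_neg])
    have tb := tr_of_anti h2 (g := (wS F).1) (h := b) (by simp) (by rw [e2, _root_.neg_neg])
    rw [← B.mul hd hd, t, B.eq_iff (det_mul' hd hd) d_t, sq_of_tr ta, sq_of_tr tb] at e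
    obtain ⟨l, -, e3, e4⟩ := e
    have e5 := congrFun (congrFun e3 0) 0
    have e6 := congrFun (congrFun e4 0) 0
    simp at e5 e6
    exact (s ⟨l, by linear_combination l ^ 2 * hd + l * b.det * e5 - e6⟩).elim
  · rw [B.out_mul_out hd hd, t, B.eq_iff (det_mul' hd (by rwa [mul_comm])) d_t] at e
    obtain ⟨l, -, e3, e4⟩ := e
    have e5 := congrArg trace e3
    have e6 := congrArg trace e4
    rw [trace_smul, trace_mul_comm, ← trace_smul, ← e4] at e5
    simp at e5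
    exact (h2 (pow_eq_zero_iff two_ne_zero |>.1 (by linear_combination -e5))).elim

theorem s0w (s : ¬ IsSquare (-1 : F)) : ¬ IsConj B.t B.w := fun k => by
  have h2 := B.two
  obtain ⟨g, g1, g2⟩ := B.tz_back B.w_TZ k
  obtain ⟨x, -, e⟩ := B.w_TZ.exists_w
  have tw : B.w * B.t = B.t * B.w := B.w_TZ.In.C
  have n1 : B.f1 x * g * B.t * (B.f1 x * g)⁻¹ = B.w := by
    rw [show B.f1 x * g * B.t * (B.f1 x * g)⁻¹ = B.f1 x * (g * B.t * g⁻¹) * (B.f1 x)⁻¹ by group, g2,
      ← conj_mul, e, (B.in_f1 x).C.conj_t, ← mul_assoc, B.tt, one_mul]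
  have n2 : B.f1 x * g * B.w * (B.f1 x * g)⁻¹ = B.t * B.w := by
    rw [← e, mul_assoc _ g, g1]
    group
  generalize B.f1 x * g = n at n1 n2
  have key : ∀ y, B.C y → y * y = B.w → ∃ a b : M2 F, a.det * b.det = 1 ∧ n⁻¹ * y * n = B.ρ a b ∧
      a * (wS F).1 = (wS F).1 * a ∧ b * (wS F).1 = (wS F).1 * b := fun y hy e => by
    have yw : y * B.w = B.w * y := by rw [← e, mul_assoc]
    refine root_t B s ?_ ?_ ?_
    · rw [C, show B.t = n⁻¹ * B.w * n by rw [← n1]; group]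
      calc _ = n⁻¹ * (y * B.w) * n := by group
        _ = _ := by rw [yw]; group
    · rw [show B.w = n⁻¹ * (B.t * B.w) * n by rw [← n2]; group]
      calc _ = n⁻¹ * (y * B.t * B.w) * n := by group
        _ = _ := by rw [show y * B.t = _ from hy, mul_assoc B.t, yw]; group
    · rw [show B.t = n⁻¹ * B.w * n by rw [← n1]; group, ← e]
      group
  have d1 : (wS F).1.det * (1 : M2 F).det = 1 := by simp
  have d2 : (!![-1, 1; -1, -1] : M2 F).det * (!![2⁻¹, -2⁻¹; 2⁻¹, 2⁻¹] : M2 F).det = 1 := by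
    simp only [det_fin_two_of]
    field_simp
    norm_num
  obtain ⟨a, b, hd, e1, a1, b1⟩ := key _ (Out.C ⟨_, _, d1, rfl⟩) (by
    rw [B.out_mul_out d1 d1, B.w_eq, mul_one, one_mul])
  obtain ⟨a', b', hd', e2, a2, b2⟩ := key _ (Out.C ⟨_, _, d2, rfl⟩) (by
    rw [B.out_mul_out d2 d2, B.w_eq, wS_val]
    congr 1 <;> ext i j <;> fin_cases i <;> fin_cases j <;> simp <;> field_simp <;> norm_num)
  have e3 := (B.comm_iff hd hd').2 (Or.inl ⟨comm_of_comm h2 (by simp) J_tr a1 a2,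
    comm_of_comm h2 (by simp) J_tr b1 b2⟩)
  have cj : ∀ y z : G, n⁻¹ * y * n * (n⁻¹ * z * n) = n⁻¹ * (y * z) * n := fun y z => by group
  rw [← e1, ← e2, cj, cj, mul_left_inj, mul_right_inj, B.out_mul_out d1 d2, B.out_mul_out d2 d1,
    B.eq_iff (det_mul' (by simp) (by rwa [mul_comm])) (det_mul' d2 (by simp))] at e3
  obtain ⟨l, -, e4, -⟩ := e3
  have e5 := congrFun (congrFun e4 0) 0
  have e6 := congrFun (congrFun e4 0) 1
  simp [wS_val] at e5 e6
  exact h2 (by linear_combination e6 - e5)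

theorem sq_diag (s : ¬ IsSquare (-1 : F)) {a b c d : F} (h : a * b * (c * d) = 1)
    (e : B.ρ !![a, 0; 0, b] !![c, 0; 0, d] * B.ρ !![a, 0; 0, b] !![c, 0; 0, d] = 1) :
    a * a = 1 ∧ b * b = 1 ∧ c * c = 1 ∧ d * d = 1 := by
  have hd : (!![a, 0; 0, b] : M2 F).det * (!![c, 0; 0, d] : M2 F).det = 1 := by
    simpa [det_fin_two] using h
  rw [← B.mul hd hd, B.ker (det_mul' hd hd)] at e
  obtain ⟨l, e1, e2⟩ := e
  have a1 := congrFun (congrFun e1 0) 0
  have a2 := congrFun (congrFun e1 1) 1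
  have a3 := congrFun (congrFun e2 0) 0
  have a4 := congrFun (congrFun e2 1) 1
  simp at a1 a2 a3 a4
  have l2 := sq_one s (l := l) (by
    calc l ^ 4 = l * l * (l * l) := by ring
      _ = a * a * (b * b) * (c * c * (d * d)) := by rw [a1, a2, a3, a4]
      _ = (a * b * (c * d)) ^ 2 := by ring
      _ = 1 := by rw [h, one_pow])
  rcases mul_self_eq_one_iff.1 l2 with rfl | rfl
  · exact ⟨a1, a2, a3, a4⟩
  · exact (s ⟨a, a1.symm⟩).elim

theorem sc_one {m : F} (h : m * m = 1) : B.ρ !![m, 0; 0, m] !![m, 0; 0, m] = 1 :=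
  (B.ker (by simp only [det_fin_two_of]; linear_combination (m * m + 1) * h)).2
    ⟨m, by ext i j; fin_cases i <;> fin_cases j <;> simp, by
      ext i j; fin_cases i <;> fin_cases j <;> simp⟩

/-- `C(t, u)` has no element of order four. -/
theorem no4 (s : ¬ IsSquare (-1 : F)) {y : G} (h : B.C y) (hu : y * B.u = B.u * y)
    (e : y * y * (y * y) = 1) : y * y = 1 := by
  have key : ∀ m m' a b c d : F, m * m' = 1 → a * b * (c * d) = 1 → (a = m ∨ a = m') →
      (b = m ∨ b = m') → (c = m ∨ c = m') → (d = m ∨ d = m') →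
      y * y = B.ρ !![a, 0; 0, b] !![c, 0; 0, d] → y * y = 1 := fun m m' a b c d hm h a1 a2 a3 a4 f => by
    rw [f] at e ⊢
    have h1 := (sq_diag B s h e).1
    have h2 : m * m = 1 ∧ m' = m := by
      rcases a1 with rfl | rfl
      · exact ⟨h1, by linear_combination a * hm - m' * h1⟩
      · exact ⟨by linear_combination (m * a + 1) * hm - m * m * h1, by
          linear_combination m * h1 - a * hm⟩
    rw [h2.2, or_self] at a1 a2 a3 a4
    rw [a1, a2, a3, a4, sc_one B h2.1]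
  have dj : ∀ {a b c d : F}, a * b * (c * d) = 1 →
      (!![a, 0; 0, b] : M2 F).det * (!![c, 0; 0, d] : M2 F).det = 1 := fun h => by
    simpa [det_fin_two] using h
  have dw : (wS F).1.det * (wS F).1.det = 1 := by simp
  rcases h.cen_V hu with ⟨a, b, c, d, h, f⟩ | ⟨a, b, c, d, h, f⟩ | ⟨a, b, c, d, h, f⟩ |
    ⟨a, b, c, d, h, f⟩
  · have f2 : y * y = B.ρ !![a * a, 0; 0, b * b] !![c * c, 0; 0, d * d] := by
      rw [f, ← B.mul (dj h) (dj h)]
      simp
    rw [f2] at e ⊢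
    obtain ⟨h1, h2, h3, h4⟩ := sq_diag B s (by linear_combination (a * b * (c * d) + 1) * h) e
    rw [sq_one s (l := a) (by linear_combination h1), sq_one s (l := b) (by linear_combination h2),
      sq_one s (l := c) (by linear_combination h3), sq_one s (l := d) (by linear_combination h4),
      sc_one B (mul_one 1)]
  · have f1 := (eq_mul_inv_of_mul_eq f).trans (by
      rw [inv_eq_of_mul_eq_one_right B.ww, B.w_eq, ← B.mul (dj h) dw])
    refine key (-(a * b)) (-(c * d)) _ _ _ _ (by linear_combination h)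
      (by linear_combination (a * b * (c * d) + 1) * h) (Or.inl rfl) (Or.inl rfl) (Or.inr rfl)
      (Or.inr rfl) ?_
    rw [f1, ← B.mul (det_mul' (dj h) dw) (det_mul' (dj h) dw), wS_val]
    congr 1 <;> ext i j <;> fin_cases i <;> fin_cases j <;> simp <;> ring
  · have f1 := (eq_mul_inv_of_mul_eq f).trans (by rw [B.σ_inv])
    refine key (a * c) (b * d) _ _ _ _ (by linear_combination h)
      (by linear_combination (a * b * (c * d) + 1) * h) (Or.inl rfl) (Or.inr rfl) (Or.inl rfl)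
      (Or.inr rfl) ?_
    rw [f1, B.out_mul_out (dj h) (dj h)]
    congr 1 <;> ext i j <;> fin_cases i <;> fin_cases j <;> simp <;> ring
  · have f1 := (eq_mul_inv_of_mul_eq f).trans (by
      rw [B.wσ_comm, _root_.mul_inv_rev, inv_eq_of_mul_eq_one_right B.ww, B.σ_inv, ← mul_assoc,
        B.w_eq, ← B.mul (dj h) dw])
    refine key (-(a * d)) (-(b * c)) _ _ _ _ (by linear_combination h)
      (by linear_combination (a * b * (c * d) + 1) * h) (Or.inl rfl) (Or.inr rfl) (Or.inr rfl)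
      (Or.inl rfl) ?_
    rw [f1, B.out_mul_out (det_mul' (dj h) dw) (det_mul' (dj h) dw), wS_val]
    congr 1 <;> ext i j <;> fin_cases i <;> fin_cases j <;> simp <;> ring

/-- An element of order four in `C(t, σ, c)` for `c` of type `TZ 1`. -/
theorem ex4 (s : ¬ IsSquare (-1 : F)) (h : B.TZ 1 c) (e : c * B.σ = B.σ * c) :
    ∃ y, B.C y ∧ y * B.σ = B.σ * y ∧ y * c = c * y ∧ B.TZ 1 (y * y) := by
  have h2 := B.two
  obtain ⟨-, a, b, ta, tb, da, db, rfl⟩ := h
  have hd : a.det * b.det = 1 := by rw [da, db, mul_one]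
  rw [B.sw hd, mul_left_inj, B.eq_iff hd (by rwa [mul_comm])] at e
  obtain ⟨l, -, rfl, -⟩ := e
  obtain ⟨k, hk⟩ : ∃ k : F, (2 * k ^ 2) * (2 * k ^ 2) = 1 := by
    by_cases h : IsSquare (2 : F)
    · obtain ⟨r, hr⟩ := h
      have : r ≠ 0 := by rintro rfl; exact h2 (by simpa using hr)
      exact ⟨r⁻¹, by rw [hr]; field_simp⟩
    · obtain ⟨r, r0, hr⟩ := exists_ratio h2 (b := -1) (by simp) (iff_of_false h s)
      exact ⟨r⁻¹, by rw [hr]; field_simp⟩
  have aa := sq_of_tr ta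
  have dc : (k • (1 + a)).det * (k • (1 + a)).det = 1 := by
    rw [trace_fin_two] at ta
    rw [det_fin_two] at da
    have : (k • (1 + a)).det = 2 * k ^ 2 := by
      simp only [det_fin_two]
      simp
      linear_combination k ^ 2 * ta + k ^ 2 * da
    rwa [this]
  have cc : k • (1 + a) * k • (1 + a) = (2 * k ^ 2) • a := by
    rw [smul_mul_smul_comm, mul_add, add_mul, add_mul, aa, da, mul_one, mul_one, one_mul]
    module
  refine ⟨B.ρ (k • (1 + a)) (k • (1 + a)), B.C_ρ dc, (B.sw dc).symm, (B.comm_iff dc hd).2 (Or.inl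
    ⟨by simp [mul_add, add_mul], by simp [mul_add, add_mul, smul_comm k l]⟩), mul_one 1,
    (2 * k ^ 2) • a, (2 * k ^ 2) • a, by simp [ta], by simp [ta], ?_, ?_, by rw [← B.mul dc dc, cc]⟩ <;>
  · rw [det_smul, da]
    simpa [sq] using hk

/-- Elements of `C(t)` whose blocks have square determinant. -/
def M1 : Subgroup G where
  carrier := {c | ∃ a b : M2 F, a.det * b.det = 1 ∧ IsSquare a.det ∧ IsSquare b.det ∧
    (c = B.ρ a b ∨ c = B.ρ a b * B.σ)}
  one_mem' := ⟨1, 1, by simp, by simp, by simp, Or.inl B.ρ_one.symm⟩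
  mul_mem' := by
    rintro _ _ ⟨a, b, h, s1, s2, rfl | rfl⟩ ⟨a', b', h', s3, s4, rfl | rfl⟩
    · exact ⟨_, _, det_mul' h h', det_mul a a' ▸ s1.mul s3, det_mul b b' ▸ s2.mul s4,
        Or.inl (B.mul h h').symm⟩
    · exact ⟨_, _, det_mul' h h', det_mul a a' ▸ s1.mul s3, det_mul b b' ▸ s2.mul s4,
        Or.inr (by rw [B.mul h h', mul_assoc])⟩
    · exact ⟨_, _, det_mul' h (by rwa [mul_comm]), det_mul a b' ▸ s1.mul s4,
        det_mul b a' ▸ s2.mul s3, Or.inr (B.out_mul_ρ h h')⟩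
    · exact ⟨_, _, det_mul' h (by rwa [mul_comm]), det_mul a b' ▸ s1.mul s4,
        det_mul b a' ▸ s2.mul s3, Or.inl (B.out_mul_out h h')⟩
  inv_mem' := by
    have k : ∀ {a b : M2 F}, IsSquare a.det → IsSquare (b.det • a.adjugate).det := fun {a b} h => by
      rw [det_smul, det_adjugate]
      simpa using (IsSquare.sq b.det).mul h
    rintro _ ⟨a, b, h, s1, s2, rfl | rfl⟩
    · exact ⟨_, _, det_inv h, k s1, k s2, Or.inl (B.inv_ρ h)⟩
    · exact ⟨_, _, by rw [mul_comm, det_inv h], k s2, k s1, Or.inr (by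
        rw [_root_.mul_inv_rev, B.σ_inv, B.inv_ρ h, B.sw (det_inv h)])⟩

theorem force_eq_M1 : True := by
  have := @M1.eq_1.{0, 0}
  trivial

theorem sq_of_eq {a b a' b' : M2 F} (h : a.det * b.det = 1) (h' : a'.det * b'.det = 1)
    (e : B.ρ a b = B.ρ a' b') (s : IsSquare a.det) : IsSquare a'.det := by
  obtain ⟨l, -, rfl, -⟩ := (B.eq_iff h h').1 e
  rw [det_smul]
  simpa using (IsSquare.sq l).mul s

theorem tz_M1 (s : ¬ IsSquare (-1 : F)) (h : B.TZ (-1) c) : c ∉ M1 B := by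
  rintro ⟨a, b, hd, s1, -, e | e⟩
  · obtain ⟨h1, a', b', -, -, da, db, rfl⟩ := h
    exact s (da ▸ sq_of_eq B hd (by rw [da, db, h1]) e.symm s1)
  · exact h.In.not_out ⟨a, b, hd, e⟩

theorem mul_M1 {x y : G} (hx : B.C x) (hy : B.C y) (nx : x ∉ M1 B) (ny : y ∉ M1 B) :
    x * y ∈ M1 B := by
  have k : ∀ {z : G} {a b : M2 F}, z ∉ M1 B → a.det * b.det = 1 → (z = B.ρ a b ∨ z = B.ρ a b * B.σ) →
      (a.det ≠ 0 ∧ ¬ IsSquare a.det) ∧ b.det ≠ 0 ∧ ¬ IsSquare b.det := fun {z a b} hz h e => by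
    have e1 : b.det = a.det⁻¹ := eq_inv_of_mul_eq_one_right h
    have e2 : ¬ IsSquare a.det := fun s => hz ⟨a, b, h, s, e1 ▸ s.inv, e⟩
    exact ⟨⟨left_ne_zero_of_mul_eq_one h, e2⟩, right_ne_zero_of_mul_eq_one h,
      fun s => e2 (isSquare_inv.1 (e1 ▸ s))⟩
  have m : ∀ {a b : M2 F}, a.det ≠ 0 ∧ ¬ IsSquare a.det → b.det ≠ 0 ∧ ¬ IsSquare b.det →
      IsSquare (a * b).det := fun {a b} ha hb => by
    obtain ⟨r, -, hr⟩ := exists_ratio ha.1 hb.1 (iff_of_false ha.2 hb.2)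
    exact ⟨r * b.det, by rw [det_mul, hr]; ring⟩
  obtain ⟨a, b, h, e⟩ := B.cen x hx
  obtain ⟨a', b', h', e'⟩ := B.cen y hy
  obtain ⟨s1, s2⟩ := k nx h e
  obtain ⟨s3, s4⟩ := k ny h' e'
  rcases e with rfl | rfl <;> rcases e' with rfl | rfl
  · exact ⟨_, _, det_mul' h h', m s1 s3, m s2 s4, Or.inl (B.mul h h').symm⟩
  · exact ⟨_, _, det_mul' h h', m s1 s3, m s2 s4, Or.inr (by rw [B.mul h h', mul_assoc])⟩
  · exact ⟨_, _, det_mul' h (by rwa [mul_comm]), m s1 s4, m s2 s3, Or.inr (B.out_mul_ρ h h')⟩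
  · exact ⟨_, _, det_mul' h (by rwa [mul_comm]), m s1 s4, m s2 s3, Or.inl (B.out_mul_out h h')⟩

theorem out_M1 (h : B.Out c) (e : c * c = 1) (hM : c ∈ M1 B) :
    IsConj c B.σ ∨ IsConj c (B.t * B.σ) := by
  obtain ⟨a, b, ab, f⟩ := h.form e
  have hd : a.det * b.det = 1 := by rw [← det_mul, ab, det_one]
  obtain ⟨a', b', hd', s1, -, f' | f'⟩ := hM
  · exact (In.not_out ⟨a', b', hd', f'⟩ h).elim
  obtain ⟨k, hk⟩ : IsSquare a.det := by
    rcases f with f | f
    · exact sq_of_eq B hd' hd (mul_right_cancel (f'.symm.trans f)) s1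
    · rw [← mul_assoc, B.t_mul' hd] at f
      exact sq_of_eq B hd' (by simpa [det_neg] using hd) (mul_right_cancel (f'.symm.trans f)) s1
  have k0 : k ≠ 0 := by rintro rfl; simp [hk] at hd
  have hx : (!![k⁻¹, 0; 0, 1] : M2 F).det * (!![k⁻¹, 0; 0, 1] * a).det = 1 := by
    rw [det_mul, hk, det_fin_two_of]
    field_simp
    ring
  have := B.conj_out (a' := 1) (b' := 1) hx hd (one_mul _).symm (by rw [mul_assoc, ab, mul_one, one_mul])
  rw [B.ρ_one, one_mul] at this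
  rcases f with rfl | rfl
  · exact Or.inl (isConj_iff.2 ⟨_, this⟩)
  · exact Or.inr (isConj_iff.2 ⟨_, by rw [← conj_mul, this, (B.C_ρ hx).conj_t]⟩)

theorem core (hG : ∀ H : Subgroup G, H.index ≠ 2) (s : ¬ IsSquare (-1 : F))
    (hT : ∀ d c, B.TZ d c → ¬ IsConj B.t c) (hx : c = B.σ ∨ c = B.t * B.σ) (k : IsConj B.t c) :
    False := by
  have ho : B.Out c := hx.elim (· ▸ B.out_σ) (· ▸ B.in_t.mul_out B.out_σ)
  have out : ∀ z, B.C z → IsConj B.t z → z = B.t ∨ B.Out z := fun z hz kz => by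
    rcases hz.invol (sq_of_conj B.tt kz) (ne_of_conj B.t_ne kz) with e | ⟨d, h⟩ | h | h
    exacts [Or.inl e, (hT d z h kz).elim, (s h.isSquare).elim, Or.inr h]
  have uw : IsConj B.u B.w := by
    obtain ⟨j, hj, e⟩ := B.out_j ho k
    have e1 := e.symm.trans (tz_conj hj B.w_TZ)
    obtain ⟨y, hy, ky⟩ := thompson B hG (M := M1 B) B.u_TZ.In.C B.uu
      (fun g hg => tz_M1 B s (B.u_TZ.conj_C hg)) (fun _ _ => mul_M1 B) B.uu B.u_TZ.ne_one
    have yy := sq_of_conj B.uu ky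
    have yC : B.C y := by
      obtain ⟨a, b, h, -, -, e⟩ := hy
      exact B.C_iff.2 (e.imp (fun e => ⟨a, b, h, e⟩) fun e => ⟨a, b, h, e⟩)
    have nt : ¬ IsConj y c := fun h => hT _ _ B.u_TZ (k.trans (ky.trans h).symm)
    rcases yC.invol yy (ne_of_conj B.u_TZ.ne_one ky) with rfl | ⟨d, h⟩ | h | h
    · exact (nt k).elim
    · rcases h.cases with rfl | rfl
      · exact ky.trans (tz_conj h B.w_TZ)
      · exact (tz_M1 B s h hy).elim
    · exact (s h.isSquare).elim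
    · refine ky.trans (IsConj.trans ?_ e1)
      rcases hx with rfl | rfl
      · exact (out_M1 B h yy hy).resolve_left nt
      · rw [← mul_assoc, B.tt, one_mul]
        exact (out_M1 B h yy hy).resolve_right nt
  have hL : ∀ l ∈ centralizer {B.t} ⊓ centralizer {B.w}, B.C l := fun l hl => (mem_cen B).1 hl.1
  have tw : B.t ∈ centralizer {B.w} := mem_centralizer_singleton_iff.2 (Eq.symm B.w_TZ.In.C)
  obtain ⟨T, hS, tT⟩ := exists_isSylowIn_le (L := centralizer {B.t} ⊓ centralizer {B.w})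
    (pg_zp (k := 1) (by rw [pow_one, sq, B.tt])) (zpowers_le.2 ⟨(mem_cen B).2 B.C_t, tw⟩)
  have tT : B.t ∈ T := tT (mem_zpowers _)
  have hS' : IsSylowIn 2 T (centralizer {B.w}) := by
    refine isSylowIn_of_normalizer (hS.le.trans inf_le_right) (hS.mono
      (le_inf (hS.le.trans inf_le_right) le_normalizer) fun n hn => ⟨?_, hn.1⟩)
    have h1 : n * B.t * n⁻¹ ∈ T := (mem_normalizer_iff.1 hn.2 _).1 tT
    rcases out _ (hL _ (hS.le h1)) (isConj_iff.2 ⟨n, rfl⟩) with e | h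
    · exact (mem_cen B).2 (mul_inv_eq_iff_eq_mul.1 e)
    refine (not_cen B hS hL wS_sq ⟨(mem_cen B).2 (B.in_f1 _).C, mem_centralizer_singleton_iff.2 (by
      rw [w, mul_assoc, B.f12_comm, ← B.f12_comm, ← mul_assoc])⟩ h fun y hy => ?_).elim
    have h2 : n⁻¹ * y * n * B.t = _ := hL _ (hS.le ((mem_normalizer_iff''.1 hn.2 _).1 hy))
    calc _ = n * (n⁻¹ * y * n * B.t) * n⁻¹ := by group
      _ = _ := by rw [h2]; group
  obtain ⟨g, hg⟩ := isConj_iff.1 uw
  obtain ⟨m, hm, e⟩ := cj_mem_syl hS' (x := g * B.t * g⁻¹) (mem_centralizer_singleton_iff.2 (by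
    rw [← hg, conj_mul, conj_mul, B.tu_comm])) (k := 1) (by
      rw [pow_one, sq, conj_mul, B.tt, mul_one, mul_inv_cancel])
  have e1 : (B.conj (m * g)).u = B.w := by
    rw [conj_u, show m * g * B.u * (m * g)⁻¹ = m * (g * B.u * g⁻¹) * m⁻¹ by group, hg,
      mem_centralizer_singleton_iff.1 hm, mul_inv_cancel_right]
  have e2 : (B.conj (m * g)).t ∈ T := by
    rwa [conj_t, show m * g * B.t * (m * g)⁻¹ = m * (g * B.t * g⁻¹) * m⁻¹ by group]
  rcases out _ (hL _ (hS.le e2)) (isConj_conj_t B _).symm with e | h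
  · refine B.w_TZ.excl s ?_
    rw [← e1]
    exact B.u_TZ.conj_C (mul_inv_eq_iff_eq_mul.1 e)
  obtain ⟨A, hA, f⟩ := h.std (B.conj (m * g)).tt
  have wA := (hA.hTZ _ _).2 B.w_TZ
  have c1 : B.w * (B.conj (m * g)).t = (B.conj (m * g)).t * B.w :=
    (mem_centralizer_singleton_iff.1 (hS.le e2).2).symm
  obtain ⟨y, y1, y2, y3, y4⟩ := ex4 A s wA (by
    rcases f with f | f <;> rw [f] at c1
    · exact c1
    · rwa [← mul_assoc, show B.w * A.t = _ from wA.In.C, mul_assoc, mul_assoc,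
        mul_right_inj] at c1)
  refine y4.ne_one (no4 (B.conj (m * g)) s ?_ (by rw [e1, y3]) y4.sq)
  rcases f with f | f <;> rw [C, f]
  · exact y2
  · rw [← mul_assoc, show y * A.t = _ from y1, mul_assoc, y2, mul_assoc]

end H20.L4.Fus2

namespace H20.L4.Bs

open Fus1 Fus2

variable {G F : Type*} [Group G] [Finite G] [Field F] [Fintype F] (B : Bs G F) {c : G}

theorem fus_s0 (s : ¬ IsSquare (-1 : F)) (h : B.TZ 1 c) : ¬ IsConj B.t c := fun k =>
  s0w B s (k.trans (tz_conj h B.w_TZ))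

theorem fus_u3 (hG : ∀ H : Subgroup G, H.index ≠ 2) (s : ¬ IsSquare (-1 : F)) :
    IsConj B.t B.u := by
  by_contra n
  have hT : ∀ d c, B.TZ d c → ¬ IsConj B.t c := fun d c h k => by
    rcases h.cases with rfl | rfl
    · exact B.fus_s0 s h k
    · exact n (k.trans (tz_conj h B.u_TZ))
  obtain ⟨c, k, hc, e⟩ := B.exists_conj hG
  have cc := sq_of_conj B.tt k
  rcases hc.invol cc (ne_of_conj B.t_ne k) with f | ⟨d, h⟩ | h | h
  · exact e f
  · exact hT d c h k
  · exact s h.isSquare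
  · obtain ⟨A, hA, f⟩ := h.std cc
    exact core A hG s (fun d c h => hA.t ▸ hT d c ((hA.hTZ _ _).1 h)) f (hA.t ▸ k)

theorem fus (hG : ∀ H : Subgroup G, H.index ≠ 2) : B.Fus where
  u := (em _).elim (B.fus_u1 hG) (B.fus_u3 hG)
  s1 _ := B.fus_s1
  s0 s _ := B.fus_s0 s
  out s c h _ k k' := by
    obtain ⟨j, hj, e⟩ := B.out_j h k
    exact B.fus_s0 s hj (k'.trans e.symm)
  five h5 _ := B.fus_five hG h5
  syl := B.fus_syl

end H20.L4.Bs
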