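import Cfsg.Agent.Lib.L4Q.FrT

/-! L4Q package Inv: odd order subgroups of `C(t)` normalized by `H`. -/

set_option autoImplicit false
set_option linter.unusedSectionVars false

open Matrix H24
open H52.FW (M2 wS dS Act)
open scoped MatrixGroups

namespace H20.L4.Inv

/-- If the `n`-th powers act trivially, `n` odd, then the orbits have odd length. -/
theorem odd_orbit {Γ X : Type*} [Group Γ] [Finite X] [MulAction Γ X] {n : ℕ} (hn : Odd n)
    (h : ∀ (g : Γ) (x : X), g ^ n • x = x) (x : X) : Odd (Nat.card (MulAction.orbit Γ x)) := by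
  classical
  let K := (MulAction.toPermHom Γ X).range
  have hK : ∀ k : K, k ^ n = 1 := by
    rintro ⟨_, g, rfl⟩
    refine Subtype.ext ?_
    change MulAction.toPermHom Γ X g ^ n = 1
    rw [← map_pow]
    exact Equiv.ext fun y => h g y
  have ho : Odd (Nat.card K) := by
    by_contra hc
    have h2 : 2 ∣ Nat.card K := (Nat.not_odd_iff_even.1 hc).two_dvd
    haveI : Fact (Nat.Prime 2) := ⟨Nat.prime_two⟩
    obtain ⟨k, hk⟩ := exists_prime_orderOf_dvd_card' 2 h2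
    have := orderOf_dvd_of_pow_eq_one (hK k)
    rw [hk] at this
    exact (Nat.not_even_iff_odd.2 hn) (even_iff_two_dvd.2 this)
  have e : MulAction.orbit Γ x = MulAction.orbit K x := by
    ext y
    constructor
    · rintro ⟨g, rfl⟩
      exact ⟨⟨_, g, rfl⟩, rfl⟩
    · rintro ⟨⟨_, g, rfl⟩, rfl⟩
      exact ⟨g, rfl⟩
  rw [e]
  refine Odd.of_dvd_nat ho ?_
  rw [Nat.card_congr (MulAction.orbitEquivQuotientStabilizer K x)]
  exact Subgroup.card_quotient_dvd_card _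

variable {F : Type*} [Field F]

/-- A matrix with an odd scalar power has nonzero trace. -/
theorem tr_ne (h2 : (2 : F) ≠ 0) {a : M2 F} (hd : a.det ≠ 0) {n : ℕ} (hn : Odd n) {l : F}
    (e : a ^ n = l • (1 : M2 F)) : a.trace ≠ 0 := by
  intro t
  obtain ⟨m, rfl⟩ := hn
  rw [pow_succ, pow_mul, sq, H52.FW.sq_of_tr t, smul_pow, one_pow, smul_mul_assoc, one_mul] at e
  have e1 := congrArg trace e
  have e2 := congrArg det e
  rw [trace_smul, trace_smul, t, trace_one] at e1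
  simp only [mul_zero, Fintype.card_fin, Nat.cast_ofNat, smul_eq_mul] at e1
  have hl : l = 0 := (mul_eq_zero.1 e1.symm).resolve_right h2
  rw [hl, zero_smul, det_smul, det_zero] at e2
  simp only [mul_eq_zero, pow_eq_zero_iff', neg_eq_zero] at e2
  rcases e2 with e2 | e2
  · exact hd e2.1.1
  · exact hd e2

theorem tri [Fintype F] (hq : Odd (Fintype.card F)) (h2 : (2 : F) ≠ 0) (Γ : Subgroup (GL (Fin 2) F))
    {n : ℕ} (hn : Odd n) (hp : ∀ g ∈ Γ, ∃ l : F, g.1 ^ n = l • (1 : M2 F))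
    (hD : ∀ g ∈ Γ, ∀ s : F, s ≠ 0 → ∃ g' ∈ Γ, g' 0 0 = s * g 0 0 ∧ g' 1 0 = g 1 0) :
    (∀ g ∈ Γ, g 1 0 = 0) ∨ (∀ g ∈ Γ, g 0 1 = 0) := by
  classical
  by_contra hc
  push Not at hc
  obtain ⟨⟨g, hg, g1⟩, g', hg', g2⟩ := hc
  have hodd := odd_orbit (Γ := Γ) (X := OnePoint F) hn (fun k x => by
    obtain ⟨l, hl⟩ := hp k k.2
    have hl0 : l ≠ 0 := by
      rintro rfl
      have := (k.1 ^ n).det_ne_zero
      rw [Units.val_pow_eq_pow_val, hl, zero_smul, det_zero] at this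
      exact this rfl
    have v : ∀ i j, (k.1 ^ n) i j = (l • (1 : M2 F)) i j := fun i j => by rw [← hl]; rfl
    change (k.1 ^ n) • x = x
    cases x with
    | infty => rw [OnePoint.smul_infty_eq_self_iff, v]; simp
    | coe c => rw [OnePoint.smul_some_eq_ite, v, v, v, v]; simp [hl0]) (OnePoint.infty : OnePoint F)
  obtain ⟨k, hk, k0, k1⟩ : ∃ k ∈ Γ, k 0 0 ≠ 0 ∧ k 1 0 ≠ 0 := by
    by_cases h0 : g 0 0 = 0
    swap
    · exact ⟨g, hg, h0, g1⟩
    obtain ⟨l, hl⟩ := hp g hg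
    have t := tr_ne h2 g.det_ne_zero hn hl
    have d := g.det_ne_zero
    rw [trace_fin_two] at t
    rw [det_fin_two] at d
    change g 0 0 + g 1 1 ≠ 0 at t
    change g 0 0 * g 1 1 - g 0 1 * g 1 0 ≠ 0 at d
    rw [h0] at t d
    refine ⟨g * g, Γ.mul_mem hg hg, ?_, ?_⟩
    · simp only [Units.val_mul, mul_apply, Fin.sum_univ_two, h0]
      intro e; apply d; linear_combination -e
    · simp only [Units.val_mul, mul_apply, Fin.sum_univ_two, h0]
      simpa [g1] using t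
  have hne : ∀ c : F, c ≠ 0 → (c : OnePoint F) ∈ MulAction.orbit Γ (OnePoint.infty : OnePoint F) := by
    intro c hc
    obtain ⟨k', hk', e0, e1⟩ := hD k hk (c * k 1 0 / k 0 0) (by positivity)
    refine ⟨⟨k', hk'⟩, ?_⟩
    change k' • (OnePoint.infty : OnePoint F) = c
    rw [OnePoint.smul_infty_eq_ite, e0, e1, if_neg k1]
    congr 1
    field_simp
  have h0 : ((0 : F) : OnePoint F) ∈ MulAction.orbit Γ (OnePoint.infty : OnePoint F) := by
    have : (⟨g', hg'⟩ : Γ) • ((0 : F) : OnePoint F) ∈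
        MulAction.orbit Γ (OnePoint.infty : OnePoint F) := by
      change g' • ((0 : F) : OnePoint F) ∈ _
      rw [OnePoint.smul_some_eq_ite]
      split_ifs with h
      · exact MulAction.mem_orbit_self _
      · refine hne _ (div_ne_zero (by simpa using g2) h)
    have := MulAction.mem_orbit_of_mem_orbit (⟨g', hg'⟩ : Γ)⁻¹ this
    rwa [inv_smul_smul] at this
  have hu : MulAction.orbit Γ (OnePoint.infty : OnePoint F) = Set.univ := by
    refine Set.eq_univ_of_forall fun x => ?_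
    cases x with
    | infty => exact MulAction.mem_orbit_self _
    | coe c =>
      by_cases hc : c = 0
      · rw [hc]; exact h0
      · exact hne c hc
  rw [hu, Nat.card_univ] at hodd
  change Odd (Nat.card (Option F)) at hodd
  rw [Finite.card_option, Nat.card_eq_fintype_card] at hodd
  exact (Nat.not_even_iff_odd.2 hodd) hq.add_one

/-- The set version of `tri`. -/
theorem tri' [Fintype F] (hq : Odd (Fintype.card F)) (h2 : (2 : F) ≠ 0) (S : M2 F → Prop)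
    (h1 : S 1) (hm : ∀ a b, S a → S b → S (a * b)) (hi : ∀ a b, S a → a * b = 1 → S b)
    (hd : ∀ a, S a → a.det ≠ 0) {n : ℕ} (hn : Odd n) (hp : ∀ a, S a → ∃ l : F, a ^ n = l • (1 : M2 F))
    (hD : ∀ a, S a → ∀ s : F, s ≠ 0 → S !![a 0 0, s * a 0 1; s⁻¹ * a 1 0, a 1 1]) :
    ∃ e : Bool, ∀ a, S a → if e then a 1 0 = 0 else a 0 1 = 0 := by
  let Γ : Subgroup (GL (Fin 2) F) :=
    { carrier := {g | ∃ c : F, c ≠ 0 ∧ S (c • g.1)}
      one_mem' := ⟨1, one_ne_zero, by simpa using h1⟩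
      mul_mem' := by
        rintro g g' ⟨c, hc, h⟩ ⟨c', hc', h'⟩
        refine ⟨c * c', mul_ne_zero hc hc', ?_⟩
        have := hm _ _ h h'
        rwa [smul_mul_smul_comm] at this
      inv_mem' := by
        rintro g ⟨c, hc, h⟩
        refine ⟨c⁻¹, inv_ne_zero hc, hi _ _ h ?_⟩
        rw [smul_mul_smul_comm, mul_inv_cancel₀ hc, one_smul, Units.mul_inv] }
  have hS : ∀ a, (h : S a) → GeneralLinearGroup.mkOfDetNeZero a (hd a h) ∈ Γ := fun a h =>
    ⟨1, one_ne_zero, by simpa using h⟩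
  have := tri hq h2 Γ hn (by
    rintro g ⟨c, hc, h⟩
    obtain ⟨l, hl⟩ := hp _ h
    refine ⟨(c ^ n)⁻¹ * l, ?_⟩
    rw [mul_smul, ← hl, smul_pow, smul_smul, inv_mul_cancel₀ (pow_ne_zero _ hc), one_smul]) (by
    rintro g ⟨c, hc, h⟩ s hs
    have d := g.det_ne_zero
    rw [det_fin_two] at d
    refine ⟨GeneralLinearGroup.mkOfDetNeZero
      !![s * g 0 0, s * s * g 0 1; g 1 0, s * g 1 1] ?_, ⟨c * s⁻¹, by positivity, ?_⟩, rfl, rfl⟩
    · rw [det_fin_two_of]
      have := mul_ne_zero (mul_ne_zero hs hs) d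
      intro e; apply this; linear_combination e
    · convert hD _ h s hs using 1
      ext i j
      fin_cases i <;> fin_cases j <;> simp <;> field_simp)
  rcases this with h | h
  · exact ⟨true, fun a ha => h _ (hS a ha)⟩
  · exact ⟨false, fun a ha => h _ (hS a ha)⟩

/-- A triangular matrix inverted by `D` modulo scalars is a multiple of a transvection. -/
theorem eq_rt {a : M2 F} (e : Bool) (he : if e then a 1 0 = 0 else a 0 1 = 0) (t : a.trace ≠ 0)
    (hd : a.det ≠ 0) {l : F} (h : DD F * a * DD F * a = l • (1 : M2 F)) :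
    a 0 0 ^ 2 = l ∧ ∃ k, a = a 0 0 • (rt e k).1 := by
  have e0 := congrFun (congrFun h 0) 0
  have e1 := congrFun (congrFun h 1) 1
  simp [DD, mul_apply, Fin.sum_univ_two, vecMul, dotProduct] at e0 e1
  rw [trace_fin_two] at t
  rw [det_fin_two] at hd
  have hz : a 0 1 * a 1 0 = 0 := by cases e <;> simp_all
  have hv : a 1 1 = a 0 0 := by
    have : (a 1 1 - a 0 0) * (a 0 0 + a 1 1) = 0 := by linear_combination e1 - e0
    exact sub_eq_zero.1 ((mul_eq_zero.1 this).resolve_right t)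
  have h0 : a 0 0 ≠ 0 := by
    intro e; apply hd; rw [e, hz]; ring
  refine ⟨by linear_combination e0 + hz, ?_⟩
  cases e
  · refine ⟨a 1 0 / a 0 0, ?_⟩
    simp only [Bool.false_eq_true, ↓reduceIte] at he
    ext i j
    fin_cases i <;> fin_cases j <;> simp [rt, he, hv]
    field_simp
  · refine ⟨a 0 1 / a 0 0, ?_⟩
    simp only [↓reduceIte] at he
    ext i j
    fin_cases i <;> fin_cases j <;> simp [rt, he, hv]
    field_simp

end H20.L4.Inv

namespace H20.L4.Bs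

variable {G F : Type*} [Group G] [Finite G] [Field F] [Fintype F] (B : Bs G F)

theorem inv_odd {W : Subgroup G} (hC : ∀ y ∈ W, B.C y) (hW : Odd (Nat.card W))
    (hH : ∀ h ∈ B.H, ∀ y ∈ W, h * y * h⁻¹ ∈ W) : ∃ e e' : Bool, ∀ y ∈ W,
      B.u * y * B.u⁻¹ = y⁻¹ → ∃ a b, y = B.f1 (rt e a) * B.f2 (rt e' b) := by
  have hn : ∀ y ∈ W, y ^ Nat.card W = 1 := fun y hy => by
    exact congrArg Subtype.val (pow_card_eq_one' (x := (⟨y, hy⟩ : W)))
  have hp : ∀ a b : M2 F, a.det * b.det = 1 → B.ρ a b ∈ W →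
      ∃ l : F, a ^ Nat.card W = l • (1 : M2 F) ∧ b ^ Nat.card W = l • (1 : M2 F) := by
    intro a b h hy
    have := hn _ hy
    rwa [B.pow_ρ h, B.ker (by rw [det_pow, det_pow, ← mul_pow, h, one_pow])] at this
  have hinv : ∀ a a' : M2 F, ∀ d : F, a.det * d = 1 → a * a' = 1 → a' = d • a.adjugate := by
    intro a a' d h e
    have := congrArg (fun m => (d • a.adjugate) * m) e
    simp only [← mul_assoc, smul_mul_assoc, adjugate_mul, smul_smul, mul_one, mul_comm d, h,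
      one_smul, one_mul] at this
    exact this
  have hconj : ∀ (a : M2 F) (s : F), s ≠ 0 → !![s, 0; 0, 1] * a =
      !![a 0 0, s * a 0 1; s⁻¹ * a 1 0, a 1 1] * !![s, 0; 0, 1] := by
    intro a s hs
    ext i j
    fin_cases i <;> fin_cases j <;> simp [mul_apply, Fin.sum_univ_two, vecMul, dotProduct] <;>
      field_simp
  have hdet : ∀ (a : M2 F) (s : F), s ≠ 0 →
      (!![a 0 0, s * a 0 1; s⁻¹ * a 1 0, a 1 1] : M2 F).det = a.det := by
    intro a s hs
    rw [det_fin_two_of, det_fin_two]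
    field_simp
  have hD : ∀ a b : M2 F, a.det * b.det = 1 → B.ρ a b ∈ W → ∀ s : F, s ≠ 0 →
      B.ρ !![a 0 0, s * a 0 1; s⁻¹ * a 1 0, a 1 1]
        !![b 0 0, s⁻¹ * b 0 1; s⁻¹⁻¹ * b 1 0, b 1 1] ∈ W := by
    intro a b h hy s hs
    rw [← B.conj_ρ (x := !![s, 0; 0, 1]) (y := !![s⁻¹, 0; 0, 1]) (by simp [det_fin_two, hs]) h
      (hconj a s hs) (hconj b s⁻¹ (inv_ne_zero hs))]
    exact hH _ ⟨s, 1, s⁻¹, 1, by simp [hs], rfl⟩ _ hy
  obtain ⟨e, he⟩ := Inv.tri' B.odd B.two (fun a => ∃ b, a.det * b.det = 1 ∧ B.ρ a b ∈ W)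
    ⟨1, by simp, by rw [B.ρ_one]; exact W.one_mem⟩
    (by
      rintro a a' ⟨b, h, hy⟩ ⟨b', h', hy'⟩
      exact ⟨b * b', det_mul' h h', by rw [B.mul h h']; exact W.mul_mem hy hy'⟩)
    (by
      rintro a a' ⟨b, h, hy⟩ e
      rw [hinv a a' _ h e]
      exact ⟨_, det_inv h, by rw [← B.inv_ρ h]; exact W.inv_mem hy⟩)
    (by rintro a ⟨b, h, -⟩; exact left_ne_zero_of_mul_eq_one h) hW
    (by rintro a ⟨b, h, hy⟩; exact (hp a b h hy).imp fun _ h => h.1)
    (by
      rintro a ⟨b, h, hy⟩ s hs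
      exact ⟨_, by rw [hdet a s hs, hdet b _ (inv_ne_zero hs), h], hD a b h hy s hs⟩)
  obtain ⟨e', he'⟩ := Inv.tri' B.odd B.two (fun b => ∃ a, a.det * b.det = 1 ∧ B.ρ a b ∈ W)
    ⟨1, by simp, by rw [B.ρ_one]; exact W.one_mem⟩
    (by
      rintro b b' ⟨a, h, hy⟩ ⟨a', h', hy'⟩
      exact ⟨a * a', det_mul' h h', by rw [B.mul h h']; exact W.mul_mem hy hy'⟩)
    (by
      rintro b b' ⟨a, h, hy⟩ e
      rw [hinv b b' a.det (by rw [mul_comm, h]) e]
      exact ⟨_, det_inv h, by rw [← B.inv_ρ h]; exact W.inv_mem hy⟩)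
    (by rintro b ⟨a, h, -⟩; exact right_ne_zero_of_mul_eq_one h) hW
    (by rintro b ⟨a, h, hy⟩; exact (hp a b h hy).imp fun _ h => h.2)
    (by
      rintro b ⟨a, h, hy⟩ s hs
      have := hD a b h hy s⁻¹ (inv_ne_zero hs)
      simp only [inv_inv] at this
      refine ⟨_, ?_, this⟩
      have e1 := hdet a s⁻¹ (inv_ne_zero hs)
      rw [inv_inv] at e1
      rw [e1, hdet b s hs, h])
  refine ⟨e, e', fun y hy hu => ?_⟩
  obtain ⟨a, b, h, rfl⟩ := (hC y hy).in_of_odd hW (hn y hy)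
  obtain ⟨l, hl1, hl2⟩ := hp a b h hy
  have ha := left_ne_zero_of_mul_eq_one h
  have hb := right_ne_zero_of_mul_eq_one h
  have hDD : DD F * DD F = 1 := by
    ext i j; fin_cases i <;> fin_cases j <;> simp [DD]
  have dD : (DD F).det = -1 := by simp [DD, det_fin_two]
  have hd' : (DD F * a * DD F).det * (DD F * b * DD F).det = 1 := by
    simp only [det_mul, dD]; linear_combination h
  rw [u, B.conj_ρ (a' := DD F * a * DD F) (b' := DD F * b * DD F) (by rw [dD]; ring) h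
    (by rw [mul_assoc, hDD, mul_one]) (by rw [mul_assoc, hDD, mul_one]), eq_inv_iff_mul_eq_one,
    ← B.mul hd' h, B.ker (det_mul' hd' h)] at hu
  obtain ⟨m, m1, m2⟩ := hu
  obtain ⟨s1, k, ek⟩ := Inv.eq_rt e (he a ⟨b, h, hy⟩) (Inv.tr_ne B.two ha hW hl1) ha m1
  obtain ⟨s2, k', ek'⟩ := Inv.eq_rt e' (he' b ⟨a, h, hy⟩) (Inv.tr_ne B.two hb hW hl2) hb m2
  refine ⟨k, k', ?_⟩
  have d1 : a.det = a 0 0 ^ 2 := by
    conv_lhs => rw [ek]
    simp
  have d2 : b.det = b 0 0 ^ 2 := by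
    conv_lhs => rw [ek']
    simp
  have h4 : a 0 0 ^ 4 = 1 := by rw [d1, d2, s2, ← s1] at h; linear_combination h
  have hr : (rt e k).1.det * (rt e' k').1.det = 1 := by simp
  have : (b 0 0 - a 0 0) * (b 0 0 + a 0 0) = 0 := by linear_combination s2 - s1
  rcases mul_eq_zero.1 this with e1 | e1
  · rw [B.f12, ← B.smul_ρ hr h4, ← ek, ← sub_eq_zero.1 e1, ← ek']
  · exfalso
    have e2 : B.ρ a b = B.t * (B.f1 (rt e k) * B.f2 (rt e' k')) := by
      rw [B.f12, B.t_mul' hr, ← B.smul_ρ (a := (rt e k).1) (b := -(rt e' k').1)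
        (by simp [det_neg]) h4, ← ek, smul_neg, ← neg_smul, ← eq_neg_of_add_eq_zero_left e1, ← ek']
    have c1 : Commute B.t (B.f1 (rt e k) * B.f2 (rt e' k')) :=
      ((B.in_f1 _).C.mul (B.in_f2 _).C).symm
    have c2 : Commute (B.f1 (rt e k)) (B.f2 (rt e' k')) := B.f12_comm _ _
    have e3 := hn _ hy
    have e4 : B.ρ a b ^ ringChar F = B.t ^ ringChar F := by
      rw [e2, c1.mul_pow, c2.mul_pow, up_pow, up_pow, mul_one, mul_one]
    have e5 : B.t ^ (ringChar F * Nat.card W) = 1 := by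
      rw [pow_mul, ← e4, ← pow_mul, mul_comm, pow_mul, e3, one_pow]
    have := orderOf_dvd_of_pow_eq_one e5
    rw [B.t_order] at this
    exact (Nat.not_even_iff_odd.2 (B.p_odd.mul hW)) (even_iff_two_dvd.2 this)

variable {B} in
theorem Fr.inv_odd (R : B.Fr) {k : Fin 4} (hk : k = 2 ∨ k = 3) {W : Subgroup G}
    (hC : ∀ y ∈ W, y * R.tt 0 k = R.tt 0 k * y) (hW : Odd (Nat.card W))
    (hH : ∀ h ∈ B.H, ∀ y ∈ W, h * y * h⁻¹ ∈ W) : ∃ i j m n : Fin 4,
      (i.1 < 2 ↔ ¬ j.1 < 2) ∧ (m.1 < 2 ↔ ¬ n.1 < 2) ∧ m ≠ i ∧ m ≠ j ∧ n ≠ i ∧ n ≠ j ∧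
      ∀ y ∈ W, B.t * y * B.t⁻¹ = y⁻¹ → ∃ a b, y = R.x i j a * R.x m n b := by
  have h0k : (0 : Fin 4) ≠ k := by rcases hk with rfl | rfl <;> decide
  have hk1 : k ≠ 1 := by rcases hk with rfl | rfl <;> decide
  obtain ⟨e, e', h⟩ := (R.at' 0 k).inv_odd (W := W) (fun y hy => by
    rw [C, R.at_t]; exact hC y hy) hW (by rw [R.at_H]; exact hH)
  obtain ⟨c, -, hc⟩ := R.at_rt1 h0k e
  obtain ⟨m, n, c', hmn, m0, mk, n0, nk, -, hc'⟩ := R.at_rt2 h0k e'
  have hu : ∀ y ∈ W, B.t * y * B.t⁻¹ = y⁻¹ →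
      (R.at' 0 k).u * y * (R.at' 0 k).u⁻¹ = y⁻¹ := by
    intro y hy ht
    rcases R.at_u (k := 1) h0k (by decide) hk1 with e1 | e1 <;> rw [e1, R.tt01]
    · exact ht
    · calc _ = R.tt 0 k * (B.t * y * B.t⁻¹) * (R.tt 0 k)⁻¹ := by group
        _ = _ := by rw [ht, ← hC _ (W.inv_mem hy), mul_inv_cancel_right]
  have hmn' : m.1 < 2 ↔ ¬ n.1 < 2 := by
    revert m n
    rcases hk with rfl | rfl <;> intro m n <;> intros <;> fin_cases m <;> fin_cases n <;> simp_all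
  have hk2 : ¬ k.1 < 2 := by rcases hk with rfl | rfl <;> decide
  cases e
  · refine ⟨k, 0, m, n, by simp [hk2], hmn', mk, m0, nk, n0, fun y hy ht => ?_⟩
    obtain ⟨a, b, e1⟩ := h y hy (hu y hy ht)
    exact ⟨c * a, c' * b, by rw [e1, hc, hc']; simp⟩
  · refine ⟨0, k, m, n, by simp [hk2], hmn', m0, mk, n0, nk, fun y hy ht => ?_⟩
    obtain ⟨a, b, e1⟩ := h y hy (hu y hy ht)
    exact ⟨c * a, c' * b, by rw [e1, hc, hc']; simp⟩

end H20.L4.Bs
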