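import Cfsg.Agent.Lib.L4Q.Defs

/-! L4Q package T1: arithmetic in the coordinates. -/

set_option autoImplicit false
set_option linter.unusedSectionVars false

open Matrix H24
open H52.FW (M2 wS dS Act)
open scoped MatrixGroups

namespace H20.L4.Bs

variable {G F : Type*} [Group G] [Field F] [Fintype F] (B : Bs G F)
  {a b a' b' x y : M2 F} {c d g : G}

theorem sq_eq_one_iff_of_ne_zero_aux {l : F} (h : l ^ 2 = 1) : l = 1 ∨ l = -1 :=
  mul_self_eq_one_iff.1 (by rw [← sq, h])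
theorem cj_iff {v : G} : c = g * v * g⁻¹ ↔ g⁻¹ * c * g = v :=
  ⟨fun h => by rw [h]; group, fun h => by rw [← h]; group⟩
theorem det_of (hx : x.det * y.det = 1) (h : a.det * b.det = 1) (e1 : x * a = a' * x)
    (e2 : y * b = b' * y) : a'.det * b'.det = 1 := by
  replace e1 := congrArg det e1
  replace e2 := congrArg det e2
  rw [det_mul, det_mul] at e1 e2
  linear_combination (a.det * b.det - a'.det * b'.det) * hx - y.det * b'.det * e1 -
    x.det * a.det * e2 + h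
theorem det_of' (hx : x.det * y.det = 1) (h : a.det * b.det = 1) (e1 : x * a = a' * y)
    (e2 : y * b = b' * x) : a'.det * b'.det = 1 := by
  replace e1 := congrArg det e1
  replace e2 := congrArg det e2
  rw [det_mul, det_mul] at e1 e2
  linear_combination (a.det * b.det - a'.det * b'.det) * hx - x.det * b'.det * e1 -
    x.det * a.det * e2 + h
theorem trace_conj' (h : x.det ≠ 0) (a : M2 F) : (x * a * x⁻¹).trace = a.trace := by
  rw [trace_mul_comm, ← mul_assoc, nonsing_inv_mul _ h.isUnit, one_mul]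
theorem unip_of {k : ℕ} (e : x ^ ringChar F ^ k = 1) : x.det = 1 ∧ x.trace = 2 := by
  have : Fact (ringChar F).Prime := ⟨CharP.char_is_prime F _⟩
  have hn : IsNilpotent (x - 1) := ⟨ringChar F ^ k, by
    rw [sub_pow_char_pow_of_commute _ _ (Commute.one_right x), e, one_pow, sub_self]⟩
  have h1 := (isNilpotent_trace_of_isNilpotent hn).eq_zero
  have h2 : (x - 1).det = 0 := by
    obtain ⟨n, hn⟩ := hn
    rcases n with _ | n
    · simp at hn
    · exact pow_eq_zero_iff n.succ_ne_zero |>.1 (by rw [← det_pow, hn, det_zero])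
  simp [det_fin_two, trace_fin_two] at h1 h2 ⊢
  grind
theorem conj_up_aux {x : SL(2, F)} (h : x.1.trace = 2) :
    ∃ (g : SL(2, F)) (k : F), x = g * upT k * g⁻¹ := by
  have d := x.2
  rw [det_fin_two] at d
  rw [trace_fin_two] at h
  by_cases hx : x.1 1 0 = 0
  · refine ⟨1, x.1 0 1, ?_⟩
    ext i j
    fin_cases i <;> fin_cases j <;> simp <;> grind
  · refine ⟨H64.SL2.mk ((x.1 0 0 - 1) / x.1 1 0) (-1) 1 0 (by simp), -x.1 1 0, ?_⟩
    rw [eq_mul_inv_iff_mul_eq]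
    ext i j
    rw [H52.FW.val_mul, H52.FW.val_mul]
    fin_cases i <;> fin_cases j <;> simp [H64.SL2.mk, Matrix.mul_apply, Fin.sum_univ_two] <;> grind

include B in
theorem two : (2 : F) ≠ 0 := H64.SL2.two_ne_zero_of_odd B.odd
theorem p_prime : (ringChar F).Prime := CharP.char_is_prime F _
include B in
theorem p_odd : Odd (ringChar F) := p_prime.odd_of_ne_two fun h => B.two (by
    have := ringChar.Nat.cast_ringChar (R := F)
    rwa [h] at this)
theorem det_mul' (h : a.det * b.det = 1) (h' : a'.det * b'.det = 1) :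
    (a * a').det * (b * b').det = 1 := by
  rw [det_mul, det_mul]; linear_combination a'.det * b'.det * h + h'
theorem det_inv (h : a.det * b.det = 1) :
    (b.det • a.adjugate).det * (a.det • b.adjugate).det = 1 := by
  simp only [det_smul, det_adjugate, Fintype.card_fin]
  linear_combination ((a.det * b.det) ^ 2 + a.det * b.det + 1) * h
theorem inv_ρ (h : a.det * b.det = 1) :
    (B.ρ a b)⁻¹ = B.ρ (b.det • a.adjugate) (a.det • b.adjugate) := by
  refine inv_eq_of_mul_eq_one_right ?_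
  rw [← B.mul h (det_inv h), mul_smul_comm, mul_smul_comm, mul_adjugate, mul_adjugate, smul_smul,
    smul_smul, h, mul_comm, h, one_smul, B.ρ_one]
theorem pow_ρ (h : a.det * b.det = 1) (n : ℕ) : B.ρ a b ^ n = B.ρ (a ^ n) (b ^ n) := by
  induction n with
  | zero => simp [B.ρ_one]
  | succ n ih => rw [pow_succ, ih, pow_succ, pow_succ, B.mul (by
      rw [det_pow, det_pow, ← mul_pow, h, one_pow]) h]
theorem smul_ρ (h : a.det * b.det = 1) {l : F} (hl : l ^ 4 = 1) :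
    B.ρ (l • a) (l • b) = B.ρ a b := by
  have k : (l • (1 : M2 F)).det * (l • (1 : M2 F)).det = 1 := by
    simp only [det_smul, Fintype.card_fin, det_one]; linear_combination hl
  rw [← one_mul (B.ρ a b), ← (B.ker k).2 ⟨l, rfl, rfl⟩, ← B.mul k h, smul_mul_assoc, smul_mul_assoc,
    one_mul, one_mul]
theorem eq_iff (h : a.det * b.det = 1) (h' : a'.det * b'.det = 1) :
    B.ρ a b = B.ρ a' b' ↔ ∃ l : F, l ^ 4 = 1 ∧ a' = l • a ∧ b' = l • b := by
  refine ⟨fun e => ?_, fun ⟨l, hl, e1, e2⟩ => by rw [e1, e2, B.smul_ρ h hl]⟩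
  have e' : B.ρ a' b' * (B.ρ a b)⁻¹ = 1 := by rw [e, mul_inv_cancel]
  rw [B.inv_ρ h, ← B.mul h' (det_inv h), B.ker (det_mul' h' (det_inv h))] at e'
  obtain ⟨l, e1, e2⟩ := e'
  replace e1 := congrArg (· * a) e1
  replace e2 := congrArg (· * b) e2
  simp only [mul_assoc, smul_mul_assoc, mul_smul_comm, adjugate_mul, smul_smul, one_mul, mul_one, h,
    mul_comm b.det, one_smul] at e1 e2
  refine ⟨l, ?_, e1, e2⟩
  rw [e1, e2] at h'
  simp only [det_smul, Fintype.card_fin] at h'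
  linear_combination h' - l ^ 4 * h
theorem neg_neg (h : a.det * b.det = 1) : B.ρ (-a) (-b) = B.ρ a b := by
  simpa using B.smul_ρ h (l := -1) (by norm_num)
theorem t_eq' : B.t = B.ρ 1 (-1) := by
  simpa [t] using B.neg_neg (a := 1) (b := -1) (by simp [det_neg])
theorem tt : B.t * B.t = 1 := by
  rw [t, ← B.mul (by simp [det_neg]) (by simp [det_neg])]; simp [B.ρ_one]
theorem t_inv : B.t⁻¹ = B.t := inv_eq_of_mul_eq_one_right B.tt
theorem t_ne : B.t ≠ 1 := fun e => by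
  obtain ⟨l, e1, e2⟩ := (B.ker (by simp [det_neg])).1 e
  have := congrFun (congrFun (e1.trans e2.symm) 0) 0
  simp only [Matrix.neg_apply, one_apply_eq] at this
  exact B.two (by linear_combination -this)
theorem t_order : orderOf B.t = 2 := orderOf_eq_prime (by rw [sq, B.tt]) B.t_ne
theorem t_mul (h : a.det * b.det = 1) : B.t * B.ρ a b = B.ρ (-a) b := by
  rw [t, ← B.mul (by simp [det_neg]) h]; simp
theorem t_mul' (h : a.det * b.det = 1) : B.t * B.ρ a b = B.ρ a (-b) := by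
  rw [t_eq', ← B.mul (by simp [det_neg]) h]; simp
theorem σ_inv : B.σ⁻¹ = B.σ := inv_eq_of_mul_eq_one_right B.σσ
theorem σ_conj (h : a.det * b.det = 1) : B.σ * B.ρ a b * B.σ⁻¹ = B.ρ b a := by rw [B.sw h, mul_inv_cancel_right]
theorem out_mul_ρ (h : a.det * b.det = 1) (h' : a'.det * b'.det = 1) :
    B.ρ a b * B.σ * B.ρ a' b' = B.ρ (a * b') (b * a') * B.σ := by
  rw [mul_assoc, B.sw h', ← mul_assoc, ← B.mul h (by rwa [mul_comm])]
theorem out_mul_out (h : a.det * b.det = 1) (h' : a'.det * b'.det = 1) :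
    B.ρ a b * B.σ * (B.ρ a' b' * B.σ) = B.ρ (a * b') (b * a') := by
  rw [← mul_assoc, B.out_mul_ρ h h', mul_assoc, B.σσ, mul_one]
theorem conj_ρ (hx : x.det * y.det = 1) (h : a.det * b.det = 1) (e1 : x * a = a' * x)
    (e2 : y * b = b' * y) : B.ρ x y * B.ρ a b * (B.ρ x y)⁻¹ = B.ρ a' b' := by
  rw [mul_inv_eq_iff_eq_mul, ← B.mul hx h, ← B.mul (det_of hx h e1 e2) hx, e1, e2]
theorem conj_out (hx : x.det * y.det = 1) (h : a.det * b.det = 1) (e1 : x * a = a' * y)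
    (e2 : y * b = b' * x) : B.ρ x y * (B.ρ a b * B.σ) * (B.ρ x y)⁻¹ = B.ρ a' b' * B.σ := by
  rw [mul_inv_eq_iff_eq_mul, ← mul_assoc, ← B.mul hx h, B.out_mul_ρ (det_of' hx h e1 e2) hx, e1, e2]
theorem comm_iff (h : a.det * b.det = 1) (h' : a'.det * b'.det = 1) :
    B.ρ a b * B.ρ a' b' = B.ρ a' b' * B.ρ a b ↔
      (a * a' = a' * a ∧ b * b' = b' * b) ∨ (a * a' = -(a' * a) ∧ b * b' = -(b' * b)) := by
  rw [← B.mul h h', ← B.mul h' h, eq_comm, B.eq_iff (det_mul' h' h) (det_mul' h h')]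
  refine ⟨fun ⟨l, _, e1, e2⟩ => ?_, fun e => ?_⟩
  · have := congrArg det e1
    rw [det_smul, det_mul, det_mul, mul_comm a'.det, Fintype.card_fin] at this
    have n : a.det * a'.det ≠ 0 := mul_ne_zero (left_ne_zero_of_mul_eq_one h) (left_ne_zero_of_mul_eq_one h')
    rcases sq_eq_one_iff_of_ne_zero_aux (mul_right_cancel₀ n (this.symm.trans (one_mul _).symm)) with rfl | rfl
    · exact Or.inl ⟨by simpa using e1, by simpa using e2⟩
    · exact Or.inr ⟨by simpa using e1, by simpa using e2⟩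
  · rcases e with ⟨e1, e2⟩ | ⟨e1, e2⟩
    · exact ⟨1, by simp, by simpa, by simpa⟩
    · exact ⟨-1, by norm_num, by simpa, by simpa⟩
theorem out_comm_iff (h : a.det * b.det = 1) (h' : a'.det * b'.det = 1) :
    B.ρ a b * B.σ * B.ρ a' b' = B.ρ a' b' * (B.ρ a b * B.σ) ↔
      ∃ l : F, l ^ 4 = 1 ∧ a' * a = l • (a * b') ∧ b' * b = l • (b * a') := by
  rw [B.out_mul_ρ h h', ← mul_assoc, ← B.mul h' h, mul_left_inj,
    B.eq_iff (det_mul' h (by rwa [mul_comm])) (det_mul' h' h)]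

theorem C_ρ (h : a.det * b.det = 1) : B.C (B.ρ a b) := by
  rw [C, B.t_mul h, t, ← B.mul h (by simp [det_neg])]; simp
theorem C_σ : B.C B.σ := by
  rw [C, t, B.sw (by simp [det_neg]), ← t_eq', t]
theorem C_t : B.C B.t := rfl
theorem C_one : B.C 1 := by simp [C]
theorem C_iff : B.C c ↔ B.In c ∨ B.Out c := by
  refine ⟨fun h => ?_, ?_⟩
  · obtain ⟨a, b, k, e | e⟩ := B.cen c h
    exacts [Or.inl ⟨a, b, k, e⟩, Or.inr ⟨a, b, k, e⟩]
  · rintro (⟨a, b, k, rfl⟩ | ⟨a, b, k, rfl⟩)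
    · exact B.C_ρ k
    · have h1 := B.C_ρ k
      have h2 := B.C_σ
      rw [C] at *
      rw [mul_assoc, h2, ← mul_assoc, h1, mul_assoc]
theorem out_σ : B.Out B.σ := ⟨1, 1, by simp, by simp [B.ρ_one]⟩
theorem in_t : B.In B.t := ⟨-1, 1, by simp [det_neg], rfl⟩
variable {B}
theorem C.mul (h : B.C c) (h' : B.C d) : B.C (c * d) := Commute.mul_left h h'
theorem C.inv (h : B.C c) : B.C c⁻¹ := Commute.inv_left h
theorem C.pow (h : B.C c) (n : ℕ) : B.C (c ^ n) := Commute.pow_left h n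
theorem C.conj_t (h : B.C c) : c * B.t * c⁻¹ = B.t := mul_inv_eq_iff_eq_mul.2 h
theorem In.C (h : B.In c) : B.C c := B.C_iff.2 (Or.inl h)
theorem Out.C (h : B.Out c) : B.C c := B.C_iff.2 (Or.inr h)
theorem In.not_out (h : B.In c) : ¬ B.Out c := by
  obtain ⟨a, b, k, rfl⟩ := h
  rintro ⟨a', b', k', e⟩
  refine B.out (det_mul' (det_inv k') k) ?_
  rw [B.mul (det_inv k') k, ← B.inv_ρ k', e, inv_mul_cancel_left]
theorem In.mul (h : B.In c) (h' : B.In d) : B.In (c * d) := by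
  obtain ⟨a, b, k, rfl⟩ := h
  obtain ⟨a', b', k', rfl⟩ := h'
  exact ⟨_, _, det_mul' k k', (B.mul k k').symm⟩
theorem In.inv (h : B.In c) : B.In c⁻¹ := by
  obtain ⟨a, b, k, rfl⟩ := h
  exact ⟨_, _, det_inv k, B.inv_ρ k⟩
theorem In.mul_out (h : B.In c) (h' : B.Out d) : B.Out (c * d) := by
  obtain ⟨a, b, k, rfl⟩ := h
  obtain ⟨a', b', k', rfl⟩ := h'
  exact ⟨_, _, det_mul' k k', by rw [B.mul k k', mul_assoc]⟩
theorem Out.mul_in (h : B.Out c) (h' : B.In d) : B.Out (c * d) := by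
  obtain ⟨a, b, k, rfl⟩ := h
  obtain ⟨a', b', k', rfl⟩ := h'
  exact ⟨_, _, det_mul' k (by rwa [mul_comm]), B.out_mul_ρ k k'⟩
theorem Out.mul_out (h : B.Out c) (h' : B.Out d) : B.In (c * d) := by
  obtain ⟨a, b, k, rfl⟩ := h
  obtain ⟨a', b', k', rfl⟩ := h'
  exact ⟨_, _, det_mul' k (by rwa [mul_comm]), B.out_mul_out k k'⟩
theorem Out.inv (h : B.Out c) : B.Out c⁻¹ := by
  rcases B.C_iff.1 h.C.inv with k | k
  · exact absurd (by simpa using k.inv) fun k' : B.In c => k'.not_out h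
  · exact k
theorem In.conj (h : B.In c) (h' : B.C g) : B.In (g * c * g⁻¹) := by
  rcases B.C_iff.1 h' with k | k
  exacts [(k.mul h).mul k.inv, (k.mul_in h).mul_out k.inv]
theorem Out.conj (h : B.Out c) (h' : B.C g) : B.Out (g * c * g⁻¹) := by
  rcases B.C_iff.1 h' with k | k
  exacts [(k.mul_out h).mul_in k.inv, (k.mul_out h).mul_out k.inv]
theorem C.in_of_odd (h : B.C c) {n : ℕ} (hn : Odd n) (e : c ^ n = 1) : B.In c := by
  refine (B.C_iff.1 h).resolve_right fun k => ?_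
  obtain ⟨m, rfl⟩ := hn
  have : ∀ m, B.In (c ^ (2 * m)) := fun m => by
    induction m with
    | zero => exact ⟨1, 1, by simp, by simp [B.ρ_one]⟩
    | succ m ih => rw [mul_add, pow_add, mul_one, sq]; exact ih.mul (k.mul_out k)
  have h1 : B.In 1 := by simpa using this 0
  exact h1.not_out (by rw [← e, pow_succ]; exact (this m).mul_out k)
theorem C.in_comm (h : B.C c) (h' : B.C d) : B.In (c * d * c⁻¹ * d⁻¹) := by
  rcases B.C_iff.1 h' with k | k
  exacts [(k.conj h).mul k.inv, (k.conj h).mul_out k.inv]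
variable (B)

/-- The subgroup of index two in `C(t)`. -/
def C0 : Subgroup G where
  carrier := {c | B.In c}
  one_mem' := ⟨1, 1, by simp, B.ρ_one.symm⟩
  mul_mem' := In.mul
  inv_mem' := In.inv

theorem mem_C0 : c ∈ B.C0 ↔ B.In c := Iff.rfl
theorem force_eq_C0 : True := by
  have := @C0.eq_1.{0, 0}
  trivial

theorem f1_apply (x : SL(2, F)) : B.f1 x = B.ρ x.1 1 := rfl
theorem f2_apply (x : SL(2, F)) : B.f2 x = B.ρ 1 x.1 := rfl
theorem f1_inj : Function.Injective B.f1 := (injective_iff_map_eq_one _).2 fun x e => by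
  obtain ⟨l, e1, e2⟩ := (B.ker (by simp)).1 e
  exact Subtype.ext (e1.trans e2.symm)
theorem f2_inj : Function.Injective B.f2 := (injective_iff_map_eq_one _).2 fun x e => by
  obtain ⟨l, e1, e2⟩ := (B.ker (by simp)).1 e
  exact Subtype.ext (e2.trans e1.symm)
theorem f1_neg_one : B.f1 (-1) = B.t := rfl
theorem f2_neg_one : B.f2 (-1) = B.t := B.t_eq'.symm
theorem f1_neg (x : SL(2, F)) : B.f1 (-x) = B.t * B.f1 x := by rw [← B.f1_neg_one, ← map_mul, neg_one_mul]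
theorem f2_neg (x : SL(2, F)) : B.f2 (-x) = B.t * B.f2 x := by rw [← B.f2_neg_one, ← map_mul, neg_one_mul]
theorem f12 (x y : SL(2, F)) : B.f1 x * B.f2 y = B.ρ x.1 y.1 := by
  rw [f1_apply, f2_apply, ← B.mul (by simp) (by simp), mul_one, one_mul]
theorem f12_comm (x y : SL(2, F)) : B.f1 x * B.f2 y = B.f2 y * B.f1 x := by
  rw [f12, f1_apply, f2_apply, ← B.mul (by simp) (by simp), mul_one, one_mul]
theorem f12_eq {x y x' y' : SL(2, F)} (e : B.f1 x * B.f2 y = B.f1 x' * B.f2 y') :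
    (x = x' ∧ y = y') ∨ (x = -x' ∧ y = -y') := by
  rw [f12, f12, eq_comm, B.eq_iff (by simp) (by simp)] at e
  obtain ⟨l, -, e1, e2⟩ := e
  have := congrArg det e1
  rw [det_smul, x.2, x'.2, mul_one, Fintype.card_fin] at this
  rcases sq_eq_one_iff_of_ne_zero_aux this.symm with rfl | rfl
  · exact Or.inl ⟨Subtype.ext (by simpa using e1), Subtype.ext (by simpa using e2)⟩
  · exact Or.inr ⟨Subtype.ext (by simpa using e1), Subtype.ext (by simpa using e2)⟩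
theorem f1_eq_f2 {x y : SL(2, F)} (e : B.f1 x = B.f2 y) : (x = 1 ∧ y = 1) ∨ (x = -1 ∧ y = -1) := by
  rcases B.f12_eq (x := x) (y := 1) (x' := 1) (y' := y) (by simpa) with ⟨h1, h2⟩ | ⟨h1, h2⟩
  · exact Or.inl ⟨h1, h2.symm⟩
  · exact Or.inr ⟨h1, by rw [h2, _root_.neg_neg]⟩
theorem in_f1 (x : SL(2, F)) : B.In (B.f1 x) := ⟨_, _, by simp, rfl⟩
theorem in_f2 (x : SL(2, F)) : B.In (B.f2 x) := ⟨_, _, by simp, rfl⟩
theorem σ_f1 (x : SL(2, F)) : B.σ * B.f1 x * B.σ⁻¹ = B.f2 x := B.σ_conj (by simp)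
theorem σ_f2 (x : SL(2, F)) : B.σ * B.f2 x * B.σ⁻¹ = B.f1 x := B.σ_conj (by simp)
theorem act1 (h : a.det * b.det = 1) : Act B.f1 (B.ρ a b) a :=
  ⟨left_ne_zero_of_mul_eq_one h, fun _ _ e => B.conj_ρ h (by simp) e.symm (by simp)⟩
theorem act2 (h : a.det * b.det = 1) : Act B.f2 (B.ρ a b) b :=
  ⟨right_ne_zero_of_mul_eq_one h, fun _ _ e => B.conj_ρ h (by simp) (by simp) e.symm⟩
theorem w_eq : B.w = B.ρ (wS F).1 (wS F).1 := B.f12 _ _
theorem ww : B.w * B.w = 1 := by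
  have : (wS F).1 * (wS F).1 = -1 := by
    ext i j; fin_cases i <;> fin_cases j <;> simp [wS, H64.SL2.mk, Matrix.mul_apply, Fin.sum_univ_two]
  rw [w_eq, ← B.mul (by simp) (by simp), this, B.neg_neg (by simp), B.ρ_one]
theorem Y1 (x : SL(2, F)) : B.Y (B.f1 x) := ⟨x, 1, by simp⟩
theorem Y2 (x : SL(2, F)) : B.Y (B.f2 x) := ⟨1, x, by simp⟩
theorem Y_iff (h : a.det * b.det = 1) : B.Y (B.ρ a b) ↔ ∃ l : F, l ^ 4 = 1 ∧ a.det = l ^ 2 := by
  refine ⟨fun ⟨x, y, e⟩ => ?_, fun ⟨l, hl, e⟩ => ?_⟩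
  · rw [f12, eq_comm, B.eq_iff (by simp) h] at e
    obtain ⟨l, hl, e1, -⟩ := e
    exact ⟨l, hl, by simp [e1]⟩
  · have k : (l ^ 3) ^ 4 = 1 := by rw [← pow_mul, mul_comm, pow_mul, hl, one_pow]
    refine ⟨⟨l ^ 3 • a, ?_⟩, ⟨l ^ 3 • b, ?_⟩, ((B.f12 _ _).trans (B.smul_ρ h k)).symm⟩
    · rw [det_smul, e, Fintype.card_fin]; linear_combination (l ^ 4 + 1) * hl
    · rw [e] at h
      rw [det_smul, Fintype.card_fin]; linear_combination l ^ 4 * h + hl
variable {B}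
theorem In.conj1 (h : B.In c) (x : SL(2, F)) : ∃ y, c * B.f1 x * c⁻¹ = B.f1 y := by
  obtain ⟨a, b, k, rfl⟩ := h
  exact ((B.act1 k).exists x).imp fun _ h => h.2
theorem In.conj2 (h : B.In c) (x : SL(2, F)) : ∃ y, c * B.f2 x * c⁻¹ = B.f2 y := by
  obtain ⟨a, b, k, rfl⟩ := h
  exact ((B.act2 k).exists x).imp fun _ h => h.2
theorem Out.conj1 (h : B.Out c) (x : SL(2, F)) : ∃ y, c * B.f1 x * c⁻¹ = B.f2 y := by
  obtain ⟨y, hy⟩ := (h.mul_out B.out_σ.inv).conj2 x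
  exact ⟨y, by rw [← hy, ← B.σ_f1]; group⟩
theorem Out.conj2 (h : B.Out c) (x : SL(2, F)) : ∃ y, c * B.f2 x * c⁻¹ = B.f1 y := by
  obtain ⟨y, hy⟩ := (h.mul_out B.out_σ.inv).conj1 x
  exact ⟨y, by rw [← hy, ← B.σ_f2]; group⟩
theorem Out.comm1 (h : B.Out c) {x : SL(2, F)} (e : c * B.f1 x = B.f1 x * c) : x = 1 ∨ x = -1 := by
  obtain ⟨y, hy⟩ := h.conj1 x
  rw [e, mul_inv_cancel_right] at hy
  exact (B.f1_eq_f2 hy).imp And.left And.left
theorem Out.comm2 (h : B.Out c) {x : SL(2, F)} (e : c * B.f2 x = B.f2 x * c) : x = 1 ∨ x = -1 := by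
  obtain ⟨y, hy⟩ := h.conj2 x
  rw [e, mul_inv_cancel_right] at hy
  exact (B.f1_eq_f2 hy.symm).imp And.right And.right
theorem Y.In (h : B.Y c) : B.In c := by
  obtain ⟨x, y, rfl⟩ := h
  exact (B.in_f1 x).mul (B.in_f2 y)
theorem Y.mul (h : B.Y c) (h' : B.Y d) : B.Y (c * d) := by
  obtain ⟨x, y, rfl⟩ := h
  obtain ⟨x', y', rfl⟩ := h'
  exact ⟨x * x', y * y', by
    rw [map_mul, map_mul, mul_assoc, ← mul_assoc (B.f2 y), ← B.f12_comm]; simp only [mul_assoc]⟩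
theorem Y.inv (h : B.Y c) : B.Y c⁻¹ := by
  obtain ⟨x, y, rfl⟩ := h
  exact ⟨x⁻¹, y⁻¹, by rw [B.f12_comm x, _root_.mul_inv_rev, map_inv, map_inv]⟩
theorem Y.conj (h : B.Y c) (h' : B.C g) : B.Y (g * c * g⁻¹) := by
  obtain ⟨x, y, rfl⟩ := h
  rw [← conj_mul]
  rcases B.C_iff.1 h' with k | k
  · obtain ⟨x', e⟩ := k.conj1 x
    obtain ⟨y', e'⟩ := k.conj2 y
    exact ⟨x', y', by rw [e, e']⟩
  · obtain ⟨x', e⟩ := k.conj1 x
    obtain ⟨y', e'⟩ := k.conj2 y
    exact ⟨y', x', by rw [e, e', B.f12_comm]⟩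
theorem In.comm_Y (h : B.In c) (h' : B.In d) : B.Y (c * d * c⁻¹ * d⁻¹) := by
  obtain ⟨a, b, k, rfl⟩ := h
  obtain ⟨a', b', k', rfl⟩ := h'
  rw [B.inv_ρ k, B.inv_ρ k', ← B.mul k k', ← B.mul (det_mul' k k') (det_inv k),
    ← B.mul (det_mul' (det_mul' k k') (det_inv k)) (det_inv k'),
    B.Y_iff (det_mul' (det_mul' (det_mul' k k') (det_inv k)) (det_inv k'))]
  refine ⟨1, by simp, ?_⟩
  simp only [det_mul, det_smul, det_adjugate, Fintype.card_fin]
  linear_combination (a'.det * b'.det) ^ 2 * (a.det * b.det + 1) * k + (a'.det * b'.det + 1) * k'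
/-- `p`-elements of `C(t)` are pairs of unipotent matrices. -/
theorem C.unip (h : B.C c) {k : ℕ} (e : c ^ ringChar F ^ k = 1) :
    ∃ x y : SL(2, F), c = B.f1 x * B.f2 y ∧ x.1.trace = 2 ∧ y.1.trace = 2 := by
  have ho : Odd (ringChar F ^ k) := B.p_odd.pow
  obtain ⟨a, b, hd, rfl⟩ := h.in_of_odd ho e
  rw [B.pow_ρ hd, B.ker (by rw [det_pow, det_pow, ← mul_pow, hd, one_pow])] at e
  obtain ⟨l, e1, e2⟩ := e
  have hl : l ^ 4 = 1 := by
    have h1 := congrArg det e1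
    have h2 := congrArg det e2
    rw [det_pow, det_smul, det_one, Fintype.card_fin] at h1 h2
    have : (a.det * b.det) ^ ringChar F ^ k = 1 := by rw [hd, one_pow]
    rw [mul_pow, h1, h2] at this
    linear_combination this
  obtain ⟨m, m4, hm⟩ : ∃ m : F, m ^ 4 = 1 ∧ m ^ ringChar F ^ k * l = 1 := by
    generalize ringChar F ^ k = n at ho
    refine ⟨l ^ (3 * n), by rw [← pow_mul, mul_comm, pow_mul, hl, one_pow], ?_⟩
    obtain ⟨r, rfl⟩ := ho
    rw [← pow_mul, ← pow_succ, show 3 * (2 * r + 1) * (2 * r + 1) + 1 = 4 * (3 * r * r + 3 * r + 1) by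
      ring, pow_mul, hl, one_pow]
  obtain ⟨d1, t1⟩ := unip_of (x := m • a) (k := k) (by rw [smul_pow, e1, smul_smul, hm, one_smul])
  obtain ⟨d2, t2⟩ := unip_of (x := m • b) (k := k) (by rw [smul_pow, e2, smul_smul, hm, one_smul])
  exact ⟨⟨_, d1⟩, ⟨_, d2⟩, ((B.f12 _ _).trans (B.smul_ρ hd m4)).symm, t1, t2⟩
theorem pow_p_of_tr {x : SL(2, F)} (h : x.1.trace = 2) : x ^ ringChar F = 1 := by
  obtain ⟨g, k, rfl⟩ := conj_up_aux h
  rw [conj_pow, upT_pow_char, mul_one, mul_inv_cancel]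
theorem conj_up_of_tr {x : SL(2, F)} (h : x.1.trace = 2) :
    ∃ (g : SL(2, F)) (k : F), x = g * upT k * g⁻¹ := conj_up_aux h
/-- A subgroup containing all `φ (upT a)`, `φ (loT a)` contains the image of `φ`. -/
theorem mem_of_up_lo (φ : SL(2, F) →* G) {K : Subgroup G} (h1 : ∀ a, φ (upT a) ∈ K)
    (h2 : ∀ a, φ (loT a) ∈ K) (x : SL(2, F)) : φ x ∈ K := by
  have key : ∀ y : SL(2, F), y.1 1 0 ≠ 0 → φ y ∈ K := fun y hy => by
    have d := y.2
    rw [det_fin_two] at d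
    have : y = upT ((y.1 0 0 - 1) / y.1 1 0) * loT (y.1 1 0) * upT ((y.1 1 1 - 1) / y.1 1 0) := by
      ext i j
      fin_cases i <;> fin_cases j <;> simp [coe_upT, coe_loT, Matrix.mul_apply, Fin.sum_univ_two] <;>
        field_simp <;> grind
    rw [this, map_mul, map_mul]
    exact K.mul_mem (K.mul_mem (h1 _) (h2 _)) (h1 _)
  by_cases hx : x.1 1 0 = 0
  · have d := x.2
    rw [det_fin_two, hx] at d
    have := K.mul_mem (h2 (-1)) (key (loT 1 * x) (by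
      simp [coe_loT, Matrix.mul_apply, Fin.sum_univ_two, hx]; grind))
    rwa [← map_mul, ← mul_assoc, ← loT_add, neg_add_cancel, loT_zero, one_mul] at this
  · exact key x hx
/-- If all `φ x` commute with `t` then they lie in `Y`. -/
theorem Y_of_hom (φ : SL(2, F) →* G) (h : ∀ x, B.C (φ x)) (x : SL(2, F)) : B.Y (φ x) := by
  let K : Subgroup G := ⟨⟨⟨{c | B.Y c}, Y.mul⟩, by simpa using B.Y1 1⟩, Y.inv⟩
  refine mem_of_up_lo φ (K := K) (fun a => ?_) (fun a => ?_) x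
  · obtain ⟨x, y, e, -⟩ := (h (upT a)).unip (k := 1) (by rw [pow_one, ← map_pow, upT_pow_char, map_one])
    exact ⟨x, y, e⟩
  · obtain ⟨x, y, e, -⟩ := (h (loT a)).unip (k := 1) (by rw [pow_one, ← map_pow, loT_pow_char, map_one])
    exact ⟨x, y, e⟩
variable (B)

theorem conj_ρ' (a b : M2 F) : (B.conj g).ρ a b = g * B.ρ a b * g⁻¹ := rfl
theorem conj_σ : (B.conj g).σ = g * B.σ * g⁻¹ := rfl
theorem conj_t : (B.conj g).t = g * B.t * g⁻¹ := rfl
theorem conj_u : (B.conj g).u = g * B.u * g⁻¹ := rfl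
theorem conj_f1 (x : SL(2, F)) : (B.conj g).f1 x = g * B.f1 x * g⁻¹ := rfl
theorem conj_f2 (x : SL(2, F)) : (B.conj g).f2 x = g * B.f2 x * g⁻¹ := rfl
theorem conj_C : (B.conj g).C c ↔ B.C (g⁻¹ * c * g) := by
  rw [C, C, conj_t]
  constructor <;> intro h
  · calc _ = g⁻¹ * (c * (g * B.t * g⁻¹)) * g := by group
      _ = _ := by rw [h]; group
  · calc _ = g * (g⁻¹ * c * g * B.t) * g⁻¹ := by group
      _ = _ := by rw [h]; group
theorem conj_In : (B.conj g).In c ↔ B.In (g⁻¹ * c * g) := by simp only [In, conj_ρ', cj_iff]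
theorem conj_Out : (B.conj g).Out c ↔ B.Out (g⁻¹ * c * g) := by simp only [Out, conj_ρ', conj_σ, conj_mul, cj_iff]
theorem conj_TZ {e : F} : (B.conj g).TZ e c ↔ B.TZ e (g⁻¹ * c * g) := by simp only [TZ, conj_ρ', cj_iff]
theorem conj_S1 : (B.conj g).S1 c ↔ B.S1 (g⁻¹ * c * g) := by simp only [S1, conj_ρ', cj_iff]
theorem conj_Y : (B.conj g).Y c ↔ B.Y (g⁻¹ * c * g) := by simp only [Y, conj_f1, conj_f2, conj_mul, cj_iff]
theorem conj_H : c ∈ (B.conj g).H ↔ g⁻¹ * c * g ∈ B.H := by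
  change (∃ _ _ _ _, _) ↔ ∃ _ _ _ _, _
  simp only [conj_ρ', cj_iff]
theorem exists_at (h : IsConj B.t c) : ∃ g, (B.conj g).t = c := isConj_iff.1 h
theorem same_twist (hx : x.det ≠ 0) (hy : y.det ≠ 0) : B.Same (B.twist x y hx hy) := by
  have cj : ∀ {z : M2 F}, z.det ≠ 0 → ∀ a : M2 F, (z * a * z⁻¹).det = a.det ∧
      (z * a * z⁻¹).trace = a.trace := fun {z} h a =>
    ⟨det_conj ((isUnit_iff_isUnit_det z).2 h.isUnit) a, trace_conj' h a⟩
  have sj : ∀ {z : M2 F}, z.det ≠ 0 → ∀ a : M2 F, ∃ a', a = z * a' * z⁻¹ := fun {z} h a =>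
    ⟨z⁻¹ * a * z, by
      rw [← mul_assoc, ← mul_assoc, mul_nonsing_inv _ h.isUnit, one_mul, mul_assoc,
        mul_nonsing_inv _ h.isUnit, mul_one]⟩
  have sc : ∀ {z : M2 F}, z.det ≠ 0 → ∀ l : F, z * (l • 1) * z⁻¹ = l • 1 := fun {z} h l => by
    rw [mul_smul_comm, mul_one, smul_mul_assoc, mul_nonsing_inv _ h.isUnit]
  have hρ : ∀ a b, (B.twist x y hx hy).ρ a b = B.ρ (x * a * x⁻¹) (y * b * y⁻¹) := fun _ _ => rfl
  have ht : (B.twist x y hx hy).t = B.t := by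
    rw [t, t, hρ]; simpa using congrArg₂ B.ρ (sc hx (-1)) (sc hy 1)
  have hI : ∀ c, (B.twist x y hx hy).In c ↔ B.In c := fun c => by
    refine ⟨fun ⟨a, b, k, e⟩ => ⟨_, _, by rwa [(cj hx a).1, (cj hy b).1], e⟩, fun ⟨a, b, k, e⟩ => ?_⟩
    obtain ⟨a, rfl⟩ := sj hx a
    obtain ⟨b, rfl⟩ := sj hy b
    exact ⟨a, b, by rwa [(cj hx a).1, (cj hy b).1] at k, e⟩
  have hC : ∀ c, (B.twist x y hx hy).C c ↔ B.C c := fun c => by rw [C, C, ht]
  refine ⟨ht, hI, fun c => ⟨fun h => (B.C_iff.1 ((hC c).1 h.C)).resolve_left fun k =>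
    ((hI c).2 k).not_out h, fun h => ((B.twist x y hx hy).C_iff.1 ((hC c).2 h.C)).resolve_left fun k =>
    ((hI c).1 k).not_out h⟩, fun d c => and_congr_right fun _ => ⟨fun ⟨a, b, h1, h2, h3, h4, e⟩ =>
      ⟨_, _, (cj hx a).2.trans h1, (cj hy b).2.trans h2, (cj hx a).1.trans h3, (cj hy b).1.trans h4, e⟩,
      fun ⟨a, b, h1, h2, h3, h4, e⟩ => ?_⟩, fun c => ⟨fun ⟨l, b, h1, h2, h3, e⟩ => ?_,
      fun ⟨l, b, h1, h2, h3, e⟩ => ?_⟩, fun c => ⟨fun ⟨a, b, e⟩ => ⟨⟨_, (cj hx a.1).1.trans a.2⟩,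
      ⟨_, (cj hy b.1).1.trans b.2⟩, e.trans ((f12 _ _ _).trans ((hρ _ _).trans (B.f12 ⟨_, _⟩ ⟨_, _⟩).symm))⟩,
      fun ⟨a, b, e⟩ => ?_⟩⟩
  · obtain ⟨a, rfl⟩ := sj hx a
    obtain ⟨b, rfl⟩ := sj hy b
    exact ⟨a, b, (cj hx a).2.symm.trans h1, (cj hy b).2.symm.trans h2, (cj hx a).1.symm.trans h3,
      (cj hy b).1.symm.trans h4, e⟩
  · rcases e with e | e
    · exact ⟨l, _, h1, (cj hy b).2.trans h2, (cj hy b).1.trans h3, Or.inl (by rw [e, hρ, sc hx])⟩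
    · exact ⟨l, _, h1, (cj hx b).2.trans h2, (cj hx b).1.trans h3, Or.inr (by rw [e, hρ, sc hy])⟩
  · rcases e with e | e
    · obtain ⟨b, rfl⟩ := sj hy b
      exact ⟨l, b, h1, (cj hy b).2.symm.trans h2, (cj hy b).1.symm.trans h3,
        Or.inl (by rw [e, hρ, sc hx])⟩
    · obtain ⟨b, rfl⟩ := sj hx b
      exact ⟨l, b, h1, (cj hx b).2.symm.trans h2, (cj hx b).1.symm.trans h3,
        Or.inr (by rw [e, hρ, sc hy])⟩
  · obtain ⟨a', ha⟩ := sj hx a.1
    obtain ⟨b', hb⟩ := sj hy b.1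
    exact ⟨⟨a', by rw [← (cj hx a').1, ← ha, a.2]⟩, ⟨b', by rw [← (cj hy b').1, ← hb, b.2]⟩,
      e.trans ((f12 _ _ _).trans ((congrArg₂ B.ρ ha hb).trans ((hρ _ _).symm.trans
        ((B.twist x y hx hy).f12 ⟨_, _⟩ ⟨_, _⟩).symm)))⟩
theorem form_aux {B : Bs G F} (h : B.Out c) (e : c * c = 1) :
    ∃ a b : M2 F, a * b = 1 ∧ (c = B.ρ a b * B.σ ∨ c = B.t * (B.ρ a b * B.σ)) := by
  obtain ⟨a, b, k, rfl⟩ := h
  rw [B.out_mul_out k k, B.ker (det_mul' k (by rwa [mul_comm]))] at e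
  obtain ⟨l, e1, -⟩ := e
  have := congrArg det e1
  rw [det_mul, k, det_smul, det_one, mul_one, Fintype.card_fin] at this
  rcases sq_eq_one_iff_of_ne_zero_aux this.symm with rfl | rfl
  · exact ⟨a, b, by simpa using e1, Or.inl rfl⟩
  · exact ⟨-a, b, by simp [e1], Or.inr (by
      rw [← mul_assoc, B.t_mul (by simpa [det_neg] using k), _root_.neg_neg])⟩
theorem Same.C {B B' : Bs G F} (h : B.Same B') : B'.C c ↔ B.C c := by rw [Bs.C, Bs.C, h.t]
/-- An outer involution is `σ` or `t σ` in twisted coordinates. -/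
theorem Out.std {B : Bs G F} (h : B.Out c) (e : c * c = 1) :
    ∃ B' : Bs G F, B.Same B' ∧ (c = B'.σ ∨ c = B'.t * B'.σ) := by
  obtain ⟨a, b, k, e'⟩ := form_aux h e
  have ha : a.det ≠ 0 := left_ne_zero_of_mul_eq_one (by rw [← det_mul, k, det_one])
  have S := B.same_twist ha (y := 1) (by simp)
  have : (B.twist a 1 ha (by simp)).σ = B.ρ a b * B.σ := by
    change B.ρ (a * 1⁻¹) (1 * a⁻¹) * B.σ = _
    rw [inv_one, mul_one, one_mul, inv_eq_right_inv k]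
  exact ⟨_, S, by rwa [this, S.t]⟩
/-- Normal form of the outer involutions. -/
theorem Out.form {B : Bs G F} (h : B.Out c) (e : c * c = 1) :
    ∃ a b : M2 F, a * b = 1 ∧ (c = B.ρ a b * B.σ ∨ c = B.t * (B.ρ a b * B.σ)) := form_aux h e

end H20.L4.Bs
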