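import Cfsg.Agent.Lib.L4Q.T2a
import Cfsg.Agent.Lib.Inv73.ZStar

/-! L4Q package T2: involutions of `C(t)`, centralizers, the torus. -/

set_option autoImplicit false
set_option linter.unusedSectionVars false

open Matrix H24
open H52.FW (M2 wS dS Act)
open scoped MatrixGroups

namespace H20.L4.T2

variable {F : Type*} [Field F] {a b : M2 F}

theorem diag_of_comm (h2 : (2 : F) ≠ 0) (e : a * DD F = DD F * a) : a 0 1 = 0 ∧ a 1 0 = 0 := by
  have e1 := congrFun (congrFun e 0) 1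
  have e2 := congrFun (congrFun e 1) 0
  simp [DD, mul_apply, Fin.sum_univ_two] at e1 e2
  exact ⟨mul_left_cancel₀ h2 (by linear_combination -e1), mul_left_cancel₀ h2 (by linear_combination e2)⟩

theorem anti_of_anti (h2 : (2 : F) ≠ 0) (e : a * DD F = -(DD F * a)) : (a * (wS F).1) 0 1 = 0 ∧ (a * (wS F).1) 1 0 = 0 := by
  have e1 := congrFun (congrFun e 0) 0
  have e2 := congrFun (congrFun e 1) 1
  simp [DD, wv, mul_apply, Fin.sum_univ_two, vecMul, dotProduct] at e1 e2 ⊢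
  exact ⟨mul_left_cancel₀ h2 (by linear_combination e1), mul_left_cancel₀ h2 (by linear_combination -e2)⟩

theorem diag_pow (a b : F) (n : ℕ) : (!![a, 0; 0, b] : M2 F) ^ n = !![a ^ n, 0; 0, b ^ n] := by
  induction n with
  | zero => simp [one_fin_two]
  | succ n ih => rw [pow_succ, ih]; simp [pow_succ]

theorem det_dg {a b c d : F} (h : a * b * (c * d) = 1) :
    (!![a, 0; 0, b] : M2 F).det * (!![c, 0; 0, d] : M2 F).det = 1 := by simpa [det_fin_two] using h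

theorem w_dg (a b : F) : (wS F).1 * !![a, 0; 0, b] = !![b, 0; 0, a] * (wS F).1 := by simp [wv]
theorem w_D : (wS F).1 * DD F = -DD F * (wS F).1 := by simp [wv, DD]
theorem D_rt (e : Bool) (a : F) : DD F * (rt e a).1 = (rt e (-a)).1 * DD F := by
  cases e <;> simp [rt, DD, coe_upT, coe_loT]

end H20.L4.T2

namespace H20.L4.Bs

open T2 H52.FW

variable {G F : Type*} [Group G] [Field F] [Fintype F] {B : Bs G F} {c c' g h h' : G} {d : F}

theorem up_pow (φ : SL(2, F) →* G) (e : Bool) (a : F) : φ (rt e a) ^ ringChar F = 1 := by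
  rw [← map_pow]
  cases e
  exacts [(congrArg φ (loT_pow_char _ a)).trans φ.map_one, (congrArg φ (upT_pow_char _ a)).trans φ.map_one]

/-- An outer involution centralizes a nontrivial `p`-element of `C(t)`. -/
theorem Out.exists_p (h : B.Out c) (e : c * c = 1) :
    ∃ g, B.C g ∧ g * c = c * g ∧ g ^ ringChar F = 1 ∧ g ≠ 1 := by
  obtain ⟨B', s, e'⟩ := h.std e
  have k : B'.C (B'.f1 (upT 1) * B'.f2 (upT 1)) := ((B'.in_f1 _).mul (B'.in_f2 _)).C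
  have k' : Commute (B'.f1 (upT 1) * B'.f2 (upT 1)) B'.σ := by
    rw [B'.f12]; exact (B'.sw (sl1 _ _)).symm
  refine ⟨_, s.C.1 k, ?_, ?_, fun e => up_ne B.two ?_⟩
  · rcases e' with rfl | rfl
    exacts [k', (Commute.mul_right k k').eq]
  · rw [(show Commute _ _ from B'.f12_comm _ _).mul_pow, show upT (1 : F) = rt true 1 from rfl, up_pow, up_pow, one_mul]
  · exact (B'.f12_eq (x' := 1) (y' := 1) (by simpa using e)).imp And.left And.left

/-- If `-1` is a square, an outer involution `c` is conjugate to `t c` in `C(t)`. -/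
theorem Out.exists_w (s : IsSquare (-1 : F)) (h : B.Out c) (e : c * c = 1) :
    ∃ g, B.C g ∧ g * c * g⁻¹ = B.t * c := by
  obtain ⟨B', s', e'⟩ := h.std e
  obtain ⟨i, hi⟩ := s
  have k : (!![1, 0; 0, -i] : M2 F).det * (!![i, 0; 0, 1] : M2 F).det = 1 := det_dg (by linear_combination hi)
  have e1 := B'.conj_out (a := 1) (b := 1) (a' := i • -1) (b' := i • 1) k (by simp)
    (by simp [← hi]) (by simp [← hi])
  rw [B'.ρ_one, one_mul, B'.smul_ρ (by simp [det_ng]) (by linear_combination (1 - i * i) * hi)] at e1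
  refine ⟨_, s'.C.1 (B'.C_ρ k), ?_⟩
  rw [← s'.t]
  rcases e' with rfl | rfl
  · exact e1
  · rw [← conj_mul, (B'.C_ρ k).conj_t, e1]; rfl

/-- `C(t)`-classes of outer involutions. -/
theorem Out.classes (h : B.Out c) (e : c * c = 1) {n : F} (hn : ¬ IsSquare n) : ∃ g, B.In g ∧
    (g * c * g⁻¹ = B.σ ∨ g * c * g⁻¹ = B.t * B.σ ∨
      g * c * g⁻¹ = B.ρ !![n, 0; 0, 1] !![n⁻¹, 0; 0, 1] * B.σ ∨
      g * c * g⁻¹ = B.t * (B.ρ !![n, 0; 0, 1] !![n⁻¹, 0; 0, 1] * B.σ)) := by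
  obtain ⟨a, b, ab, e'⟩ := h.form e
  have k : a.det * b.det = 1 := by rw [← det_mul, ab, det_one]
  have key : ∀ m : F, m ≠ 0 → (IsSquare m ↔ IsSquare a.det) → ∃ g, B.In g ∧
      g * (B.ρ a b * B.σ) * g⁻¹ = B.ρ !![m, 0; 0, 1] !![m⁻¹, 0; 0, 1] * B.σ := fun m m0 hm => by
    obtain ⟨r, -, hr⟩ := exists_ratio m0 (ne1 k) hm
    have k1 : (!![r, 0; 0, 1] : M2 F).det * (!![m⁻¹, 0; 0, 1] * !![r, 0; 0, 1] * a).det = 1 := by
      simp only [det_mul, det_fin_two_of]; field_simp; linear_combination -hr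
    exact ⟨_, ⟨_, _, k1, rfl⟩, B.conj_out k1 k (by rw [← mul_assoc, ← mul_assoc]; simp [m0])
      (by rw [mul_assoc, ab, mul_one])⟩
  by_cases s : IsSquare a.det
  · obtain ⟨g, hg, e1⟩ := key 1 one_ne_zero (iff_of_true IsSquare.one s)
    rw [inv_one, ← one_fin_two, B.ρ_one, one_mul] at e1
    rcases e' with rfl | rfl
    exacts [⟨g, hg, Or.inl e1⟩, ⟨g, hg, Or.inr (Or.inl (by rw [← conj_mul, hg.C.conj_t, e1]))⟩]
  · obtain ⟨g, hg, e1⟩ := key n (by rintro rfl; exact hn IsSquare.zero) (iff_of_false hn s)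
    rcases e' with rfl | rfl
    exacts [⟨g, hg, Or.inr (Or.inr (Or.inl e1))⟩, ⟨g, hg, Or.inr (Or.inr (Or.inr (by rw [← conj_mul, hg.C.conj_t, e1])))⟩]

theorem _root_.H20.L4.T2.inσ {a b : M2 F} (k : a.det * b.det = 1) (e : B.ρ a b * B.σ = B.σ * B.ρ a b) :
    a.det * a.det = 1 ∧ (B.ρ a b = B.ρ a a ∨ B.ρ a b = B.t * B.ρ a a) := by
  rw [B.sw k, mul_left_inj, B.eq_iff k (by rwa [mul_comm])] at e
  obtain ⟨l, -, rfl, e⟩ := e
  have : l * l = 1 := (sm_inj (cancel_right (ne1 k) (by simpa [smul_smul] using e))).symm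
  rcases mul_self_eq_one_iff.1 this with rfl | rfl
  · rw [one_smul] at *; exact ⟨k, Or.inl rfl⟩
  · rw [neg_one_smul] at *
    rw [det_ng] at k
    exact ⟨k, Or.inr (B.t_mul' k).symm⟩

theorem C.cen_σ (h : B.C c) (e : c * B.σ = B.σ * c) : ∃ a : M2 F, a.det * a.det = 1 ∧
    (c = B.ρ a a ∨ c = B.t * B.ρ a a ∨ c = B.ρ a a * B.σ ∨ c = B.t * (B.ρ a a * B.σ)) := by
  rcases B.C_iff.1 h with ⟨a, b, k, rfl⟩ | ⟨a, b, k, rfl⟩
  · obtain ⟨k1, e1⟩ := inσ k e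
    exact ⟨a, k1, e1.imp_right Or.inl⟩
  · obtain ⟨k1, e1⟩ := inσ k (mul_right_cancel (e.trans (mul_assoc _ _ _).symm))
    exact ⟨a, k1, Or.inr (Or.inr (e1.imp (fun e => by rw [e]) fun e => by rw [e, mul_assoc]))⟩

theorem _root_.H20.L4.T2.memH {a b : M2 F} (k : a.det * b.det = 1) (e1 : a 0 1 = 0 ∧ a 1 0 = 0)
    (e2 : b 0 1 = 0 ∧ b 1 0 = 0) : B.ρ a b ∈ B.H :=
  ⟨a 0 0, a 1 1, b 0 0, b 1 1, by simpa [det_fin_two, e1, e2] using k, by
    conv_lhs => rw [eta_fin_two a, eta_fin_two b, e1.1, e1.2, e2.1, e2.2]⟩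

variable (B)
theorem u_TZ : B.TZ (-1) B.u := ⟨by simp, _, _, D_tr, D_tr, D_det, D_det, rfl⟩
theorem w_TZ : B.TZ 1 B.w := ⟨by simp, _, _, by simp [wv, trace_fin_two], by simp [wv, trace_fin_two],
  (wS F).2, (wS F).2, B.w_eq⟩
theorem uu : B.u * B.u = 1 := B.u_TZ.sq
theorem tu_comm : B.t * B.u = B.u * B.t := Eq.symm B.u_TZ.In.C
theorem uσ_comm : B.u * B.σ = B.σ * B.u := (B.sw DD1).symm
theorem uw_comm : B.u * B.w = B.w * B.u := by
  rw [B.w_eq]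
  exact (B.comm_iff DD1 (sl1 _ _)).2 (Or.inr ⟨by rw [w_D]; simp, by rw [w_D]; simp⟩)
theorem wσ_comm : B.w * B.σ = B.σ * B.w := by rw [B.w_eq, B.sw (sl1 _ _)]
theorem t_H : B.t ∈ B.H := memH (by simp [det_ng]) (by simp) (by simp)
theorem u_H : B.u ∈ B.H := memH DD1 (by simp [DD]) (by simp [DD])
theorem f1_dS (a : F) (ha : a ≠ 0) : B.f1 (dS a ha) ∈ B.H := memH (sl1 _ 1) (by simp [dv]) (by simp)
theorem f2_dS (a : F) (ha : a ≠ 0) : B.f2 (dS a ha) ∈ B.H := memH (sl1 1 _) (by simp) (by simp [dv])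
theorem w_notH : B.w ∉ B.H := by
  rintro ⟨a, b, c, d, k, e⟩
  obtain ⟨l, -, e, -⟩ := (B.eq_iff (det_dg k) (sl1 _ _)).1 (e.symm.trans B.w_eq)
  simpa [wv] using congrFun (congrFun e 0) 1
theorem f1w_u : B.f1 (wS F) * B.u * (B.f1 (wS F))⁻¹ = B.t * B.u :=
  (B.conj_ρ (sl1 _ 1) DD1 w_D (by simp)).trans (B.t_mul DD1).symm
theorem f2w_u : B.f2 (wS F) * B.u * (B.f2 (wS F))⁻¹ = B.t * B.u :=
  (B.conj_ρ (sl1 1 _) DD1 (by simp) w_D).trans (B.t_mul' DD1).symm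
theorem f1w_H (h1 : h ∈ B.H) : B.f1 (wS F) * h * (B.f1 (wS F))⁻¹ ∈ B.H := by
  obtain ⟨a, b, c, d, k, rfl⟩ := h1
  exact ⟨b, a, c, d, by rwa [mul_comm b], B.conj_ρ (sl1 _ 1) (det_dg k) (w_dg a b) (by simp)⟩
theorem f2w_H (h1 : h ∈ B.H) : B.f2 (wS F) * h * (B.f2 (wS F))⁻¹ ∈ B.H := by
  obtain ⟨a, b, c, d, k, rfl⟩ := h1
  exact ⟨a, b, d, c, by rwa [mul_comm d], B.conj_ρ (sl1 1 _) (det_dg k) (by simp) (w_dg c d)⟩
theorem σ_H (h1 : h ∈ B.H) : B.σ * h * B.σ⁻¹ ∈ B.H := by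
  obtain ⟨a, b, c, d, k, rfl⟩ := h1
  exact ⟨c, d, a, b, by rwa [mul_comm], B.σ_conj (det_dg k)⟩
theorem u_rt1 (e : Bool) (a : F) : B.u * B.f1 (rt e a) * B.u⁻¹ = B.f1 (rt e (-a)) :=
  B.conj_ρ DD1 (sl1 _ 1) (D_rt e a) (by simp)
theorem u_rt2 (e : Bool) (a : F) : B.u * B.f2 (rt e a) * B.u⁻¹ = B.f2 (rt e (-a)) :=
  B.conj_ρ DD1 (sl1 1 _) (by simp) (D_rt e a)
variable {B}

theorem C.cen_V (h : B.C c) (e : c * B.u = B.u * c) :
    c ∈ B.H ∨ c * B.w ∈ B.H ∨ c * B.σ ∈ B.H ∨ c * (B.w * B.σ) ∈ B.H := by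
  have key : ∀ a b : M2 F, a.det * b.det = 1 → B.ρ a b * B.u = B.u * B.ρ a b → B.ρ a b ∈ B.H ∨ B.ρ a b * B.w ∈ B.H :=
    fun a b k e => ((B.comm_iff k DD1).1 e).imp (fun e => memH k (diag_of_comm B.two e.1) (diag_of_comm B.two e.2))
      fun e => by
        rw [B.w_eq, ← B.mul k (sl1 _ _)]
        exact memH (det_mul' k (sl1 _ _)) (anti_of_anti B.two e.1) (anti_of_anti B.two e.2)
  rcases B.C_iff.1 h with ⟨a, b, k, rfl⟩ | ⟨a, b, k, rfl⟩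
  · exact (key a b k e).imp_right Or.inl
  · refine Or.inr (Or.inr ((key a b k (mul_right_cancel (b := B.σ) ?_)).imp (fun e => ?_) fun e => ?_))
    · rw [mul_assoc, B.uσ_comm, ← mul_assoc, e, mul_assoc]
    · rwa [mul_assoc, B.σσ, mul_one]
    · rwa [B.wσ_comm, mul_assoc, ← mul_assoc B.σ, B.σσ, one_mul]

theorem C.cen_up (h : B.C c) (e : ∀ a, c * B.f1 (upT a) = B.f1 (upT a) * c) :
    ∃ (l k : F) (b : M2 F), l ^ 2 * b.det = 1 ∧ c = B.ρ (l • (upT k).1) b := by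
  obtain ⟨a, b, k, rfl⟩ := (B.C_iff.1 h).resolve_right fun o => up_ne B.two (o.comm1 (e 1))
  have e1 := ((B.act1 k).comm_iff B.f1_inj).1 (e 1)
  have e2 := congrFun (congrFun e1 0) 0
  have e3 := congrFun (congrFun e1 0) 1
  simp [coe_upT, mul_apply, Fin.sum_univ_two] at e2 e3
  replace e3 : a 1 1 = a 0 0 := by linear_combination e3
  have e4 : a 0 0 ^ 2 * b.det = 1 := by rw [← k, det_fin_two a, e2, e3]; ring
  have e5 : a 0 0 ≠ 0 := by rintro e; simp [e] at e4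
  refine ⟨a 0 0, a 0 1 / a 0 0, b, e4, congrArg (B.ρ · b) ?_⟩
  ext i j
  fin_cases i <;> fin_cases j <;> simp [coe_upT, e2, e3, mul_div_cancel₀ _ e5]

theorem _root_.H20.L4.T2.in1 (h : B.C c) (e : ∀ x, c * B.f1 x = B.f1 x * c) : B.In c :=
  (B.C_iff.1 h).resolve_right fun o => up_ne B.two (o.comm1 (e _))

theorem C.cen_f1 (h : B.C c) (e : ∀ x, c * B.f1 x = B.f1 x * c) :
    ∃ (l : F) (b : M2 F), l ^ 2 * b.det = 1 ∧ c = B.ρ (l • 1) b := by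
  obtain ⟨a, b, k, rfl⟩ := in1 h e
  obtain ⟨l, -, rfl⟩ := (B.act1 k).scalar B.f1_inj e
  exact ⟨l, b, by simpa using k, rfl⟩

theorem C.cen_f2 (h : B.C c) (e : ∀ x, c * B.f2 x = B.f2 x * c) :
    ∃ (l : F) (a : M2 F), a.det * l ^ 2 = 1 ∧ c = B.ρ a (l • 1) := by
  obtain ⟨a, b, k, rfl⟩ := (B.C_iff.1 h).resolve_right fun o => up_ne B.two (o.comm2 (e _))
  obtain ⟨l, -, rfl⟩ := (B.act2 k).scalar B.f2_inj e
  exact ⟨l, a, by simpa using k, rfl⟩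

theorem C.cen_Y (h : B.C c) (e : ∀ x, c * B.f1 x = B.f1 x * c) (e' : ∀ x, c * B.f2 x = B.f2 x * c) :
    ∃ l m : F, l ^ 2 * m ^ 2 = 1 ∧ c = B.ρ (l • 1) (m • 1) := by
  obtain ⟨a, b, k, rfl⟩ := in1 h e
  obtain ⟨l, -, rfl⟩ := (B.act1 k).scalar B.f1_inj e
  obtain ⟨m, -, rfl⟩ := (B.act2 k).scalar B.f2_inj e'
  exact ⟨l, m, by simpa using k, rfl⟩

/-- The centre of `C(t)`. -/
theorem C.center (h : B.C c) (e : ∀ g, B.C g → c * g = g * c) : c = 1 ∨ c = B.t := by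
  obtain ⟨l, m, k, rfl⟩ := h.cen_Y (fun x => e _ (B.in_f1 x).C) fun x => e _ (B.in_f2 x).C
  obtain ⟨k1, e1⟩ := inσ (by simpa using k) (e _ B.C_σ)
  rwa [(B.ker k1).2 ⟨l, rfl, rfl⟩, mul_one] at e1

theorem H_In (h1 : h ∈ B.H) : B.In h := let ⟨_, _, _, _, k, e⟩ := h1; ⟨_, _, det_dg k, e⟩

theorem H_comm (h1 : h ∈ B.H) (h2 : h' ∈ B.H) : h * h' = h' * h := by
  obtain ⟨a, b, c, d, k, rfl⟩ := h1
  obtain ⟨a', b', c', d', k', rfl⟩ := h2
  exact (B.comm_iff (det_dg k) (det_dg k')).2 (Or.inl ⟨by simp [mul_comm], by simp [mul_comm]⟩)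

theorem H_pow (h1 : h ∈ B.H) : h ^ (Fintype.card F - 1) = 1 := by
  obtain ⟨a, b, c, d, k, rfl⟩ := h1
  have := left_ne_zero_of_mul_eq_one k
  have := right_ne_zero_of_mul_eq_one k
  rw [B.pow_ρ (det_dg k), diag_pow, diag_pow]
  iterate 4 rw [FiniteField.pow_card_sub_one_eq_one _ (by simp_all)]
  rw [← one_fin_two, B.ρ_one]

theorem H_p (h1 : h ∈ B.H) {k : ℕ} (e : h ^ ringChar F ^ k = 1) : h = 1 := by
  refine (pow_eq_one_iff_of_coprime (Nat.Coprime.pow_left k ?_)).1 ⟨e, H_pow h1⟩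
  obtain ⟨n, -, hn⟩ := FiniteField.card F (ringChar F)
  refine Nat.Coprime.coprime_dvd_left (hn ▸ dvd_pow_self _ n.ne_zero : ringChar F ∣ Fintype.card F) ?_
  exact (Nat.coprime_self_sub_right Fintype.card_pos).2 (Nat.coprime_one_right _)

/-- Odd order elements of `C(V)` lie in `H`. -/
theorem C.H_of_odd (h : B.C c) (e : c * B.u = B.u * c) {n : ℕ} (hn : Odd n) (e' : c ^ n = 1) :
    c ∈ B.H := by
  have o := (h.in_of_odd hn e')
  rcases h.cen_V e with k | k | k | k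
  · exact k
  · obtain ⟨m, rfl⟩ := hn
    have := mul_mem k (B.f1w_H (B.f2w_H k))
    rw [show B.f1 (wS F) * (B.f2 (wS F) * (c * B.w) * (B.f2 (wS F))⁻¹) * (B.f1 (wS F))⁻¹ =
      B.w * (c * B.w) * B.w⁻¹ by rw [w]; group, show c * B.w * (B.w * (c * B.w) * B.w⁻¹) = c * (B.w * B.w) * c by group,
      B.ww, mul_one, ← _root_.sq] at this
    rw [pow_succ, pow_mul, mul_eq_one_iff_inv_eq] at e'
    exact e' ▸ inv_mem (pow_mem this m)
  · exact absurd (o.mul_out B.out_σ) (H_In k).not_out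
  · exact absurd (o.mul_out (B.w_TZ.In.mul_out B.out_σ)) (H_In k).not_out

theorem _root_.H20.L4.T2.V_mul {x y : G} (hx : x ∈ ({1, B.t, B.u, B.t * B.u} : Set G))
    (hy : y ∈ ({1, B.t, B.u, B.t * B.u} : Set G)) : x * y ∈ ({1, B.t, B.u, B.t * B.u} : Set G) := by
  have e1 : ∀ x, B.t * (B.t * x) = x := fun x => by rw [← mul_assoc, B.tt, one_mul]
  have e2 : ∀ x, B.u * (B.t * x) = B.t * (B.u * x) := fun x => by rw [← mul_assoc, ← B.tu_comm, mul_assoc]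
  rcases hx with rfl | rfl | rfl | rfl <;> rcases hy with rfl | rfl | rfl | rfl <;>
    simp [mul_assoc, e1, e2, B.tt, B.uu, ← B.tu_comm]

theorem NV_conj (hg : g ∈ B.NV) {v : G} (hv : v = B.t ∨ v = B.u ∨ v = B.t * B.u) :
    g * v * g⁻¹ = B.t ∨ g * v * g⁻¹ = B.u ∨ g * v * g⁻¹ = B.t * B.u := by
  refine ((Subgroup.mem_set_normalizer_iff.1 hg v).1 (Or.inr hv)).resolve_left fun e => ?_
  rw [conj_eq_one_iff] at e
  rcases hv with rfl | rfl | rfl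
  exacts [B.t_ne e, B.u_TZ.ne_one e, B.u_TZ.t_mul.ne_one e]

theorem mem_NV_of (h1 : g * B.t * g⁻¹ = B.t ∨ g * B.t * g⁻¹ = B.u ∨ g * B.t * g⁻¹ = B.t * B.u)
    (h2 : g * B.u * g⁻¹ = B.t ∨ g * B.u * g⁻¹ = B.u ∨ g * B.u * g⁻¹ = B.t * B.u) :
    g ∈ B.NV := by
  refine Subgroup.mem_normalizer_fintype ?_
  rintro _ (rfl | rfl | rfl | rfl)
  exacts [Or.inl (by simp), Or.inr h1, Or.inr h2, by rw [← conj_mul]; exact V_mul (Or.inr h1) (Or.inr h2)]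

theorem H_NV (h1 : h ∈ B.H) : h ∈ B.NV :=
  mem_NV_of (Or.inl (H_In h1).C.conj_t) (Or.inr (Or.inl (mul_inv_eq_iff_eq_mul.2 (H_comm h1 B.u_H))))

/-- `N(V)` normalizes `C(V)`. -/
theorem NV_cen (hg : g ∈ B.NV) (h : B.C c) (e : c * B.u = B.u * c) :
    B.C (g * c * g⁻¹) ∧ g * c * g⁻¹ * B.u = B.u * (g * c * g⁻¹) := by
  have key : ∀ v, v = B.t ∨ v = B.u ∨ v = B.t * B.u → g * c * g⁻¹ * v = v * (g * c * g⁻¹) := fun v hv => by
    have : c * (g⁻¹ * v * g⁻¹⁻¹) = g⁻¹ * v * g⁻¹⁻¹ * c := by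
      rcases NV_conj (inv_mem hg) hv with f | f | f <;> rw [f]
      exacts [h, e, ((show Commute c _ from h).mul_right e).eq]
    rw [show g * c * g⁻¹ * v = g * (c * (g⁻¹ * v * g⁻¹⁻¹)) * g⁻¹ by group, this]; group
  exact ⟨key _ (Or.inl rfl), key _ (Or.inr (Or.inl rfl))⟩

theorem conj_NV (hg : g ∈ B.NV) : (B.conj g).NV = B.NV := by
  rw [NV, NV]
  congr 1
  ext x
  rw [Subgroup.mem_set_normalizer_iff''.1 hg x, conj_t, conj_u, conj_mul]
  simp only [Set.mem_insert_iff, Set.mem_singleton_iff, eq_mul_inv_iff_mul_eq, mul_assoc g⁻¹, inv_mul_eq_iff_eq_mul,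
    mul_one, mul_eq_right]

variable (B)
theorem f1w_NV : B.f1 (wS F) ∈ B.NV := mem_NV_of (Or.inl (B.in_f1 _).C.conj_t) (Or.inr (Or.inr B.f1w_u))
theorem f2w_NV : B.f2 (wS F) ∈ B.NV := mem_NV_of (Or.inl (B.in_f2 _).C.conj_t) (Or.inr (Or.inr B.f2w_u))
theorem σ_NV : B.σ ∈ B.NV :=
  mem_NV_of (Or.inl B.C_σ.conj_t) (Or.inr (Or.inl (mul_inv_eq_iff_eq_mul.2 B.uσ_comm.symm)))

/-- An involution of the coset `H w`. -/
theorem Hw_invol (h1 : c * B.w ∈ B.H) (e : c * c = 1) :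
    ∃ d, B.TZ d c ∧ B.TZ (-d) (c * B.u) := by
  obtain ⟨a, b, a', b', k, e1⟩ := h1
  have k1 : (!![0, a; -b, 0] : M2 F).det * (!![0, a'; -b', 0] : M2 F).det = 1 := by simpa [det_fin_two] using k
  obtain rfl : c = B.ρ !![0, a; -b, 0] !![0, a'; -b', 0] := by
    rw [← mul_one c, ← B.ww, ← mul_assoc, e1, B.w_eq, ← B.mul (det_dg k) (sl1 _ _)]
    simp [wv]
  rw [← B.mul k1 k1, B.ker (det_mul' k1 k1)] at e
  obtain ⟨l, e1, e2⟩ := e
  have e3 : a' * b' = a * b := by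
    have := congrFun (congrFun (e2.trans e1.symm) 0) 0
    simpa using this
  rw [e3] at k
  refine ⟨a * b, ⟨k, _, _, by simp [trace_fin_two], by simp [trace_fin_two], by simp [det_fin_two],
    by simp [det_fin_two, e3], rfl⟩, by rwa [neg_mul_neg], _, _, ?_, ?_, ?_, ?_, (B.mul k1 DD1).symm⟩ <;>
    simp [DD, trace_fin_two, det_fin_two, e3]

/-- `G` is not `C(t) O(G)`: some conjugate of `t` other than `t` lies in `C(t)`. -/
theorem exists_conj [Finite G] (hG : ∀ H : Subgroup G, H.index ≠ 2) :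
    ∃ c, IsConj B.t c ∧ B.C c ∧ c ≠ B.t := by
  by_contra! hc
  have top := H73.centralizer_sup_oddCore_eq_top' B.t_order fun g hg => hc _ (isConj_iff.2 ⟨g, rfl⟩) hg.eq
  refine hG (B.C0 ⊔ Cfsg.oddCore G) (Subgroup.index_eq_two_iff_exists_notMem_and.2 ⟨B.σ, fun h => ?_, fun b => ?_⟩)
  · obtain ⟨x, hx, o, ho, e⟩ := Subgroup.mem_sup_of_normal_right.1 h
    have k : B.Out o := by simpa [← e] using In.mul_out (In.inv hx) B.out_σ
    exact (k.C.in_of_odd H1.odd_card_oddCore (congrArg Subtype.val (pow_card_eq_one' (x := (⟨o, ho⟩ : Cfsg.oddCore G))))).not_out k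
  · obtain ⟨x, hx, o, ho, rfl⟩ := Subgroup.mem_sup_of_normal_right.1 (top ▸ Subgroup.mem_top b)
    rcases B.C_iff.1 (Subgroup.mem_centralizer_singleton_iff.1 hx) with k | k
    · exact Or.inr (Subgroup.mul_mem_sup k ho)
    · have := Subgroup.mul_mem_sup (S := B.C0) (k.mul_out B.out_σ) (Subgroup.Normal.conj_mem' inferInstance o ho B.σ)
      exact Or.inl (by simpa [mul_assoc] using this)

end H20.L4.Bs
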