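import Cfsg.Agent.Lib.L4Q.T1

/-! L4Q package T2, first part: involutions of `C(t)`. -/

set_option autoImplicit false
set_option linter.unusedSectionVars false

open Matrix H24
open H52.FW (M2 wS dS Act)
open scoped MatrixGroups

namespace H20.L4.T2

variable {F : Type*} [Field F] {a b x : M2 F}

theorem ne1 (h : a.det * b.det = 1) : a.det ≠ 0 := left_ne_zero_of_mul_eq_one h
theorem ne2 (h : a.det * b.det = 1) : b.det ≠ 0 := right_ne_zero_of_mul_eq_one h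
theorem det_sm (l : F) (a : M2 F) : (l • a).det = l ^ 2 * a.det := by simp
theorem det_ng (a : M2 F) : (-a).det = a.det := by simp [det_neg]
theorem sm_inj {l m : F} (e : l • (1 : M2 F) = m • 1) : l = m := by simpa using congrFun (congrFun e 0) 0
theorem wv : (wS F).1 = !![0, 1; -1, 0] := rfl
theorem dv (a : F) (ha : a ≠ 0) : (dS a ha).1 = !![a, 0; 0, a⁻¹] := rfl
theorem D_det : (DD F).det = -1 := by simp [DD, det_fin_two]
theorem D_tr : (DD F).trace = 0 := by simp [DD, trace_fin_two]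
theorem DD1 : (DD F).det * (DD F).det = 1 := by simp [D_det]
theorem sl1 (x y : SL(2, F)) : x.1.det * y.1.det = 1 := by simp

theorem not_sc (h2 : (2 : F) ≠ 0) (t : a.trace = 0) (d : a.det ≠ 0) (l : F) : a ≠ l • 1 := by
  rintro rfl
  simp [h2] at t
  simp [t] at d

theorem exists_sim (hx : x.det ≠ 0) (a : M2 F) : ∃ a', x * a = a' * x ∧ a'.trace = a.trace ∧ a'.det = a.det := by
  have e : x⁻¹ * x = 1 := nonsing_inv_mul _ hx.isUnit
  refine ⟨x * a * x⁻¹, by rw [mul_assoc, e, mul_one], by rw [trace_mul_cycle, e, one_mul], ?_⟩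
  rw [det_mul, det_mul, mul_right_comm, mul_comm x.det, ← det_mul, e, det_one, one_mul]

theorem unip_one (h2 : (2 : F) ≠ 0) (t : a.trace = 0) (d : a.det ≠ 0) {x : SL(2, F)} (tx : x.1.trace = 2)
    (e : x.1 * a = a * x.1) : x = 1 := by
  have dx := x.2
  have e00 := congrFun (congrFun e 0) 0
  have e01 := congrFun (congrFun e 0) 1
  have e10 := congrFun (congrFun e 1) 0
  simp only [mul_apply, Fin.sum_univ_two, det_fin_two, trace_fin_two] at *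
  have k : a 1 1 = -a 0 0 := by linear_combination t
  have k' : x.1 1 1 = 2 - x.1 0 0 := by linear_combination tx
  rw [k] at d e01 e10
  rw [k'] at dx e01 e10
  have f1 : (x.1 0 0 - 1) * a 0 1 = a 0 0 * x.1 0 1 := mul_left_cancel₀ h2 (by linear_combination e01)
  have f2 : x.1 1 0 * a 0 0 = (x.1 0 0 - 1) * a 1 0 := mul_left_cancel₀ h2 (by linear_combination e10)
  have s : x.1 0 0 - 1 = 0 := pow_eq_zero_iff two_ne_zero |>.1 (mul_right_cancel₀ d (by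
    linear_combination a 0 0 ^ 2 * dx - (x.1 0 0 - 1) * a 1 0 * f1 + a 0 0 * x.1 0 1 * f2))
  rw [s] at f1 f2
  have dx' : x.1 0 1 * x.1 1 0 = 0 := by linear_combination -dx - (x.1 0 0 - 1) * s
  have s1 : x.1 0 1 = 0 := pow_eq_zero_iff two_ne_zero |>.1 (mul_right_cancel₀ d (by
    linear_combination a 0 0 * x.1 0 1 * f1 - x.1 0 1 * a 0 1 * e00 - a 0 1 ^ 2 * dx'))
  have s2 : x.1 1 0 = 0 := pow_eq_zero_iff two_ne_zero |>.1 (mul_right_cancel₀ d (by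
    linear_combination -a 0 0 * x.1 1 0 * f2 + x.1 1 0 * a 1 0 * e00 - a 1 0 ^ 2 * dx'))
  ext i j
  fin_cases i <;> fin_cases j
  exacts [sub_eq_zero.1 s, s1, s2, k'.trans (show _ = (1 : F) by linear_combination -s)]

theorem up_ne (h2 : (2 : F) ≠ 0) : ¬ (upT (1 : F) = 1 ∨ upT (1 : F) = -1) := by
  rintro (e | e)
  · exact upT_ne_one one_ne_zero e
  · simpa using congrFun (congrFun (congrArg Subtype.val e) 0) 1

end H20.L4.T2

namespace H20.L4.Bs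

open T2 H52.FW

variable {G F : Type*} [Group G] [Field F] [Fintype F] {B : Bs G F} {c c' g h h' : G} {d : F}

theorem _root_.H20.L4.T2.inv_cases {a b : M2 F} (h : a.det * b.det = 1) (e : B.ρ a b * B.ρ a b = 1) (n : B.ρ a b ≠ 1) :
    B.ρ a b = B.t ∨ (a.trace = 0 ∧ b.trace = 0 ∧ b.det = a.det) ∨
      (∃ l : F, a = l • 1 ∧ b.trace = 0 ∧ b.det = -l ^ 2) ∨ ∃ l : F, b = l • 1 ∧ a.trace = 0 ∧ a.det = -l ^ 2 := by
  rw [← B.mul h h, B.ker (det_mul' h h)] at e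
  obtain ⟨l, e1, e2⟩ := e
  have k : ∀ {x : M2 F}, x * x = l • 1 → (x.trace = 0 ∧ x.det = -l) ∨ ∃ m : F, x = m • 1 ∧ l = m ^ 2 := fun {x} e =>
    (tr_or_scalar e).imp (fun t => ⟨t, by rw [← sm_inj ((sq_of_tr t).symm.trans e), _root_.neg_neg]⟩) fun s =>
      ⟨_, s, by
        generalize x 0 0 = m at s
        rw [s, smul_mul_smul_comm, mul_one] at e
        rw [← sm_inj e, sq]⟩
  rcases k e1 with ⟨t1, d1⟩ | ⟨m, rfl, rfl⟩ <;> rcases k e2 with ⟨t2, d2⟩ | ⟨m', rfl, e'⟩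
  · exact Or.inr (Or.inl ⟨t1, t2, d2.trans d1.symm⟩)
  · exact Or.inr (Or.inr (Or.inr ⟨m', rfl, t1, e' ▸ d1⟩))
  · exact Or.inr (Or.inr (Or.inl ⟨m, rfl, t2, d2⟩))
  · rcases sq_eq_sq_iff_eq_or_eq_neg.1 e' with rfl | rfl
    · exact absurd ((B.ker h).2 ⟨_, rfl, rfl⟩) n
    · have k : (m' • (1 : M2 F)).det * (m' • (1 : M2 F)).det = 1 := by rwa [neg_smul, det_ng] at h
      exact Or.inl (by rw [neg_smul, ← B.t_mul k, (B.ker k).2 ⟨_, rfl, rfl⟩, mul_one])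

theorem C.invol (h : B.C c) (e : c * c = 1) (n : c ≠ 1) :
    c = B.t ∨ (∃ d, B.TZ d c) ∨ B.S1 c ∨ B.Out c := by
  rcases B.C_iff.1 h with ⟨a, b, k, rfl⟩ | k
  · rcases inv_cases k e n with f | ⟨t1, t2, f⟩ | ⟨l, rfl, t, f⟩ | ⟨l, rfl, t, f⟩
    · exact Or.inl f
    · exact Or.inr (Or.inl ⟨a.det, by rwa [f] at k, a, b, t1, t2, rfl, f, rfl⟩)
    · exact Or.inr (Or.inr (Or.inl ⟨l, b, by rw [det_sm, f, det_one] at k; linear_combination -k, t, f, Or.inl rfl⟩))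
    · exact Or.inr (Or.inr (Or.inl ⟨l, a, by rw [det_sm, f, det_one] at k; linear_combination -k, t, f, Or.inr rfl⟩))
  · exact Or.inr (Or.inr (Or.inr k))

theorem Y.invol (h : B.Y c) (e : c * c = 1) (n : c ≠ 1) : c = B.t ∨ B.TZ 1 c := by
  obtain ⟨x, y, rfl⟩ := h
  rw [B.f12] at *
  have k : ∀ (x y : SL(2, F)) (l : F), x.1 = l • 1 → y.1.det ≠ -l ^ 2 := fun x y l e1 e2 => B.two (by
    have := x.2
    rw [e1, det_sm, det_one] at this
    linear_combination e2 - y.2 - this)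
  rcases inv_cases (sl1 x y) e n with f | ⟨t1, t2, -⟩ | ⟨l, e1, -, f⟩ | ⟨l, e1, -, f⟩
  exacts [Or.inl f, Or.inr ⟨one_mul 1, _, _, t1, t2, x.2, y.2, rfl⟩, absurd f (k x y l e1), absurd f (k y x l e1)]

theorem TZ.cases (h : B.TZ d c) : d = 1 ∨ d = -1 := mul_self_eq_one_iff.1 h.1
theorem TZ.In (h : B.TZ d c) : B.In c :=
  let ⟨e, a, b, _, _, d1, d2, f⟩ := h; ⟨a, b, by rwa [d1, d2], f⟩

theorem _root_.H20.L4.T2.tz_out (h : B.TZ d c) : ∃ a b : M2 F, a.det * b.det = 1 ∧ a.trace = 0 ∧ b.trace = 0 ∧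
    a.det = d ∧ b.det = d ∧ c = B.ρ a b :=
  let ⟨e, a, b, t1, t2, d1, d2, f⟩ := h; ⟨a, b, by rwa [d1, d2], t1, t2, d1, d2, f⟩

theorem TZ.sq (h : B.TZ d c) : c * c = 1 := by
  obtain ⟨a, b, k, t1, t2, d1, d2, rfl⟩ := tz_out h
  rw [← B.mul k k, B.ker (det_mul' k k)]
  exact ⟨-d, d1 ▸ sq_of_tr t1, d2 ▸ sq_of_tr t2⟩

theorem TZ.ne_one (h : B.TZ d c) : c ≠ 1 := by
  obtain ⟨a, b, k, t1, -, -, -, rfl⟩ := tz_out h
  exact fun e => let ⟨l, e, _⟩ := (B.ker k).1 e; not_sc B.two t1 (ne1 k) l e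

theorem TZ.t_mul (h : B.TZ d c) : B.TZ d (B.t * c) := by
  obtain ⟨a, b, k, t1, t2, d1, d2, rfl⟩ := tz_out h
  exact ⟨h.1, -a, b, by simp [t1], t2, (det_ng a).trans d1, d2, B.t_mul k⟩

theorem TZ.ne_t (h : B.TZ d c) : c ≠ B.t := fun e => h.t_mul.ne_one (by rw [e, B.tt])

theorem TZ.conj_C (h : B.TZ d c) (hg : B.C g) : B.TZ d (g * c * g⁻¹) := by
  have k1 : ∀ {c g}, B.TZ d c → B.In g → B.TZ d (g * c * g⁻¹) := by
    rintro c _ h ⟨x, y, hx, rfl⟩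
    obtain ⟨a, b, k, t1, t2, d1, d2, rfl⟩ := tz_out h
    obtain ⟨a', e1, t1', d1'⟩ := exists_sim (ne1 hx) a
    obtain ⟨b', e2, t2', d2'⟩ := exists_sim (ne2 hx) b
    exact ⟨h.1, a', b', t1'.trans t1, t2'.trans t2, d1'.trans d1, d2'.trans d2, B.conj_ρ hx k e1 e2⟩
  rcases B.C_iff.1 hg with k | ⟨x, y, hx, rfl⟩
  · exact k1 h k
  · obtain ⟨a, b, k, t1, t2, d1, d2, rfl⟩ := tz_out h
    have := k1 (⟨h.1, b, a, t2, t1, d2, d1, B.σ_conj k⟩ : B.TZ d _) ⟨x, y, hx, rfl⟩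
    rwa [show B.ρ x y * (B.σ * B.ρ a b * B.σ⁻¹) * (B.ρ x y)⁻¹ = B.ρ x y * B.σ * B.ρ a b * (B.ρ x y * B.σ)⁻¹ by group] at this

theorem TZ.conj (h : B.TZ d c) (h' : B.TZ d c') :
    ∃ x y, B.f1 x * B.f2 y * c * (B.f1 x * B.f2 y)⁻¹ = c' := by
  obtain ⟨a, b, k, t1, t2, d1, d2, rfl⟩ := tz_out h
  obtain ⟨a', b', -, t1', t2', d1', d2', rfl⟩ := tz_out h'
  obtain ⟨x, e1⟩ := exists_conj_tr B.two (ne1 k) t1 t1' (d1'.trans d1.symm)
  obtain ⟨y, e2⟩ := exists_conj_tr B.two (ne2 k) t2 t2' (d2'.trans d2.symm)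
  exact ⟨x, y, by rw [B.f12, B.conj_ρ (sl1 x y) k e1 e2]⟩

theorem TZ.exists_w (h : B.TZ d c) :
    ∃ x : SL(2, F), x * x = -1 ∧ B.f1 x * c * (B.f1 x)⁻¹ = B.t * c := by
  obtain ⟨a, b, k, t1, -, -, -, rfl⟩ := tz_out h
  obtain ⟨x, e1, e2⟩ := exists_anti B.two (ne1 k) t1
  exact ⟨x, e2, by rw [B.t_mul k]; exact B.conj_ρ (sl1 x 1) k (by rw [e1, neg_mul]) (by simp)⟩

theorem TZ.no_p (h : B.TZ d c) (hg : B.C g) (e : g * c = c * g) {k : ℕ}
    (hp : g ^ ringChar F ^ k = 1) : g = 1 := by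
  obtain ⟨a, b, hk, t1, t2, -, -, rfl⟩ := tz_out h
  obtain ⟨x, y, rfl, tx, ty⟩ := hg.unip hp
  rw [B.f12, B.comm_iff (sl1 x y) hk] at e
  rcases e with ⟨e1, e2⟩ | ⟨e1, -⟩
  · rw [unip_one B.two t1 (ne1 hk) tx e1, unip_one B.two t2 (ne2 hk) ty e2, map_one, map_one, mul_one]
  · exact absurd (tx.symm.trans (tr_of_anti B.two (ne1 hk) (by rw [e1, _root_.neg_neg]))) B.two

theorem TZ.of_sq (s : IsSquare (-1 : F)) (h : B.TZ d c) : B.TZ (-d) c := by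
  obtain ⟨a, b, k, t1, t2, d1, d2, rfl⟩ := tz_out h
  obtain ⟨i, hi⟩ := s
  exact ⟨by rw [neg_mul_neg, h.1], i • a, i • b, by simp [t1], by simp [t2], by rw [det_sm, d1, _root_.sq, ← hi, neg_one_mul],
    by rw [det_sm, d2, _root_.sq, ← hi, neg_one_mul], (B.smul_ρ k (by linear_combination (1 - i * i) * hi)).symm⟩

theorem TZ.excl (s : ¬ IsSquare (-1 : F)) (h : B.TZ 1 c) : ¬ B.TZ (-1) c := fun h' => by
  obtain ⟨a, b, k, -, -, d1, -, rfl⟩ := tz_out h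
  obtain ⟨a', b', k', -, -, d1', -, e⟩ := tz_out h'
  obtain ⟨l, -, rfl, -⟩ := (B.eq_iff k k').1 e
  exact s ⟨l, by rw [← d1', det_sm, d1, mul_one, _root_.sq]⟩

theorem _root_.H20.L4.T2.s1_out (h : B.S1 c) : ∃ (l : F) (b : M2 F), (l • (1 : M2 F)).det * b.det = 1 ∧
    b.det * (l • (1 : M2 F)).det = 1 ∧ l ^ 4 = -1 ∧ b.trace = 0 ∧ b.det = -l ^ 2 ∧
    (c = B.ρ (l • 1) b ∨ c = B.ρ b (l • 1)) :=
  let ⟨l, b, e, t, f, k⟩ := h
  have k1 : (l • (1 : M2 F)).det * b.det = 1 := by rw [det_sm, det_one, f]; linear_combination -e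
  ⟨l, b, k1, (mul_comm _ _).trans k1, e, t, f, k⟩

theorem S1.In (h : B.S1 c) : B.In c :=
  let ⟨_, _, k, k', _, _, _, e⟩ := s1_out h; e.elim (fun e => ⟨_, _, k, e⟩) fun e => ⟨_, _, k', e⟩

theorem S1.sq (h : B.S1 c) : c * c = 1 := by
  obtain ⟨l, b, k, k', -, t, f, e⟩ := s1_out h
  have e1 : l • (1 : M2 F) * l • 1 = (l ^ 2) • 1 := by simp [smul_smul, _root_.sq]
  have e2 : b * b = (l ^ 2) • 1 := by rw [sq_of_tr t, f, _root_.neg_neg]
  rcases e with rfl | rfl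
  · rw [← B.mul k k, B.ker (det_mul' k k)]; exact ⟨_, e1, e2⟩
  · rw [← B.mul k' k', B.ker (det_mul' k' k')]; exact ⟨_, e2, e1⟩

theorem S1.ne_one (h : B.S1 c) : c ≠ 1 := by
  obtain ⟨l, b, k, k', -, t, -, rfl | rfl⟩ := s1_out h
  · exact fun e => let ⟨l, _, e⟩ := (B.ker k).1 e; not_sc B.two t (ne2 k) l e
  · exact fun e => let ⟨l, e, _⟩ := (B.ker k').1 e; not_sc B.two t (ne2 k) l e

theorem S1.t_mul (h : B.S1 c) : B.S1 (B.t * c) := by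
  obtain ⟨l, b, k, k', e, t, f, e'⟩ := s1_out h
  exact ⟨l, -b, e, by simp [t], (det_ng b).trans f, e'.imp (fun e => by rw [e, B.t_mul' k]) fun e => by rw [e, B.t_mul k']⟩

theorem S1.ne_t (h : B.S1 c) : c ≠ B.t := fun e => h.t_mul.ne_one (by rw [e, B.tt])

theorem S1.exists_w (h : B.S1 c) : ∃ g, B.C g ∧ g * c * g⁻¹ = B.t * c := by
  obtain ⟨l, b, k, k', -, t, -, e⟩ := s1_out h
  obtain ⟨x, e1, -⟩ := exists_anti B.two (ne2 k) t
  rcases e with rfl | rfl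
  · exact ⟨_, B.C_ρ (sl1 1 x), by rw [B.t_mul' k]; exact B.conj_ρ (sl1 1 x) k (by simp) (by rw [e1, neg_mul])⟩
  · exact ⟨_, B.C_ρ (sl1 x 1), by rw [B.t_mul k']; exact B.conj_ρ (sl1 x 1) k' (by rw [e1, neg_mul]) (by simp)⟩

theorem S1.isSquare (h : B.S1 c) : IsSquare (-1 : F) :=
  let ⟨l, _, e, _⟩ := h; ⟨l ^ 2, by linear_combination -e⟩

theorem S1.mod8 (h : B.S1 c) : Fintype.card F % 8 = 1 := by
  obtain ⟨l, -, e, -⟩ := h
  have : Fact (Nat.Prime 2) := ⟨Nat.prime_two⟩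
  have o : orderOf l = 2 ^ (2 + 1) := orderOf_eq_prime_pow (fun f => B.two (by linear_combination e - f))
    (by linear_combination (l ^ 4 - 1) * e)
  have := orderOf_dvd_of_pow_eq_one (FiniteField.pow_card_sub_one_eq_one l (by rintro rfl; simp at e))
  rw [o] at this
  have := Fintype.card_pos (α := F)
  omega

theorem S1.comm (h : B.S1 c) :
    (∀ x, c * B.f1 x = B.f1 x * c) ∨ (∀ x, c * B.f2 x = B.f2 x * c) := by
  obtain ⟨l, b, k, k', -, -, -, rfl | rfl⟩ := s1_out h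
  exacts [Or.inl (B.act1 k).comm_of_scalar, Or.inr (B.act2 k').comm_of_scalar]

theorem S1.std (h : B.S1 c) {l : F} (hl : l ^ 4 = -1) : ∃ x y,
    B.f1 x * B.f2 y * c * (B.f1 x * B.f2 y)⁻¹ = B.ρ (l • 1) (l • DD F) ∨
    B.f1 x * B.f2 y * c * (B.f1 x * B.f2 y)⁻¹ = B.ρ (l • DD F) (l • 1) := by
  obtain ⟨m, b, k, k', e, t, f, e'⟩ := s1_out h
  have m0 : m ≠ 0 := by rintro rfl; simp at e
  have l0 : l ≠ 0 := by rintro rfl; simp at hl
  have e4 : (l / m) ^ 4 = 1 := by rw [div_pow, hl, e]; simp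
  obtain ⟨x, e1⟩ := exists_conj_tr0 (h := l • DD F) B.two (ne2 k) t (by simp [D_tr]) (div_ne_zero l0 m0) (by
    rw [det_sm, D_det, f]; field_simp)
  have e2 : (l / m) • m • (1 : M2 F) = l • 1 := by rw [smul_smul, div_mul_cancel₀ _ m0]
  have k1 : ((l / m) • m • (1 : M2 F)).det * ((l / m) • b).det = 1 := by
    rw [det_sm, det_sm (l / m)]; linear_combination (m • (1 : M2 F)).det * b.det * e4 + k
  rcases e' with rfl | rfl
  · exact ⟨1, x, Or.inl (by rw [B.f12, ← B.smul_ρ k e4]; exact B.conj_ρ (sl1 1 x) k1 (by simp [e2]) e1)⟩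
  · exact ⟨x, 1, Or.inr (by
      rw [B.f12, ← B.smul_ρ k' e4]; exact B.conj_ρ (sl1 x 1) ((mul_comm _ _).trans k1) e1 (by simp [e2]))⟩

end H20.L4.Bs
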